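import Cfsg.Agent.H1.OnCd.D0

/-! Generated by tools/h0/tr.py. -/

set_option maxRecDepth 100000
set_option maxHeartbeats 0

namespace H1.Oc
open H16 H0.TR
open scoped Pointwise

open H1.Am

theorem md_b : ltAll 448 H1.OnC.B = 0 ∧ 161280 ≠ 0 := by decide +kernel
theorem a_lt : allL (ltAll 4) a_W = true := by decide +kernel
theorem a_m_a : allZ2 (matEnt (wdsP H1.OnC.P a_W) a_P) (nat_lit 27) (nat_lit 448) = true := by decide +kernel
theorem rc : allL (fixL H1.OnC.P 4 H1.OnC.B) H1.OnC.Rl = true := by decide +kernel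
theorem p2t_lt : allL (ltAll 4) p2t_W = true := by decide +kernel
theorem p2_r_a : allZ2 (resEnt p2t_P p2P p2E p2I (nat_lit 448) (nat_lit 320)) (nat_lit 9) (nat_lit 320) = true := by decide +kernel
theorem p2_b : neL H1.OnC.B (p2B.map p2E) = 0 ∧ ltAll 320 p2B = 0 := by decide +kernel
theorem p2_p : allZ2 (pcEnt p2P (nat_lit 2) p2B p2C) 9 9 = true := by decide +kernel
theorem p2_e : allL (ltAll 9) p2e = true := by decide +kernel
theorem p2l0_e_0 : allZ (dent p2l0 (wdsP p2P p2e) (nat_lit 320)) (nat_lit 0) (nat_lit 63) = true := by decide +kernel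
theorem p2l0_h : 0 < p2l0.n ∧ 0 < p2l0.K ∧ p2l0.Pt 0 < 320 ∧ p2l0.Q (p2l0.Pt 0) = 0 := by decide +kernel
theorem p2l1_e_0 : allZ (dent p2l1 (wdsP p2P p2e) (nat_lit 320)) (nat_lit 0) (nat_lit 1) = true := by decide +kernel
theorem p2l1_h : 0 < p2l1.n ∧ 0 < p2l1.K ∧ p2l1.Pt 0 < 320 ∧ p2l1.Q (p2l1.Pt 0) = 0 := by decide +kernel
theorem p2l2_e_0 : allZ (dent p2l2 (wdsP p2P p2e) (nat_lit 320)) (nat_lit 0) (nat_lit 3) = true := by decide +kernel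
theorem p2l2_h : 0 < p2l2.n ∧ 0 < p2l2.K ∧ p2l2.Pt 0 < 320 ∧ p2l2.Q (p2l2.Pt 0) = 0 := by decide +kernel
theorem p2_f2 : (Nat.ble p2l2.K 16 && Nat.ble (topK []) p2l2.K && fixLetters (wdsP p2P p2e) (topK []) (p2l2.Pt 0)) = true := by decide +kernel
theorem p2_f1 : (Nat.ble p2l1.K 16 && Nat.ble (topK [p2l2]) p2l1.K && fixLetters (wdsP p2P p2e) (topK [p2l2]) (p2l1.Pt 0)) = true := by decide +kernel
theorem p2_f0 : (Nat.ble p2l0.K 16 && Nat.ble (topK [p2l1, p2l2]) p2l0.K && fixLetters (wdsP p2P p2e) (topK [p2l1, p2l2]) (p2l0.Pt 0)) = true := by decide +kernel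
theorem p2_c : chainCard [p2l0, p2l1, p2l2] = 2 ^ 9 ∧ ¬ 2 ^ (9 + 1) ∣ 161280 := by decide +kernel
theorem covr_lt : allL (ltAll 4) covr_W = true := by decide +kernel
theorem cov_c0 : (Nat.ble 9 9 && Nat.beq (ltAll 9 []) 0 && Nat.beq (covT0.chk H1.OnC.P p2P covr_P p2E 4 9 2 2 3 p2B 9 [] 0) 0) = true := by decide +kernel
theorem x_lt : allL (ltAll 4) x_W = true := by decide +kernel
theorem txh_lt : allL (ltAll 4) txh_W = true := by decide +kernel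
theorem txl0_e_0 : allZ (dent txl0 txh_P (nat_lit 448)) (nat_lit 0) (nat_lit 447) = true := by decide +kernel
theorem txl0_h : 0 < txl0.n ∧ 0 < txl0.K ∧ txl0.Pt 0 < 448 ∧ txl0.Q (txl0.Pt 0) = 0 := by decide +kernel
theorem txl1_e_0 : allZ (dent txl1 txh_P (nat_lit 448)) (nat_lit 0) (nat_lit 9) = true := by decide +kernel
theorem txl1_h : 0 < txl1.n ∧ 0 < txl1.K ∧ txl1.Pt 0 < 448 ∧ txl1.Q (txl1.Pt 0) = 0 := by decide +kernel
theorem txl2_e_0 : allZ (dent txl2 txh_P (nat_lit 448)) (nat_lit 0) (nat_lit 8) = true := by decide +kernel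
theorem txl2_h : 0 < txl2.n ∧ 0 < txl2.K ∧ txl2.Pt 0 < 448 ∧ txl2.Q (txl2.Pt 0) = 0 := by decide +kernel
theorem txl3_e_0 : allZ (dent txl3 txh_P (nat_lit 448)) (nat_lit 0) (nat_lit 3) = true := by decide +kernel
theorem txl3_h : 0 < txl3.n ∧ 0 < txl3.K ∧ txl3.Pt 0 < 448 ∧ txl3.Q (txl3.Pt 0) = 0 := by decide +kernel
theorem tx_f3 : (Nat.ble txl3.K 8 && Nat.ble (topK []) txl3.K && fixLetters txh_P (topK []) (txl3.Pt 0)) = true := by decide +kernel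
theorem tx_f2 : (Nat.ble txl2.K 8 && Nat.ble (topK [txl3]) txl2.K && fixLetters txh_P (topK [txl3]) (txl2.Pt 0)) = true := by decide +kernel
theorem tx_f1 : (Nat.ble txl1.K 8 && Nat.ble (topK [txl2, txl3]) txl1.K && fixLetters txh_P (topK [txl2, txl3]) (txl1.Pt 0)) = true := by decide +kernel
theorem tx_f0 : (Nat.ble txl0.K 8 && Nat.ble (topK [txl1, txl2, txl3]) txl0.K && fixLetters txh_P (topK [txl1, txl2, txl3]) (txl0.Pt 0)) = true := by decide +kernel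
theorem tx_c : chainCard [txl0, txl1, txl2, txl3] = 161280 := by decide +kernel
theorem cxe_lt : allL (ltAll 4) cxe_W = true := by decide +kernel
theorem cxc3_e_0 : allZ (dent cxc3 cxe_P (nat_lit 448)) (nat_lit 0) (nat_lit 1) = true := by decide +kernel
theorem cxc3_h : 0 < cxc3.n ∧ 0 < cxc3.K ∧ cxc3.Pt 0 < 448 ∧ cxc3.Q (cxc3.Pt 0) = 0 := by decide +kernel
theorem txn0_0 : (Nat.ble txl3.K 8 && Nat.beq (ltAll 448 [txl2.Pt 0, txl1.Pt 0, txl0.Pt 0]) 0 && kChk cxe_P x_P txn0.Kn 1 H1.OnC.B [txl2.Pt 0, txl1.Pt 0, txl0.Pt 0] && allL (ltAll 1) txn0.pre && planOK txh_P x_P 1 (txl3.Pt 0) txn0.plan [txl3]) = true := by decide +kernel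
theorem txn0_1_0 : allZ (txn0.ent H1.OnC.P txh_P x_P x_P cxe_P (nat_lit 4) (nat_lit 1) H1.OnC.B txl3 [] (memO cxc3)) (nat_lit 0) (nat_lit 4) = true := by decide +kernel
theorem cx_f3 : (Nat.ble cxc3.K 4 && Nat.ble (topK []) cxc3.K && Nat.beq (cxc3.Pt 0) (txl3.Pt 0) && Nat.beq (ltAll 448 [txl2.Pt 0, txl1.Pt 0, txl0.Pt 0]) 0 && kChk cxe_P x_P cxc3.K 1 H1.OnC.B [txl2.Pt 0, txl1.Pt 0, txl0.Pt 0]) = true := by decide +kernel
theorem cx_f2 : (Nat.ble txl2.K 8 && Nat.blt (nat_lit 0) 448 && fixLetters txh_P txl2.K (nat_lit 0) && Nat.beq (ltAll 1 [nat_lit 0]) 0 && Nat.beq (apW x_P [nat_lit 0] (nat_lit 0)) (txl2.Pt 0)) = true := by decide +kernel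
theorem cxc1_e_0 : allZ (dent cxc1 cxe_P (nat_lit 448)) (nat_lit 0) (nat_lit 3) = true := by decide +kernel
theorem cxc1_h : 0 < cxc1.n ∧ 0 < cxc1.K ∧ cxc1.Pt 0 < 448 ∧ cxc1.Q (cxc1.Pt 0) = 0 := by decide +kernel
theorem txn1y208_lt : allL (ltAll 4) txn1y208_W = true := by decide +kernel
theorem txr2k_lt : allL (ltAll 4) txr2k_W = true := by decide +kernel
theorem txn2_0 : (Nat.ble txl3.K 8 && Nat.beq (ltAll 448 [txl2.Pt 0, txl1.Pt 0, txl0.Pt 0]) 0 && kChk txr2k_P txn1y208_P txn2.Kn 1 H1.OnC.B [txl2.Pt 0, txl1.Pt 0, txl0.Pt 0] && allL (ltAll 1) txn2.pre && planOK txh_P x_P 1 (txl3.Pt 0) txn2.plan [txl3]) = true := by decide +kernel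
theorem txn2_1_0 : allZ (txn2.ent H1.OnC.P txh_P x_P txn1y208_P txr2k_P (nat_lit 4) (nat_lit 1) H1.OnC.B txl3 [] (fun _ => nat_lit 1)) (nat_lit 0) (nat_lit 4) = true := by decide +kernel
theorem txn1_0 : (Nat.ble txl1.K 8 && Nat.beq (ltAll 448 [txl0.Pt 0]) 0 && kChk cxe_P x_P txn1.Kn 1 H1.OnC.B [txl0.Pt 0] && allL (ltAll 1) txn1.pre && planOK txh_P x_P 1 (txl1.Pt 0) txn1.plan [txl1, txl2, txl3]) = true := by decide +kernel
theorem txn1_1_0 : allZ (txn1.ent H1.OnC.P txh_P x_P x_P cxe_P (nat_lit 4) (nat_lit 1) H1.OnC.B txl1 [txl2, txl3] (memO cxc1)) (nat_lit 0) (nat_lit 10) = true := by decide +kernel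
theorem cx_f1 : (Nat.ble cxc1.K 4 && Nat.ble (topK [cxc3]) cxc1.K && Nat.beq (cxc1.Pt 0) (txl1.Pt 0) && Nat.beq (ltAll 448 [txl0.Pt 0]) 0 && kChk cxe_P x_P cxc1.K 1 H1.OnC.B [txl0.Pt 0]) = true := by decide +kernel
theorem cxc0_e_0 : allZ (dent cxc0 cxe_P (nat_lit 448)) (nat_lit 0) (nat_lit 31) = true := by decide +kernel
theorem cxc0_h : 0 < cxc0.n ∧ 0 < cxc0.K ∧ cxc0.Pt 0 < 448 ∧ cxc0.Q (cxc0.Pt 0) = 0 := by decide +kernel
theorem txn3_0 : (Nat.ble txl0.K 8 && Nat.beq (ltAll 448 []) 0 && kChk cxe_P x_P txn3.Kn 1 H1.OnC.B [] && allL (ltAll 1) txn3.pre && planOK txh_P x_P 1 (txl0.Pt 0) txn3.plan [txl0, txl1, txl2, txl3]) = true := by decide +kernel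
theorem txn3_1_0 : allZ (txn3.ent H1.OnC.P txh_P x_P x_P cxe_P (nat_lit 4) (nat_lit 1) H1.OnC.B txl0 [txl1, txl2, txl3] (memO cxc0)) (nat_lit 0) (nat_lit 448) = true := by decide +kernel
theorem cx_f0 : (Nat.ble cxc0.K 4 && Nat.ble (topK [cxc1, cxc3]) cxc0.K && Nat.beq (cxc0.Pt 0) (txl0.Pt 0) && Nat.beq (ltAll 448 []) 0 && kChk cxe_P x_P cxc0.K 1 H1.OnC.B []) = true := by decide +kernel
theorem cx_c : chainCard [cxc0, cxc1, cxc3] = 256 ∧ topK [cxc0, cxc1, cxc3] = 4 := by decide +kernel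
theorem y_lt : allL (ltAll 4) y_W = true := by decide +kernel
theorem tyh_lt : allL (ltAll 4) tyh_W = true := by decide +kernel
theorem tyl0_e_0 : allZ (dent tyl0 tyh_P (nat_lit 448)) (nat_lit 0) (nat_lit 447) = true := by decide +kernel
theorem tyl0_h : 0 < tyl0.n ∧ 0 < tyl0.K ∧ tyl0.Pt 0 < 448 ∧ tyl0.Q (tyl0.Pt 0) = 0 := by decide +kernel
theorem tyl1_e_0 : allZ (dent tyl1 tyh_P (nat_lit 448)) (nat_lit 0) (nat_lit 89) = true := by decide +kernel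
theorem tyl1_h : 0 < tyl1.n ∧ 0 < tyl1.K ∧ tyl1.Pt 0 < 448 ∧ tyl1.Q (tyl1.Pt 0) = 0 := by decide +kernel
theorem tyl2_e_0 : allZ (dent tyl2 tyh_P (nat_lit 448)) (nat_lit 0) (nat_lit 3) = true := by decide +kernel
theorem tyl2_h : 0 < tyl2.n ∧ 0 < tyl2.K ∧ tyl2.Pt 0 < 448 ∧ tyl2.Q (tyl2.Pt 0) = 0 := by decide +kernel
theorem ty_f2 : (Nat.ble tyl2.K 6 && Nat.ble (topK []) tyl2.K && fixLetters tyh_P (topK []) (tyl2.Pt 0)) = true := by decide +kernel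
theorem ty_f1 : (Nat.ble tyl1.K 6 && Nat.ble (topK [tyl2]) tyl1.K && fixLetters tyh_P (topK [tyl2]) (tyl1.Pt 0)) = true := by decide +kernel
theorem ty_f0 : (Nat.ble tyl0.K 6 && Nat.ble (topK [tyl1, tyl2]) tyl0.K && fixLetters tyh_P (topK [tyl1, tyl2]) (tyl0.Pt 0)) = true := by decide +kernel
theorem ty_c : chainCard [tyl0, tyl1, tyl2] = 161280 := by decide +kernel
theorem cye_lt : allL (ltAll 4) cye_W = true := by decide +kernel
theorem cyc2_e_0 : allZ (dent cyc2 cye_P (nat_lit 448)) (nat_lit 0) (nat_lit 1) = true := by decide +kernel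
theorem cyc2_h : 0 < cyc2.n ∧ 0 < cyc2.K ∧ cyc2.Pt 0 < 448 ∧ cyc2.Q (cyc2.Pt 0) = 0 := by decide +kernel
theorem tyn0_0 : (Nat.ble tyl2.K 6 && Nat.beq (ltAll 448 [tyl1.Pt 0, tyl0.Pt 0]) 0 && kChk cye_P y_P tyn0.Kn 1 H1.OnC.B [tyl1.Pt 0, tyl0.Pt 0] && allL (ltAll 1) tyn0.pre && planOK tyh_P y_P 1 (tyl2.Pt 0) tyn0.plan [tyl2]) = true := by decide +kernel
theorem tyn0_1_0 : allZ (tyn0.ent H1.OnC.P tyh_P y_P y_P cye_P (nat_lit 4) (nat_lit 1) H1.OnC.B tyl2 [] (memO cyc2)) (nat_lit 0) (nat_lit 4) = true := by decide +kernel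
theorem cy_f2 : (Nat.ble cyc2.K 5 && Nat.ble (topK []) cyc2.K && Nat.beq (cyc2.Pt 0) (tyl2.Pt 0) && Nat.beq (ltAll 448 [tyl1.Pt 0, tyl0.Pt 0]) 0 && kChk cye_P y_P cyc2.K 1 H1.OnC.B [tyl1.Pt 0, tyl0.Pt 0]) = true := by decide +kernel
theorem cy_f1 : (Nat.ble tyl1.K 6 && Nat.blt (nat_lit 0) 448 && fixLetters tyh_P tyl1.K (nat_lit 0) && Nat.beq (ltAll 1 [nat_lit 0]) 0 && Nat.beq (apW y_P [nat_lit 0] (nat_lit 0)) (tyl1.Pt 0)) = true := by decide +kernel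
theorem cyc0_e_0 : allZ (dent cyc0 cye_P (nat_lit 448)) (nat_lit 0) (nat_lit 71) = true := by decide +kernel
theorem cyc0_h : 0 < cyc0.n ∧ 0 < cyc0.K ∧ cyc0.Pt 0 < 448 ∧ cyc0.Q (cyc0.Pt 0) = 0 := by decide +kernel
theorem tyn1y260_lt : allL (ltAll 4) tyn1y260_W = true := by decide +kernel
theorem tyr2k_lt : allL (ltAll 4) tyr2k_W = true := by decide +kernel
theorem tyn2_0 : (Nat.ble tyl2.K 6 && Nat.beq (ltAll 448 [tyl1.Pt 0, tyl0.Pt 0]) 0 && kChk tyr2k_P tyn1y260_P tyn2.Kn 1 H1.OnC.B [tyl1.Pt 0, tyl0.Pt 0] && allL (ltAll 1) tyn2.pre && planOK tyh_P y_P 1 (tyl2.Pt 0) tyn2.plan [tyl2]) = true := by decide +kernel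
theorem tyn2_1_0 : allZ (tyn2.ent H1.OnC.P tyh_P y_P tyn1y260_P tyr2k_P (nat_lit 4) (nat_lit 1) H1.OnC.B tyl2 [] (fun _ => nat_lit 1)) (nat_lit 0) (nat_lit 4) = true := by decide +kernel
theorem tyn1_0 : (Nat.ble tyl0.K 6 && Nat.beq (ltAll 448 []) 0 && kChk cye_P y_P tyn1.Kn 1 H1.OnC.B [] && allL (ltAll 1) tyn1.pre && planOK tyh_P y_P 1 (tyl0.Pt 0) tyn1.plan [tyl0, tyl1, tyl2]) = true := by decide +kernel
theorem tyn1_1_0 : allZ (tyn1.ent H1.OnC.P tyh_P y_P y_P cye_P (nat_lit 4) (nat_lit 1) H1.OnC.B tyl0 [tyl1, tyl2] (memO cyc0)) (nat_lit 0) (nat_lit 448) = true := by decide +kernel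
theorem cy_f0 : (Nat.ble cyc0.K 5 && Nat.ble (topK [cyc2]) cyc0.K && Nat.beq (cyc0.Pt 0) (tyl0.Pt 0) && Nat.beq (ltAll 448 []) 0 && kChk cye_P y_P cyc0.K 1 H1.OnC.B []) = true := by decide +kernel
theorem cy_c : chainCard [cyc0, cyc2] = 144 ∧ topK [cyc0, cyc2] = 5 := by decide +kernel
theorem z_lt : allL (ltAll 4) z_W = true := by decide +kernel
theorem tzh_lt : allL (ltAll 4) tzh_W = true := by decide +kernel
theorem tzl0_e_0 : allZ (dent tzl0 tzh_P (nat_lit 448)) (nat_lit 0) (nat_lit 447) = true := by decide +kernel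
theorem tzl0_h : 0 < tzl0.n ∧ 0 < tzl0.K ∧ tzl0.Pt 0 < 448 ∧ tzl0.Q (tzl0.Pt 0) = 0 := by decide +kernel
theorem tzl1_e_0 : allZ (dent tzl1 tzh_P (nat_lit 448)) (nat_lit 0) (nat_lit 89) = true := by decide +kernel
theorem tzl1_h : 0 < tzl1.n ∧ 0 < tzl1.K ∧ tzl1.Pt 0 < 448 ∧ tzl1.Q (tzl1.Pt 0) = 0 := by decide +kernel
theorem tzl2_e_0 : allZ (dent tzl2 tzh_P (nat_lit 448)) (nat_lit 0) (nat_lit 3) = true := by decide +kernel
theorem tzl2_h : 0 < tzl2.n ∧ 0 < tzl2.K ∧ tzl2.Pt 0 < 448 ∧ tzl2.Q (tzl2.Pt 0) = 0 := by decide +kernel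
theorem tz_f2 : (Nat.ble tzl2.K 6 && Nat.ble (topK []) tzl2.K && fixLetters tzh_P (topK []) (tzl2.Pt 0)) = true := by decide +kernel
theorem tz_f1 : (Nat.ble tzl1.K 6 && Nat.ble (topK [tzl2]) tzl1.K && fixLetters tzh_P (topK [tzl2]) (tzl1.Pt 0)) = true := by decide +kernel
theorem tz_f0 : (Nat.ble tzl0.K 6 && Nat.ble (topK [tzl1, tzl2]) tzl0.K && fixLetters tzh_P (topK [tzl1, tzl2]) (tzl0.Pt 0)) = true := by decide +kernel
theorem tz_c : chainCard [tzl0, tzl1, tzl2] = 161280 := by decide +kernel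
theorem cze_lt : allL (ltAll 4) cze_W = true := by decide +kernel
theorem czc2_e_0 : allZ (dent czc2 cze_P (nat_lit 448)) (nat_lit 0) (nat_lit 1) = true := by decide +kernel
theorem czc2_h : 0 < czc2.n ∧ 0 < czc2.K ∧ czc2.Pt 0 < 448 ∧ czc2.Q (czc2.Pt 0) = 0 := by decide +kernel
theorem tzn0_0 : (Nat.ble tzl2.K 6 && Nat.beq (ltAll 448 [tzl1.Pt 0, tzl0.Pt 0]) 0 && kChk cze_P z_P tzn0.Kn 1 H1.OnC.B [tzl1.Pt 0, tzl0.Pt 0] && allL (ltAll 1) tzn0.pre && planOK tzh_P z_P 1 (tzl2.Pt 0) tzn0.plan [tzl2]) = true := by decide +kernel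
theorem tzn0_1_0 : allZ (tzn0.ent H1.OnC.P tzh_P z_P z_P cze_P (nat_lit 4) (nat_lit 1) H1.OnC.B tzl2 [] (memO czc2)) (nat_lit 0) (nat_lit 4) = true := by decide +kernel
theorem cz_f2 : (Nat.ble czc2.K 4 && Nat.ble (topK []) czc2.K && Nat.beq (czc2.Pt 0) (tzl2.Pt 0) && Nat.beq (ltAll 448 [tzl1.Pt 0, tzl0.Pt 0]) 0 && kChk cze_P z_P czc2.K 1 H1.OnC.B [tzl1.Pt 0, tzl0.Pt 0]) = true := by decide +kernel
theorem cz_f1 : (Nat.ble tzl1.K 6 && Nat.blt (nat_lit 0) 448 && fixLetters tzh_P tzl1.K (nat_lit 0) && Nat.beq (ltAll 1 [nat_lit 0]) 0 && Nat.beq (apW z_P [nat_lit 0] (nat_lit 0)) (tzl1.Pt 0)) = true := by decide +kernel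
theorem czc0_e_0 : allZ (dent czc0 cze_P (nat_lit 448)) (nat_lit 0) (nat_lit 71) = true := by decide +kernel
theorem czc0_h : 0 < czc0.n ∧ 0 < czc0.K ∧ czc0.Pt 0 < 448 ∧ czc0.Q (czc0.Pt 0) = 0 := by decide +kernel
theorem tzn1y2_lt : allL (ltAll 4) tzn1y2_W = true := by decide +kernel
theorem tzr2k_lt : allL (ltAll 4) tzr2k_W = true := by decide +kernel
theorem tzn2_0 : (Nat.ble tzl2.K 6 && Nat.beq (ltAll 448 [tzl1.Pt 0, tzl0.Pt 0]) 0 && kChk tzr2k_P tzn1y2_P tzn2.Kn 1 H1.OnC.B [tzl1.Pt 0, tzl0.Pt 0] && allL (ltAll 1) tzn2.pre && planOK tzh_P z_P 1 (tzl2.Pt 0) tzn2.plan [tzl2]) = true := by decide +kernel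
theorem tzn2_1_0 : allZ (tzn2.ent H1.OnC.P tzh_P z_P tzn1y2_P tzr2k_P (nat_lit 4) (nat_lit 1) H1.OnC.B tzl2 [] (fun _ => nat_lit 1)) (nat_lit 0) (nat_lit 4) = true := by decide +kernel
theorem tzn1_0 : (Nat.ble tzl0.K 6 && Nat.beq (ltAll 448 []) 0 && kChk cze_P z_P tzn1.Kn 1 H1.OnC.B [] && allL (ltAll 1) tzn1.pre && planOK tzh_P z_P 1 (tzl0.Pt 0) tzn1.plan [tzl0, tzl1, tzl2]) = true := by decide +kernel
theorem tzn1_1_0 : allZ (tzn1.ent H1.OnC.P tzh_P z_P z_P cze_P (nat_lit 4) (nat_lit 1) H1.OnC.B tzl0 [tzl1, tzl2] (memO czc0)) (nat_lit 0) (nat_lit 448) = true := by decide +kernel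
theorem cz_f0 : (Nat.ble czc0.K 4 && Nat.ble (topK [czc2]) czc0.K && Nat.beq (czc0.Pt 0) (tzl0.Pt 0) && Nat.beq (ltAll 448 []) 0 && kChk cze_P z_P czc0.K 1 H1.OnC.B []) = true := by decide +kernel
theorem cz_c : chainCard [czc0, czc2] = 144 ∧ topK [czc0, czc2] = 4 := by decide +kernel
theorem x_e : nth [] x_W 0 = nth [] a_W 2 ∧ nth [] y_W 0 = nth [] a_W 19 ∧ nth [] z_W 0 = nth [] a_W 20 ∧ eqL H1.OnC.P 4 H1.OnC.B (nth [] covr_W 0) (nth [] a_W 3) = 0 ∧ eqL H1.OnC.P 4 H1.OnC.B (nth [] covr_W 1) (nth [] a_W 2) = 0 ∧ eqL H1.OnC.P 4 H1.OnC.B (nth [] covr_W 2) (nth [] a_W 1) = 0 ∧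
    H15.CS.comL H1.OnC.P 4 H1.OnC.B (nth [] a_W 3) = true ∧ nth [] a_W 2 = H1.Ob.aW ∧ nth [] a_W 3 = H1.Ob.fW ∧ (∀ k < 4, nth [] a_W (8 + k) = [k]) ∧ a_W.length = 27 := by decide +kernel
theorem d_a : d_W.length = 256 ∧ incr κ d_W 0 = true := by decide +kernel
theorem d_b : allB (allB (mem [nat_lit 0, nat_lit 1, nat_lit 6, nat_lit 7, nat_lit 12, nat_lit 13, nat_lit 14, nat_lit 16])) d_W = true ∧ allB (fun k => allB (fun Z => cjK κ [k] Z Z) [[nat_lit 2]]) [nat_lit 0, nat_lit 1, nat_lit 6, nat_lit 7, nat_lit 12, nat_lit 13, nat_lit 14, nat_lit 16] = true := by decide +kernel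
theorem v : subK (fun W => cjAll κ W [[nat_lit 15]] [[nat_lit 15]]) d_W v_W = true := by decide +kernel
theorem j1 : allB (actK κ [[[nat_lit 0, nat_lit 1],
  [nat_lit 1],
  [nat_lit 2]], [[nat_lit 0],
  [nat_lit 1],
  [nat_lit 2]]] [[nat_lit 12],
  [nat_lit 3],
  [nat_lit 2]]) d_W = true := by decide +kernel
theorem j2 : allB (actK κ [[[nat_lit 0],
  [nat_lit 1, nat_lit 2],
  [nat_lit 2],
  [nat_lit 3]], [[nat_lit 0, nat_lit 3],
  [nat_lit 1, nat_lit 2],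
  [nat_lit 2],
  [nat_lit 3]], [[nat_lit 0],
  [nat_lit 1],
  [nat_lit 2],
  [nat_lit 3]], [[nat_lit 0, nat_lit 3],
  [nat_lit 1],
  [nat_lit 2],
  [nat_lit 3]]] [[nat_lit 13],
  [nat_lit 12],
  [nat_lit 3],
  [nat_lit 2]]) d_W = true := by decide +kernel
theorem j3 : allB (actK κ [[[nat_lit 0, nat_lit 0, nat_lit 0, nat_lit 1, nat_lit 3],
  [nat_lit 1],
  [nat_lit 2, nat_lit 3],
  [nat_lit 3],
  [nat_lit 4]], [[nat_lit 0, nat_lit 1, nat_lit 2],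
  [nat_lit 1, nat_lit 4],
  [nat_lit 2, nat_lit 3],
  [nat_lit 3],
  [nat_lit 4]], [[nat_lit 0],
  [nat_lit 1],
  [nat_lit 2],
  [nat_lit 3],
  [nat_lit 4]], [[nat_lit 0, nat_lit 0, nat_lit 0, nat_lit 2, nat_lit 4],
  [nat_lit 1, nat_lit 4],
  [nat_lit 2],
  [nat_lit 3],
  [nat_lit 4]]] [[nat_lit 14],
  [nat_lit 13],
  [nat_lit 12],
  [nat_lit 3],
  [nat_lit 2]]) d_W = true := by decide +kernel
theorem b_r : allB (fun r => eqK κ (fl bM r) []) H1.OnC.Rl = true ∧ eqK κ (fl bM H1.Ob.fW) [3] = true ∧ allL (ltAll 4) bV = true ∧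
    allB (fun k => eqK κ (fl bM (nth [] bV k)) [8 + k]) (List.range 4) = true := by decide +kernel
theorem b_t : (List.length ((tU.map (fl a_W)).map (fl bM)) = List.length [[nat_lit 0, nat_lit 12, nat_lit 14, nat_lit 14],
  [nat_lit 1],
  [nat_lit 13, nat_lit 13],
  [nat_lit 0, nat_lit 16],
  [],
  [],
  [nat_lit 6],
  [nat_lit 7]] ∧ cjAll κ [] ((tU.map (fl a_W)).map (fl bM)) [[nat_lit 0, nat_lit 12, nat_lit 14, nat_lit 14],
  [nat_lit 1],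
  [nat_lit 13, nat_lit 13],
  [nat_lit 0, nat_lit 16],
  [],
  [],
  [nat_lit 6],
  [nat_lit 7]] = true) ∧
    List.length [[nat_lit 1],
  [nat_lit 0, nat_lit 12, nat_lit 14, nat_lit 14],
  [nat_lit 0, nat_lit 16],
  [nat_lit 13, nat_lit 13],
  [],
  [],
  [nat_lit 6],
  [nat_lit 7]] = List.length ((tV.map (fl a_W)).map (fl bM)) ∧ cjAll κ [] [[nat_lit 1],
  [nat_lit 0, nat_lit 12, nat_lit 14, nat_lit 14],
  [nat_lit 0, nat_lit 16],
  [nat_lit 13, nat_lit 13],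
  [],
  [],
  [nat_lit 6],
  [nat_lit 7]] ((tV.map (fl a_W)).map (fl bM)) = true := by decide +kernel
theorem m1 : trK κ [nat_lit 12] [[nat_lit 3],
  [nat_lit 2]] [[nat_lit 2],
  [nat_lit 3]] [[nat_lit 3],
  [nat_lit 2]] [[nat_lit 3],
  [nat_lit 2]] ([[nat_lit 1],
  [nat_lit 0]], [[nat_lit 1],
  [nat_lit 0]]) = true := by decide +kernel
theorem i1 : allB (fun Y => cjAll κ Y [[nat_lit 2],
  [nat_lit 3]] [[nat_lit 2],
  [nat_lit 3]]) [[nat_lit 0],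
  [nat_lit 1],
  [nat_lit 6]] = true ∧
    subK (fun W => allB (actK κ [[[nat_lit 0, nat_lit 1],
  [nat_lit 1],
  [nat_lit 2]], [[nat_lit 0],
  [nat_lit 1],
  [nat_lit 2]]] (W :: [[nat_lit 2],
  [nat_lit 3]])) [[nat_lit 0],
  [nat_lit 1],
  [nat_lit 6]]) d_W i1_W = true := by decide +kernel
theorem s1 : dead κ ([nat_lit 12] :: [[nat_lit 3],
  [nat_lit 2]]) [[nat_lit 0, nat_lit 0, nat_lit 1]] [] = false ∧ stepK κ [[nat_lit 2],
  [nat_lit 3]] [[nat_lit 0, nat_lit 0, nat_lit 1]] [] [[nat_lit 13],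
  [nat_lit 0, nat_lit 13, nat_lit 16]] i1_W s1_L = true := by decide +kernel
theorem m20 : trK κ [nat_lit 13] [[nat_lit 12],
  [nat_lit 3],
  [nat_lit 2]] [[nat_lit 13],
  [nat_lit 2],
  [nat_lit 3]] [[nat_lit 3],
  [nat_lit 2]] [[nat_lit 3],
  [nat_lit 2]] ([[nat_lit 2],
  [nat_lit 1]], [[nat_lit 2],
  [nat_lit 1]]) = true := by decide +kernel
theorem i20 : allB (fun Y => cjAll κ Y [[nat_lit 2],
  [nat_lit 3]] [[nat_lit 2],
  [nat_lit 3]]) [[nat_lit 0],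
  [nat_lit 1],
  [nat_lit 6]] = true ∧
    subK (fun W => allB (actK κ [[[nat_lit 0],
  [nat_lit 1, nat_lit 2],
  [nat_lit 2],
  [nat_lit 3]], [[nat_lit 0, nat_lit 3],
  [nat_lit 1, nat_lit 2],
  [nat_lit 2],
  [nat_lit 3]], [[nat_lit 0],
  [nat_lit 1],
  [nat_lit 2],
  [nat_lit 3]], [[nat_lit 0, nat_lit 3],
  [nat_lit 1],
  [nat_lit 2],
  [nat_lit 3]]] (W :: [[nat_lit 13],
  [nat_lit 2],
  [nat_lit 3]])) [[nat_lit 0],
  [nat_lit 1],
  [nat_lit 6]]) d_W i20_W = true := by decide +kernel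
theorem s20 : dead κ ([nat_lit 13] :: [[nat_lit 12],
  [nat_lit 3],
  [nat_lit 2]]) [[nat_lit 0, nat_lit 0, nat_lit 3]] [] = false ∧ stepK κ [[nat_lit 13],
  [nat_lit 2],
  [nat_lit 3]] [[nat_lit 0, nat_lit 0, nat_lit 3]] [] [[nat_lit 12],
  [nat_lit 6, nat_lit 6, nat_lit 12]] i20_W s20_L = true := by decide +kernel
theorem m300 : trK κ [nat_lit 14] [[nat_lit 13],
  [nat_lit 12],
  [nat_lit 3],
  [nat_lit 2]] [[nat_lit 12],
  [nat_lit 13],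
  [nat_lit 2],
  [nat_lit 3]] [[nat_lit 3],
  [nat_lit 2]] [[nat_lit 3],
  [nat_lit 2]] ([[nat_lit 3],
  [nat_lit 2]], [[nat_lit 3],
  [nat_lit 2]]) = true := by decide +kernel
theorem i300 : allB (fun Y => cjAll κ Y [[nat_lit 2],
  [nat_lit 3]] [[nat_lit 2],
  [nat_lit 3]]) [[nat_lit 0],
  [nat_lit 1],
  [nat_lit 6]] = true ∧
    subK (fun W => allB (actK κ [[[nat_lit 0, nat_lit 0, nat_lit 0, nat_lit 1, nat_lit 3],
  [nat_lit 1],
  [nat_lit 2, nat_lit 3],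
  [nat_lit 3],
  [nat_lit 4]], [[nat_lit 0, nat_lit 1, nat_lit 2],
  [nat_lit 1, nat_lit 4],
  [nat_lit 2, nat_lit 3],
  [nat_lit 3],
  [nat_lit 4]], [[nat_lit 0],
  [nat_lit 1],
  [nat_lit 2],
  [nat_lit 3],
  [nat_lit 4]], [[nat_lit 0, nat_lit 0, nat_lit 0, nat_lit 2, nat_lit 4],
  [nat_lit 1, nat_lit 4],
  [nat_lit 2],
  [nat_lit 3],
  [nat_lit 4]]] (W :: [[nat_lit 12],
  [nat_lit 13],
  [nat_lit 2],
  [nat_lit 3]])) [[nat_lit 0],
  [nat_lit 1],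
  [nat_lit 6]]) d_W i300_W = true := by decide +kernel
theorem s300 : dead κ ([nat_lit 14] :: [[nat_lit 13],
  [nat_lit 12],
  [nat_lit 3],
  [nat_lit 2]]) [] [[nat_lit 0, nat_lit 0],
  [nat_lit 0, nat_lit 0, nat_lit 3],
  [nat_lit 0, nat_lit 0, nat_lit 4],
  [nat_lit 0, nat_lit 0, nat_lit 3, nat_lit 4]] = false ∧ stepK κ [[nat_lit 12],
  [nat_lit 13],
  [nat_lit 2],
  [nat_lit 3]] [] [[nat_lit 0, nat_lit 0],
  [nat_lit 0, nat_lit 0, nat_lit 3],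
  [nat_lit 0, nat_lit 0, nat_lit 4],
  [nat_lit 0, nat_lit 0, nat_lit 3, nat_lit 4]] [[nat_lit 0, nat_lit 1, nat_lit 6],
  [nat_lit 14],
  [nat_lit 1, nat_lit 0, nat_lit 7],
  [nat_lit 1, nat_lit 16, nat_lit 7],
  [nat_lit 0, nat_lit 16, nat_lit 14],
  [nat_lit 16, nat_lit 1, nat_lit 7],
  [nat_lit 16, nat_lit 1, nat_lit 6],
  [nat_lit 0, nat_lit 1, nat_lit 7]] i300_W s300_L = true := by decide +kernel
theorem m4 : trK κ [nat_lit 16] [[nat_lit 14],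
  [nat_lit 13],
  [nat_lit 12],
  [nat_lit 3],
  [nat_lit 2]] [[nat_lit 0, nat_lit 1, nat_lit 6],
  [nat_lit 12],
  [nat_lit 13],
  [nat_lit 2],
  [nat_lit 3]] [[nat_lit 3],
  [nat_lit 2]] [[nat_lit 3],
  [nat_lit 2]] ([[nat_lit 4],
  [nat_lit 3]], [[nat_lit 4],
  [nat_lit 3]]) = true := by decide +kernel
theorem s4 : dead κ ([nat_lit 16] :: [[nat_lit 14],
  [nat_lit 13],
  [nat_lit 12],
  [nat_lit 3],
  [nat_lit 2]]) [[nat_lit 0, nat_lit 0],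
  [nat_lit 3, nat_lit 0, nat_lit 3, nat_lit 3, nat_lit 3, nat_lit 0],
  [nat_lit 2, nat_lit 0, nat_lit 2, nat_lit 0]] [[nat_lit 0]] = false ∧ stepK κ [[nat_lit 0, nat_lit 1, nat_lit 6],
  [nat_lit 12],
  [nat_lit 13],
  [nat_lit 2],
  [nat_lit 3]] [[nat_lit 0, nat_lit 0],
  [nat_lit 3, nat_lit 0, nat_lit 3, nat_lit 3, nat_lit 3, nat_lit 0],
  [nat_lit 2, nat_lit 0, nat_lit 2, nat_lit 0]] [[nat_lit 0]] [[nat_lit 1, nat_lit 13, nat_lit 13],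
  [nat_lit 1, nat_lit 12]] d_W s4_L = true := by decide +kernel
theorem m50 : trK κ [nat_lit 1] [[nat_lit 16],
  [nat_lit 14],
  [nat_lit 13],
  [nat_lit 12],
  [nat_lit 3],
  [nat_lit 2]] [[nat_lit 1, nat_lit 13, nat_lit 13],
  [nat_lit 0, nat_lit 1, nat_lit 6],
  [nat_lit 12],
  [nat_lit 13],
  [nat_lit 2],
  [nat_lit 3]] [[nat_lit 3],
  [nat_lit 2]] [[nat_lit 3],
  [nat_lit 2]] ([[nat_lit 5],
  [nat_lit 4]], [[nat_lit 5],
  [nat_lit 4]]) = true := by decide +kernel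
theorem s50 : dead κ ([nat_lit 1] :: [[nat_lit 16],
  [nat_lit 14],
  [nat_lit 13],
  [nat_lit 12],
  [nat_lit 3],
  [nat_lit 2]]) [[nat_lit 0, nat_lit 0],
  [nat_lit 3, nat_lit 0, nat_lit 3, nat_lit 3, nat_lit 3, nat_lit 0],
  [nat_lit 4, nat_lit 0, nat_lit 4, nat_lit 0],
  [nat_lit 2, nat_lit 0, nat_lit 1, nat_lit 2, nat_lit 0, nat_lit 1]] [[nat_lit 0]] = false ∧ stepK κ [[nat_lit 1, nat_lit 13, nat_lit 13],
  [nat_lit 0, nat_lit 1, nat_lit 6],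
  [nat_lit 12],
  [nat_lit 13],
  [nat_lit 2],
  [nat_lit 3]] [[nat_lit 0, nat_lit 0],
  [nat_lit 3, nat_lit 0, nat_lit 3, nat_lit 3, nat_lit 3, nat_lit 0],
  [nat_lit 4, nat_lit 0, nat_lit 4, nat_lit 0],
  [nat_lit 2, nat_lit 0, nat_lit 1, nat_lit 2, nat_lit 0, nat_lit 1]] [[nat_lit 0]] [[nat_lit 0],
  [nat_lit 16],
  [nat_lit 13, nat_lit 0],
  [nat_lit 16, nat_lit 13]] d_W s50_L = true := by decide +kernel
theorem c00 : c00_L.map (·.1) = [[nat_lit 0],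
  [nat_lit 1],
  [nat_lit 2],
  [nat_lit 3],
  [],
  [],
  [nat_lit 6],
  [nat_lit 7]] ∧ c00_L.map (·.2.1) = [[nat_lit 1],
  [nat_lit 0],
  [nat_lit 0, nat_lit 16],
  [nat_lit 13, nat_lit 13],
  [],
  [],
  [nat_lit 6],
  [nat_lit 7]] ∧
    allB (fun p => eqK κ p.1 (fl [[nat_lit 1],
  [nat_lit 16],
  [nat_lit 14],
  [nat_lit 13],
  [nat_lit 12],
  [nat_lit 3],
  [nat_lit 2]] p.2.2) && eqK κ p.2.1 (fl [[nat_lit 0],
  [nat_lit 1, nat_lit 13, nat_lit 13],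
  [nat_lit 0, nat_lit 1, nat_lit 6],
  [nat_lit 12],
  [nat_lit 13],
  [nat_lit 2],
  [nat_lit 3]] p.2.2)) c00_L = true := by decide +kernel
theorem e00 : List.length [[nat_lit 1],
  [nat_lit 0],
  [nat_lit 0, nat_lit 16],
  [nat_lit 13, nat_lit 13],
  [],
  [],
  [nat_lit 6],
  [nat_lit 7]] = List.length [[nat_lit 1],
  [nat_lit 0],
  [nat_lit 3],
  [nat_lit 2],
  [],
  [],
  [nat_lit 6],
  [nat_lit 7]] ∧ cjAll κ [] [[nat_lit 1],
  [nat_lit 0],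
  [nat_lit 0, nat_lit 16],
  [nat_lit 13, nat_lit 13],
  [],
  [],
  [nat_lit 6],
  [nat_lit 7]] [[nat_lit 1],
  [nat_lit 0],
  [nat_lit 3],
  [nat_lit 2],
  [],
  [],
  [nat_lit 6],
  [nat_lit 7]] = true := by decide +kernel
theorem w01_5 : allB (fun i => Nat.blt (tb w01_T 5 i) 27 && eqK κ (nth [] w01_P i) (fl [[nat_lit 1],
  [nat_lit 16],
  [nat_lit 14],
  [nat_lit 13],
  [nat_lit 12],
  [nat_lit 3],
  [nat_lit 2]] (nth [] w01_J5 i)) &&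
    eqK κ (nth [] w01_P (tb w01_T 5 i)) (fl [[nat_lit 16],
  [nat_lit 1, nat_lit 13, nat_lit 13],
  [nat_lit 0, nat_lit 1, nat_lit 6],
  [nat_lit 12],
  [nat_lit 13],
  [nat_lit 2],
  [nat_lit 3]] (nth [] w01_J5 i))) (List.range 27) = true := by decide +kernel
theorem w01_18 : allB (fun i => Nat.blt (tb w01_T 18 i) 27 && cjK κ [18] (nth [] w01_P i) (nth [] w01_P (tb w01_T 18 i))) (List.range 27) = true := by decide +kernel
theorem l01 : (allB (mem [nat_lit 5, nat_lit 18]) [nat_lit 5, nat_lit 18, nat_lit 5, nat_lit 18, nat_lit 5, nat_lit 18] = true ∧ ltAll 27 [nat_lit 0, nat_lit 1] = 0 ∧ List.map (nth [] w01_P) [nat_lit 0, nat_lit 1] = [[nat_lit 3],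
  [nat_lit 2]] ∧
    List.map (fun i => nth [] w01_P (H16.apW (tb w01_T) [nat_lit 5, nat_lit 18, nat_lit 5, nat_lit 18, nat_lit 5, nat_lit 18] i)) [nat_lit 0, nat_lit 1] = [[nat_lit 3],
  [nat_lit 2]]) ∧ ltAll 27 [nat_lit 2, nat_lit 3, nat_lit 4] = 0 ∧
    allB (fun W => !cjAll κ W (List.map (nth [] w01_P) [nat_lit 2, nat_lit 3, nat_lit 4]) (List.map (fun i => nth [] w01_P (H16.apW (tb w01_T) [nat_lit 5, nat_lit 18, nat_lit 5, nat_lit 18, nat_lit 5, nat_lit 18] i)) [nat_lit 2, nat_lit 3, nat_lit 4])) d_W = true := by decide +kernel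
theorem w02_5 : allB (fun i => Nat.blt (tb w02_T 5 i) 18 && eqK κ (nth [] w02_P i) (fl [[nat_lit 1],
  [nat_lit 16],
  [nat_lit 14],
  [nat_lit 13],
  [nat_lit 12],
  [nat_lit 3],
  [nat_lit 2]] (nth [] w02_J5 i)) &&
    eqK κ (nth [] w02_P (tb w02_T 5 i)) (fl [[nat_lit 13, nat_lit 0],
  [nat_lit 1, nat_lit 13, nat_lit 13],
  [nat_lit 0, nat_lit 1, nat_lit 6],
  [nat_lit 12],
  [nat_lit 13],
  [nat_lit 2],
  [nat_lit 3]] (nth [] w02_J5 i))) (List.range 18) = true := by decide +kernel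
theorem l02 : (allB (mem [nat_lit 5]) [nat_lit 5, nat_lit 5] = true ∧ ltAll 18 [nat_lit 0, nat_lit 1] = 0 ∧ List.map (nth [] w02_P) [nat_lit 0, nat_lit 1] = [[nat_lit 3],
  [nat_lit 2]] ∧
    List.map (fun i => nth [] w02_P (H16.apW (tb w02_T) [nat_lit 5, nat_lit 5] i)) [nat_lit 0, nat_lit 1] = [[nat_lit 3],
  [nat_lit 2]]) ∧ ltAll 18 [nat_lit 2, nat_lit 3, nat_lit 4] = 0 ∧
    allB (fun W => !cjAll κ W (List.map (nth [] w02_P) [nat_lit 2, nat_lit 3, nat_lit 4]) (List.map (fun i => nth [] w02_P (H16.apW (tb w02_T) [nat_lit 5, nat_lit 5] i)) [nat_lit 2, nat_lit 3, nat_lit 4])) d_W = true := by decide +kernel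
theorem w03_5 : allB (fun i => Nat.blt (tb w03_T 5 i) 18 && eqK κ (nth [] w03_P i) (fl [[nat_lit 1],
  [nat_lit 16],
  [nat_lit 14],
  [nat_lit 13],
  [nat_lit 12],
  [nat_lit 3],
  [nat_lit 2]] (nth [] w03_J5 i)) &&
    eqK κ (nth [] w03_P (tb w03_T 5 i)) (fl [[nat_lit 16, nat_lit 13],
  [nat_lit 1, nat_lit 13, nat_lit 13],
  [nat_lit 0, nat_lit 1, nat_lit 6],
  [nat_lit 12],
  [nat_lit 13],
  [nat_lit 2],
  [nat_lit 3]] (nth [] w03_J5 i))) (List.range 18) = true := by decide +kernel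
theorem l03 : (allB (mem [nat_lit 5]) [nat_lit 5, nat_lit 5] = true ∧ ltAll 18 [nat_lit 0, nat_lit 1] = 0 ∧ List.map (nth [] w03_P) [nat_lit 0, nat_lit 1] = [[nat_lit 3],
  [nat_lit 2]] ∧
    List.map (fun i => nth [] w03_P (H16.apW (tb w03_T) [nat_lit 5, nat_lit 5] i)) [nat_lit 0, nat_lit 1] = [[nat_lit 3],
  [nat_lit 2]]) ∧ ltAll 18 [nat_lit 2, nat_lit 3, nat_lit 4] = 0 ∧
    allB (fun W => !cjAll κ W (List.map (nth [] w03_P) [nat_lit 2, nat_lit 3, nat_lit 4]) (List.map (fun i => nth [] w03_P (H16.apW (tb w03_T) [nat_lit 5, nat_lit 5] i)) [nat_lit 2, nat_lit 3, nat_lit 4])) d_W = true := by decide +kernel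
theorem m51 : trK κ [nat_lit 1] [[nat_lit 16],
  [nat_lit 14],
  [nat_lit 13],
  [nat_lit 12],
  [nat_lit 3],
  [nat_lit 2]] [[nat_lit 1, nat_lit 12],
  [nat_lit 0, nat_lit 1, nat_lit 6],
  [nat_lit 12],
  [nat_lit 13],
  [nat_lit 2],
  [nat_lit 3]] [[nat_lit 3],
  [nat_lit 2]] [[nat_lit 3],
  [nat_lit 2]] ([[nat_lit 5],
  [nat_lit 4]], [[nat_lit 5],
  [nat_lit 4]]) = true := by decide +kernel
theorem s51 : dead κ ([nat_lit 1] :: [[nat_lit 16],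
  [nat_lit 14],
  [nat_lit 13],
  [nat_lit 12],
  [nat_lit 3],
  [nat_lit 2]]) [[nat_lit 0, nat_lit 0],
  [nat_lit 3, nat_lit 0, nat_lit 3, nat_lit 3, nat_lit 3, nat_lit 0],
  [nat_lit 4, nat_lit 0, nat_lit 4, nat_lit 0],
  [nat_lit 2, nat_lit 0, nat_lit 1, nat_lit 2, nat_lit 0, nat_lit 1]] [[nat_lit 0]] = false ∧ stepK κ [[nat_lit 1, nat_lit 12],
  [nat_lit 0, nat_lit 1, nat_lit 6],
  [nat_lit 12],
  [nat_lit 13],
  [nat_lit 2],
  [nat_lit 3]] [[nat_lit 0, nat_lit 0],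
  [nat_lit 3, nat_lit 0, nat_lit 3, nat_lit 3, nat_lit 3, nat_lit 0],
  [nat_lit 4, nat_lit 0, nat_lit 4, nat_lit 0],
  [nat_lit 2, nat_lit 0, nat_lit 1, nat_lit 2, nat_lit 0, nat_lit 1]] [[nat_lit 0]] [[nat_lit 0],
  [nat_lit 16],
  [nat_lit 13, nat_lit 0],
  [nat_lit 16, nat_lit 13]] d_W s51_L = true := by decide +kernel
theorem w10_5 : allB (fun i => Nat.blt (tb w10_T 5 i) 18 && eqK κ (nth [] w10_P i) (fl [[nat_lit 1],
  [nat_lit 16],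
  [nat_lit 14],
  [nat_lit 13],
  [nat_lit 12],
  [nat_lit 3],
  [nat_lit 2]] (nth [] w10_J5 i)) &&
    eqK κ (nth [] w10_P (tb w10_T 5 i)) (fl [[nat_lit 0],
  [nat_lit 1, nat_lit 12],
  [nat_lit 0, nat_lit 1, nat_lit 6],
  [nat_lit 12],
  [nat_lit 13],
  [nat_lit 2],
  [nat_lit 3]] (nth [] w10_J5 i))) (List.range 18) = true := by decide +kernel
theorem l10 : (allB (mem [nat_lit 5]) [nat_lit 5, nat_lit 5] = true ∧ ltAll 18 [nat_lit 0, nat_lit 1] = 0 ∧ List.map (nth [] w10_P) [nat_lit 0, nat_lit 1] = [[nat_lit 3],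
  [nat_lit 2]] ∧
    List.map (fun i => nth [] w10_P (H16.apW (tb w10_T) [nat_lit 5, nat_lit 5] i)) [nat_lit 0, nat_lit 1] = [[nat_lit 3],
  [nat_lit 2]]) ∧ ltAll 18 [nat_lit 2, nat_lit 3, nat_lit 4] = 0 ∧
    allB (fun W => !cjAll κ W (List.map (nth [] w10_P) [nat_lit 2, nat_lit 3, nat_lit 4]) (List.map (fun i => nth [] w10_P (H16.apW (tb w10_T) [nat_lit 5, nat_lit 5] i)) [nat_lit 2, nat_lit 3, nat_lit 4])) d_W = true := by decide +kernel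
theorem w11_5 : allB (fun i => Nat.blt (tb w11_T 5 i) 26 && eqK κ (nth [] w11_P i) (fl [[nat_lit 1],
  [nat_lit 16],
  [nat_lit 14],
  [nat_lit 13],
  [nat_lit 12],
  [nat_lit 3],
  [nat_lit 2]] (nth [] w11_J5 i)) &&
    eqK κ (nth [] w11_P (tb w11_T 5 i)) (fl [[nat_lit 16],
  [nat_lit 1, nat_lit 12],
  [nat_lit 0, nat_lit 1, nat_lit 6],
  [nat_lit 12],
  [nat_lit 13],
  [nat_lit 2],
  [nat_lit 3]] (nth [] w11_J5 i))) (List.range 26) = true := by decide +kernel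
theorem l11 : (allB (mem [nat_lit 5]) [nat_lit 5, nat_lit 5] = true ∧ ltAll 26 [nat_lit 0, nat_lit 1] = 0 ∧ List.map (nth [] w11_P) [nat_lit 0, nat_lit 1] = [[nat_lit 3],
  [nat_lit 2]] ∧
    List.map (fun i => nth [] w11_P (H16.apW (tb w11_T) [nat_lit 5, nat_lit 5] i)) [nat_lit 0, nat_lit 1] = [[nat_lit 3],
  [nat_lit 2]]) ∧ ltAll 26 [nat_lit 2, nat_lit 3, nat_lit 4] = 0 ∧
    allB (fun W => !cjAll κ W (List.map (nth [] w11_P) [nat_lit 2, nat_lit 3, nat_lit 4]) (List.map (fun i => nth [] w11_P (H16.apW (tb w11_T) [nat_lit 5, nat_lit 5] i)) [nat_lit 2, nat_lit 3, nat_lit 4])) d_W = true := by decide +kernel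
theorem w12_5 : allB (fun i => Nat.blt (tb w12_T 5 i) 63 && eqK κ (nth [] w12_P i) (fl [[nat_lit 1],
  [nat_lit 16],
  [nat_lit 14],
  [nat_lit 13],
  [nat_lit 12],
  [nat_lit 3],
  [nat_lit 2]] (nth [] w12_J5 i)) &&
    eqK κ (nth [] w12_P (tb w12_T 5 i)) (fl [[nat_lit 13, nat_lit 0],
  [nat_lit 1, nat_lit 12],
  [nat_lit 0, nat_lit 1, nat_lit 6],
  [nat_lit 12],
  [nat_lit 13],
  [nat_lit 2],
  [nat_lit 3]] (nth [] w12_J5 i))) (List.range 63) = true := by decide +kernel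
theorem w12_18 : allB (fun i => Nat.blt (tb w12_T 18 i) 63 && cjK κ [18] (nth [] w12_P i) (nth [] w12_P (tb w12_T 18 i))) (List.range 63) = true := by decide +kernel
theorem l12 : (allB (mem [nat_lit 5, nat_lit 18]) [nat_lit 5, nat_lit 18, nat_lit 5, nat_lit 18, nat_lit 5, nat_lit 18] = true ∧ ltAll 63 [nat_lit 0, nat_lit 1] = 0 ∧ List.map (nth [] w12_P) [nat_lit 0, nat_lit 1] = [[nat_lit 3],
  [nat_lit 2]] ∧
    List.map (fun i => nth [] w12_P (H16.apW (tb w12_T) [nat_lit 5, nat_lit 18, nat_lit 5, nat_lit 18, nat_lit 5, nat_lit 18] i)) [nat_lit 0, nat_lit 1] = [[nat_lit 3],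
  [nat_lit 2]]) ∧ ltAll 63 [nat_lit 2, nat_lit 3, nat_lit 4] = 0 ∧
    allB (fun W => !cjAll κ W (List.map (nth [] w12_P) [nat_lit 2, nat_lit 3, nat_lit 4]) (List.map (fun i => nth [] w12_P (H16.apW (tb w12_T) [nat_lit 5, nat_lit 18, nat_lit 5, nat_lit 18, nat_lit 5, nat_lit 18] i)) [nat_lit 2, nat_lit 3, nat_lit 4])) d_W = true := by decide +kernel
theorem c13 : c13_L.map (·.1) = [[nat_lit 0, nat_lit 12, nat_lit 14, nat_lit 14],
  [nat_lit 1],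
  [nat_lit 13, nat_lit 13],
  [nat_lit 0, nat_lit 16],
  [],
  [],
  [nat_lit 6],
  [nat_lit 7]] ∧ c13_L.map (·.2.1) = [[nat_lit 16, nat_lit 14, nat_lit 6],
  [nat_lit 16, nat_lit 13],
  [nat_lit 0, nat_lit 16],
  [nat_lit 13, nat_lit 13],
  [],
  [],
  [nat_lit 7, nat_lit 12, nat_lit 13],
  [nat_lit 6, nat_lit 12, nat_lit 13]] ∧
    allB (fun p => eqK κ p.1 (fl [[nat_lit 1],
  [nat_lit 16],
  [nat_lit 14],
  [nat_lit 13],
  [nat_lit 12],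
  [nat_lit 3],
  [nat_lit 2]] p.2.2) && eqK κ p.2.1 (fl [[nat_lit 16, nat_lit 13],
  [nat_lit 1, nat_lit 12],
  [nat_lit 0, nat_lit 1, nat_lit 6],
  [nat_lit 12],
  [nat_lit 13],
  [nat_lit 2],
  [nat_lit 3]] p.2.2)) c13_L = true := by decide +kernel
theorem e13 : List.length [[nat_lit 16, nat_lit 14, nat_lit 6],
  [nat_lit 16, nat_lit 13],
  [nat_lit 0, nat_lit 16],
  [nat_lit 13, nat_lit 13],
  [],
  [],
  [nat_lit 7, nat_lit 12, nat_lit 13],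
  [nat_lit 6, nat_lit 12, nat_lit 13]] = List.length [[nat_lit 1],
  [nat_lit 0, nat_lit 12, nat_lit 14, nat_lit 14],
  [nat_lit 0, nat_lit 16],
  [nat_lit 13, nat_lit 13],
  [],
  [],
  [nat_lit 6],
  [nat_lit 7]] ∧ cjAll κ [nat_lit 7, nat_lit 14] [[nat_lit 16, nat_lit 14, nat_lit 6],
  [nat_lit 16, nat_lit 13],
  [nat_lit 0, nat_lit 16],
  [nat_lit 13, nat_lit 13],
  [],
  [],
  [nat_lit 7, nat_lit 12, nat_lit 13],
  [nat_lit 6, nat_lit 12, nat_lit 13]] [[nat_lit 1],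
  [nat_lit 0, nat_lit 12, nat_lit 14, nat_lit 14],
  [nat_lit 0, nat_lit 16],
  [nat_lit 13, nat_lit 13],
  [],
  [],
  [nat_lit 6],
  [nat_lit 7]] = true := by decide +kernel
theorem v001_5 : allB (fun i => Nat.blt (tb v001_T 5 i) 18 && eqK κ (nth [] v001_P i) (fl [[nat_lit 14],
  [nat_lit 13],
  [nat_lit 12],
  [nat_lit 3],
  [nat_lit 2]] (nth [] v001_J5 i)) &&
    eqK κ (nth [] v001_P (tb v001_T 5 i)) (fl [[nat_lit 14],
  [nat_lit 12],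
  [nat_lit 13],
  [nat_lit 2],
  [nat_lit 3]] (nth [] v001_J5 i))) (List.range 18) = true := by decide +kernel
theorem v001_18 : allB (fun i => Nat.blt (tb v001_T 18 i) 18 && cjK κ [18] (nth [] v001_P i) (nth [] v001_P (tb v001_T 18 i))) (List.range 18) = true := by decide +kernel
theorem k001 : (allB (mem [nat_lit 5, nat_lit 18]) [nat_lit 5, nat_lit 18, nat_lit 5, nat_lit 18, nat_lit 5, nat_lit 18] = true ∧ ltAll 18 [nat_lit 0, nat_lit 1, nat_lit 2] = 0 ∧ List.map (nth [] v001_P) [nat_lit 0, nat_lit 1, nat_lit 2] = [[nat_lit 3],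
  [nat_lit 2],
  [nat_lit 15]] ∧
    List.map (fun i => nth [] v001_P (H16.apW (tb v001_T) [nat_lit 5, nat_lit 18, nat_lit 5, nat_lit 18, nat_lit 5, nat_lit 18] i)) [nat_lit 0, nat_lit 1, nat_lit 2] = [[nat_lit 3],
  [nat_lit 2],
  [nat_lit 15]]) ∧ ltAll 18 [nat_lit 3, nat_lit 4, nat_lit 5] = 0 ∧
    allB (fun W => !cjAll κ W (List.map (nth [] v001_P) [nat_lit 3, nat_lit 4, nat_lit 5]) (List.map (fun i => nth [] v001_P (H16.apW (tb v001_T) [nat_lit 5, nat_lit 18, nat_lit 5, nat_lit 18, nat_lit 5, nat_lit 18] i)) [nat_lit 3, nat_lit 4, nat_lit 5])) v_W = true := by decide +kernel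
theorem v002_5 : allB (fun i => Nat.blt (tb v002_T 5 i) 24 && eqK κ (nth [] v002_P i) (fl [[nat_lit 14],
  [nat_lit 13],
  [nat_lit 12],
  [nat_lit 3],
  [nat_lit 2]] (nth [] v002_J5 i)) &&
    eqK κ (nth [] v002_P (tb v002_T 5 i)) (fl [[nat_lit 1, nat_lit 0, nat_lit 7],
  [nat_lit 12],
  [nat_lit 13],
  [nat_lit 2],
  [nat_lit 3]] (nth [] v002_J5 i))) (List.range 24) = true := by decide +kernel
theorem v002_18 : allB (fun i => Nat.blt (tb v002_T 18 i) 24 && cjK κ [18] (nth [] v002_P i) (nth [] v002_P (tb v002_T 18 i))) (List.range 24) = true := by decide +kernel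
theorem k002 : (allB (mem [nat_lit 5, nat_lit 18]) [nat_lit 5, nat_lit 18, nat_lit 5, nat_lit 18, nat_lit 5, nat_lit 18] = true ∧ ltAll 24 [nat_lit 0, nat_lit 1, nat_lit 2] = 0 ∧ List.map (nth [] v002_P) [nat_lit 0, nat_lit 1, nat_lit 2] = [[nat_lit 3],
  [nat_lit 2],
  [nat_lit 15]] ∧
    List.map (fun i => nth [] v002_P (H16.apW (tb v002_T) [nat_lit 5, nat_lit 18, nat_lit 5, nat_lit 18, nat_lit 5, nat_lit 18] i)) [nat_lit 0, nat_lit 1, nat_lit 2] = [[nat_lit 3],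
  [nat_lit 2],
  [nat_lit 15]]) ∧ ltAll 24 [nat_lit 3, nat_lit 4, nat_lit 5] = 0 ∧
    allB (fun W => !cjAll κ W (List.map (nth [] v002_P) [nat_lit 3, nat_lit 4, nat_lit 5]) (List.map (fun i => nth [] v002_P (H16.apW (tb v002_T) [nat_lit 5, nat_lit 18, nat_lit 5, nat_lit 18, nat_lit 5, nat_lit 18] i)) [nat_lit 3, nat_lit 4, nat_lit 5])) v_W = true := by decide +kernel
theorem v003_5 : allB (fun i => Nat.blt (tb v003_T 5 i) 9 && eqK κ (nth [] v003_P i) (fl [[nat_lit 14],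
  [nat_lit 13],
  [nat_lit 12],
  [nat_lit 3],
  [nat_lit 2]] (nth [] v003_J5 i)) &&
    eqK κ (nth [] v003_P (tb v003_T 5 i)) (fl [[nat_lit 1, nat_lit 16, nat_lit 7],
  [nat_lit 12],
  [nat_lit 13],
  [nat_lit 2],
  [nat_lit 3]] (nth [] v003_J5 i))) (List.range 9) = true := by decide +kernel
theorem k003 : (allB (mem [nat_lit 5]) [nat_lit 5, nat_lit 5] = true ∧ ltAll 9 [nat_lit 0, nat_lit 1, nat_lit 2] = 0 ∧ List.map (nth [] v003_P) [nat_lit 0, nat_lit 1, nat_lit 2] = [[nat_lit 3],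
  [nat_lit 2],
  [nat_lit 15]] ∧
    List.map (fun i => nth [] v003_P (H16.apW (tb v003_T) [nat_lit 5, nat_lit 5] i)) [nat_lit 0, nat_lit 1, nat_lit 2] = [[nat_lit 3],
  [nat_lit 2],
  [nat_lit 15]]) ∧ ltAll 9 [nat_lit 3, nat_lit 4, nat_lit 5] = 0 ∧
    allB (fun W => !cjAll κ W (List.map (nth [] v003_P) [nat_lit 3, nat_lit 4, nat_lit 5]) (List.map (fun i => nth [] v003_P (H16.apW (tb v003_T) [nat_lit 5, nat_lit 5] i)) [nat_lit 3, nat_lit 4, nat_lit 5])) v_W = true := by decide +kernel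
theorem v004_5 : allB (fun i => Nat.blt (tb v004_T 5 i) 9 && eqK κ (nth [] v004_P i) (fl [[nat_lit 14],
  [nat_lit 13],
  [nat_lit 12],
  [nat_lit 3],
  [nat_lit 2]] (nth [] v004_J5 i)) &&
    eqK κ (nth [] v004_P (tb v004_T 5 i)) (fl [[nat_lit 0, nat_lit 16, nat_lit 14],
  [nat_lit 12],
  [nat_lit 13],
  [nat_lit 2],
  [nat_lit 3]] (nth [] v004_J5 i))) (List.range 9) = true := by decide +kernel
theorem k004 : (allB (mem [nat_lit 5]) [nat_lit 5, nat_lit 5] = true ∧ ltAll 9 [nat_lit 0, nat_lit 1, nat_lit 2] = 0 ∧ List.map (nth [] v004_P) [nat_lit 0, nat_lit 1, nat_lit 2] = [[nat_lit 3],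
  [nat_lit 2],
  [nat_lit 15]] ∧
    List.map (fun i => nth [] v004_P (H16.apW (tb v004_T) [nat_lit 5, nat_lit 5] i)) [nat_lit 0, nat_lit 1, nat_lit 2] = [[nat_lit 3],
  [nat_lit 2],
  [nat_lit 15]]) ∧ ltAll 9 [nat_lit 3, nat_lit 4, nat_lit 5] = 0 ∧
    allB (fun W => !cjAll κ W (List.map (nth [] v004_P) [nat_lit 3, nat_lit 4, nat_lit 5]) (List.map (fun i => nth [] v004_P (H16.apW (tb v004_T) [nat_lit 5, nat_lit 5] i)) [nat_lit 3, nat_lit 4, nat_lit 5])) v_W = true := by decide +kernel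
theorem v005_5 : allB (fun i => Nat.blt (tb v005_T 5 i) 10 && eqK κ (nth [] v005_P i) (fl [[nat_lit 14],
  [nat_lit 13],
  [nat_lit 12],
  [nat_lit 3],
  [nat_lit 2]] (nth [] v005_J5 i)) &&
    eqK κ (nth [] v005_P (tb v005_T 5 i)) (fl [[nat_lit 16, nat_lit 1, nat_lit 7],
  [nat_lit 12],
  [nat_lit 13],
  [nat_lit 2],
  [nat_lit 3]] (nth [] v005_J5 i))) (List.range 10) = true := by decide +kernel
theorem k005 : (allB (mem [nat_lit 5]) [nat_lit 5, nat_lit 5] = true ∧ ltAll 10 [nat_lit 0, nat_lit 1, nat_lit 2] = 0 ∧ List.map (nth [] v005_P) [nat_lit 0, nat_lit 1, nat_lit 2] = [[nat_lit 3],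
  [nat_lit 2],
  [nat_lit 15]] ∧
    List.map (fun i => nth [] v005_P (H16.apW (tb v005_T) [nat_lit 5, nat_lit 5] i)) [nat_lit 0, nat_lit 1, nat_lit 2] = [[nat_lit 3],
  [nat_lit 2],
  [nat_lit 15]]) ∧ ltAll 10 [nat_lit 3, nat_lit 4, nat_lit 5] = 0 ∧
    allB (fun W => !cjAll κ W (List.map (nth [] v005_P) [nat_lit 3, nat_lit 4, nat_lit 5]) (List.map (fun i => nth [] v005_P (H16.apW (tb v005_T) [nat_lit 5, nat_lit 5] i)) [nat_lit 3, nat_lit 4, nat_lit 5])) v_W = true := by decide +kernel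
theorem v006_5 : allB (fun i => Nat.blt (tb v006_T 5 i) 10 && eqK κ (nth [] v006_P i) (fl [[nat_lit 14],
  [nat_lit 13],
  [nat_lit 12],
  [nat_lit 3],
  [nat_lit 2]] (nth [] v006_J5 i)) &&
    eqK κ (nth [] v006_P (tb v006_T 5 i)) (fl [[nat_lit 16, nat_lit 1, nat_lit 6],
  [nat_lit 12],
  [nat_lit 13],
  [nat_lit 2],
  [nat_lit 3]] (nth [] v006_J5 i))) (List.range 10) = true := by decide +kernel
theorem k006 : (allB (mem [nat_lit 5]) [nat_lit 5, nat_lit 5] = true ∧ ltAll 10 [nat_lit 0, nat_lit 1, nat_lit 2] = 0 ∧ List.map (nth [] v006_P) [nat_lit 0, nat_lit 1, nat_lit 2] = [[nat_lit 3],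
  [nat_lit 2],
  [nat_lit 15]] ∧
    List.map (fun i => nth [] v006_P (H16.apW (tb v006_T) [nat_lit 5, nat_lit 5] i)) [nat_lit 0, nat_lit 1, nat_lit 2] = [[nat_lit 3],
  [nat_lit 2],
  [nat_lit 15]]) ∧ ltAll 10 [nat_lit 3, nat_lit 4, nat_lit 5] = 0 ∧
    allB (fun W => !cjAll κ W (List.map (nth [] v006_P) [nat_lit 3, nat_lit 4, nat_lit 5]) (List.map (fun i => nth [] v006_P (H16.apW (tb v006_T) [nat_lit 5, nat_lit 5] i)) [nat_lit 3, nat_lit 4, nat_lit 5])) v_W = true := by decide +kernel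
theorem v007_5 : allB (fun i => Nat.blt (tb v007_T 5 i) 36 && eqK κ (nth [] v007_P i) (fl [[nat_lit 14],
  [nat_lit 13],
  [nat_lit 12],
  [nat_lit 3],
  [nat_lit 2]] (nth [] v007_J5 i)) &&
    eqK κ (nth [] v007_P (tb v007_T 5 i)) (fl [[nat_lit 0, nat_lit 1, nat_lit 7],
  [nat_lit 12],
  [nat_lit 13],
  [nat_lit 2],
  [nat_lit 3]] (nth [] v007_J5 i))) (List.range 36) = true := by decide +kernel
theorem v007_17 : allB (fun i => Nat.blt (tb v007_T 17 i) 36 && cjK κ [17] (nth [] v007_P i) (nth [] v007_P (tb v007_T 17 i))) (List.range 36) = true := by decide +kernel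
theorem k007 : (allB (mem [nat_lit 5, nat_lit 17]) [nat_lit 5, nat_lit 17, nat_lit 5, nat_lit 17, nat_lit 5, nat_lit 17] = true ∧ ltAll 36 [nat_lit 0, nat_lit 1, nat_lit 2] = 0 ∧ List.map (nth [] v007_P) [nat_lit 0, nat_lit 1, nat_lit 2] = [[nat_lit 3],
  [nat_lit 2],
  [nat_lit 15]] ∧
    List.map (fun i => nth [] v007_P (H16.apW (tb v007_T) [nat_lit 5, nat_lit 17, nat_lit 5, nat_lit 17, nat_lit 5, nat_lit 17] i)) [nat_lit 0, nat_lit 1, nat_lit 2] = [[nat_lit 3],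
  [nat_lit 2],
  [nat_lit 15]]) ∧ ltAll 36 [nat_lit 3, nat_lit 4, nat_lit 5] = 0 ∧
    allB (fun W => !cjAll κ W (List.map (nth [] v007_P) [nat_lit 3, nat_lit 4, nat_lit 5]) (List.map (fun i => nth [] v007_P (H16.apW (tb v007_T) [nat_lit 5, nat_lit 17, nat_lit 5, nat_lit 17, nat_lit 5, nat_lit 17] i)) [nat_lit 3, nat_lit 4, nat_lit 5])) v_W = true := by decide +kernel
theorem t01_5 : allB (fun i => Nat.blt (tb t01_T 5 i) 6 && eqK κ (nth [] t01_P i) (fl [[nat_lit 13],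
  [nat_lit 12],
  [nat_lit 3],
  [nat_lit 2]] (nth [] t01_J5 i)) &&
    eqK κ (nth [] t01_P (tb t01_T 5 i)) (fl [[nat_lit 6, nat_lit 6, nat_lit 12],
  [nat_lit 13],
  [nat_lit 2],
  [nat_lit 3]] (nth [] t01_J5 i))) (List.range 6) = true := by decide +kernel
theorem h01 : (allB (mem [nat_lit 5]) [nat_lit 5, nat_lit 5] = true ∧ ltAll 6 [nat_lit 0, nat_lit 1] = 0 ∧ List.map (nth [] t01_P) [nat_lit 0, nat_lit 1] = [[nat_lit 3],
  [nat_lit 2]] ∧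
    List.map (fun i => nth [] t01_P (H16.apW (tb t01_T) [nat_lit 5, nat_lit 5] i)) [nat_lit 0, nat_lit 1] = [[nat_lit 3],
  [nat_lit 2]]) ∧ ltAll 6 [nat_lit 2, nat_lit 3] = 0 ∧
    allB (fun W => !cjAll κ W (List.map (nth [] t01_P) [nat_lit 2, nat_lit 3]) (List.map (fun i => nth [] t01_P (H16.apW (tb t01_T) [nat_lit 5, nat_lit 5] i)) [nat_lit 2, nat_lit 3])) d_W = true := by decide +kernel
theorem m21 : trK κ [nat_lit 13] [[nat_lit 12],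
  [nat_lit 3],
  [nat_lit 2]] [[nat_lit 0, nat_lit 13, nat_lit 16],
  [nat_lit 2],
  [nat_lit 3]] [[nat_lit 3],
  [nat_lit 2]] [[nat_lit 3],
  [nat_lit 2]] ([[nat_lit 2],
  [nat_lit 1]], [[nat_lit 2],
  [nat_lit 1]]) = true := by decide +kernel
theorem i21 : allB (fun Y => cjAll κ Y [[nat_lit 2],
  [nat_lit 3]] [[nat_lit 2],
  [nat_lit 3]]) [[nat_lit 0],
  [nat_lit 1],
  [nat_lit 6]] = true ∧
    subK (fun W => allB (actK κ [[[nat_lit 0],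
  [nat_lit 1, nat_lit 2],
  [nat_lit 2],
  [nat_lit 3]], [[nat_lit 0, nat_lit 3],
  [nat_lit 1, nat_lit 2],
  [nat_lit 2],
  [nat_lit 3]], [[nat_lit 0],
  [nat_lit 1],
  [nat_lit 2],
  [nat_lit 3]], [[nat_lit 0, nat_lit 3],
  [nat_lit 1],
  [nat_lit 2],
  [nat_lit 3]]] (W :: [[nat_lit 0, nat_lit 13, nat_lit 16],
  [nat_lit 2],
  [nat_lit 3]])) [[nat_lit 0],
  [nat_lit 1],
  [nat_lit 6]]) d_W i21_W = true := by decide +kernel
theorem s21 : dead κ ([nat_lit 13] :: [[nat_lit 12],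
  [nat_lit 3],
  [nat_lit 2]]) [[nat_lit 0, nat_lit 0, nat_lit 3]] [] = false ∧ stepK κ [[nat_lit 0, nat_lit 13, nat_lit 16],
  [nat_lit 2],
  [nat_lit 3]] [[nat_lit 0, nat_lit 0, nat_lit 3]] [] [[nat_lit 12],
  [nat_lit 6, nat_lit 6, nat_lit 12]] i21_W s21_L = true := by decide +kernel
theorem t10_5 : allB (fun i => Nat.blt (tb t10_T 5 i) 6 && eqK κ (nth [] t10_P i) (fl [[nat_lit 13],
  [nat_lit 12],
  [nat_lit 3],
  [nat_lit 2]] (nth [] t10_J5 i)) &&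
    eqK κ (nth [] t10_P (tb t10_T 5 i)) (fl [[nat_lit 12],
  [nat_lit 0, nat_lit 13, nat_lit 16],
  [nat_lit 2],
  [nat_lit 3]] (nth [] t10_J5 i))) (List.range 6) = true := by decide +kernel
theorem h10 : (allB (mem [nat_lit 5]) [nat_lit 5, nat_lit 5] = true ∧ ltAll 6 [nat_lit 0, nat_lit 1] = 0 ∧ List.map (nth [] t10_P) [nat_lit 0, nat_lit 1] = [[nat_lit 3],
  [nat_lit 2]] ∧
    List.map (fun i => nth [] t10_P (H16.apW (tb t10_T) [nat_lit 5, nat_lit 5] i)) [nat_lit 0, nat_lit 1] = [[nat_lit 3],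
  [nat_lit 2]]) ∧ ltAll 6 [nat_lit 2, nat_lit 3] = 0 ∧
    allB (fun W => !cjAll κ W (List.map (nth [] t10_P) [nat_lit 2, nat_lit 3]) (List.map (fun i => nth [] t10_P (H16.apW (tb t10_T) [nat_lit 5, nat_lit 5] i)) [nat_lit 2, nat_lit 3])) d_W = true := by decide +kernel
theorem m311 : trK κ [nat_lit 14] [[nat_lit 13],
  [nat_lit 12],
  [nat_lit 3],
  [nat_lit 2]] [[nat_lit 6, nat_lit 6, nat_lit 12],
  [nat_lit 0, nat_lit 13, nat_lit 16],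
  [nat_lit 2],
  [nat_lit 3]] [[nat_lit 3],
  [nat_lit 2]] [[nat_lit 3],
  [nat_lit 2]] ([[nat_lit 3],
  [nat_lit 2]], [[nat_lit 3],
  [nat_lit 2]]) = true := by decide +kernel
theorem i311 : allB (fun Y => cjAll κ Y [[nat_lit 2],
  [nat_lit 3]] [[nat_lit 2],
  [nat_lit 3]]) [[nat_lit 0],
  [nat_lit 1],
  [nat_lit 6]] = true ∧
    subK (fun W => allB (actK κ [[[nat_lit 0, nat_lit 0, nat_lit 0, nat_lit 1, nat_lit 3],
  [nat_lit 1],
  [nat_lit 2, nat_lit 3],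
  [nat_lit 3],
  [nat_lit 4]], [[nat_lit 0, nat_lit 1, nat_lit 2],
  [nat_lit 1, nat_lit 4],
  [nat_lit 2, nat_lit 3],
  [nat_lit 3],
  [nat_lit 4]], [[nat_lit 0],
  [nat_lit 1],
  [nat_lit 2],
  [nat_lit 3],
  [nat_lit 4]], [[nat_lit 0, nat_lit 0, nat_lit 0, nat_lit 2, nat_lit 4],
  [nat_lit 1, nat_lit 4],
  [nat_lit 2],
  [nat_lit 3],
  [nat_lit 4]]] (W :: [[nat_lit 6, nat_lit 6, nat_lit 12],
  [nat_lit 0, nat_lit 13, nat_lit 16],
  [nat_lit 2],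
  [nat_lit 3]])) [[nat_lit 0],
  [nat_lit 1],
  [nat_lit 6]]) d_W i311_W = true := by decide +kernel
theorem s311 : dead κ ([nat_lit 14] :: [[nat_lit 13],
  [nat_lit 12],
  [nat_lit 3],
  [nat_lit 2]]) [] [[nat_lit 0, nat_lit 0],
  [nat_lit 0, nat_lit 0, nat_lit 3],
  [nat_lit 0, nat_lit 0, nat_lit 4],
  [nat_lit 0, nat_lit 0, nat_lit 3, nat_lit 4]] = false ∧ stepK κ [[nat_lit 6, nat_lit 6, nat_lit 12],
  [nat_lit 0, nat_lit 13, nat_lit 16],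
  [nat_lit 2],
  [nat_lit 3]] [] [[nat_lit 0, nat_lit 0],
  [nat_lit 0, nat_lit 0, nat_lit 3],
  [nat_lit 0, nat_lit 0, nat_lit 4],
  [nat_lit 0, nat_lit 0, nat_lit 3, nat_lit 4]] [] i311_W s311_L = true := by decide +kernel
theorem uy_a : uy_W.length = 144 ∧ incr κ uy_W 0 = true := by decide +kernel
theorem uy_b : allB (allB (mem [nat_lit 3, nat_lit 19, nat_lit 21, nat_lit 22, nat_lit 23])) uy_W = true ∧ allB (fun k => allB (fun Z => cjK κ [k] Z Z) [[nat_lit 19]]) [nat_lit 3, nat_lit 19, nat_lit 21, nat_lit 22, nat_lit 23] = true := by decide +kernel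
theorem py : subK (fun W => eqK κ (rep W 3) []) uy_W py_W = true := by decide +kernel
theorem ny : subK (fun W => cjAll κ W [[nat_lit 2]] [[nat_lit 2]]) uy_W ny_W = true := by decide +kernel
theorem ry : trK κ [nat_lit 24] [[nat_lit 0],
  [nat_lit 1],
  [nat_lit 2],
  [nat_lit 3],
  [],
  [],
  [nat_lit 6],
  [nat_lit 7]] [[nat_lit 1],
  [nat_lit 0],
  [nat_lit 3],
  [nat_lit 2],
  [],
  [],
  [nat_lit 6],
  [nat_lit 7]] [[nat_lit 3],
  [nat_lit 19],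
  [nat_lit 2]] [[nat_lit 19],
  [nat_lit 19, nat_lit 3],
  [nat_lit 2]] ([[nat_lit 2],
  [nat_lit 0],
  [nat_lit 3]], [[nat_lit 0],
  [nat_lit 0, nat_lit 2],
  [nat_lit 3]]) = true := by decide +kernel
theorem ay : trK κ [nat_lit 21] [[nat_lit 3],
  [nat_lit 19],
  [nat_lit 2]] [[nat_lit 19],
  [nat_lit 19, nat_lit 3],
  [nat_lit 2]] [[nat_lit 3],
  [nat_lit 19]] [[nat_lit 3],
  [nat_lit 19]] ([[nat_lit 0, nat_lit 1],
  [nat_lit 0]], [[nat_lit 0, nat_lit 1],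
  [nat_lit 0]]) = true := by decide +kernel
theorem bby : trK κ [nat_lit 23] [[nat_lit 3],
  [nat_lit 19],
  [nat_lit 2]] [[nat_lit 19],
  [nat_lit 19, nat_lit 3],
  [nat_lit 2]] [[nat_lit 3],
  [nat_lit 19],
  [nat_lit 2]] [[nat_lit 3],
  [nat_lit 19],
  [nat_lit 2]] ([[nat_lit 0, nat_lit 1],
  [nat_lit 0],
  [nat_lit 2]], [[nat_lit 0, nat_lit 1],
  [nat_lit 0],
  [nat_lit 2]]) = true := by decide +kernel

end H1.Oc
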