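import Cfsg.Agent.H1.Am5
import Cfsg.Agent.H15.CS
import Cfsg.Agent.H1.OnC
import Cfsg.Agent.H1.OmB

/-! Generated by tools/h0/tr.py. -/

set_option maxRecDepth 100000
set_option maxHeartbeats 0

namespace H1.Oc
open H16 H0.TR
open scoped Pointwise

open H1.Am

noncomputable def a_W : List (List ℕ) := [[nat_lit 0, nat_lit 2, nat_lit 0, nat_lit 2, nat_lit 1, nat_lit 2, nat_lit 0, nat_lit 3, nat_lit 2, nat_lit 1, nat_lit 1, nat_lit 2, nat_lit 3, nat_lit 2, nat_lit 1, nat_lit 1, nat_lit 3, nat_lit 2, nat_lit 3, nat_lit 0],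
  [nat_lit 1, nat_lit 1, nat_lit 3],
  [nat_lit 1, nat_lit 2, nat_lit 1, nat_lit 1, nat_lit 2, nat_lit 3, nat_lit 2, nat_lit 1, nat_lit 2, nat_lit 1, nat_lit 1, nat_lit 2, nat_lit 3, nat_lit 2],
  [nat_lit 2, nat_lit 1, nat_lit 1, nat_lit 2, nat_lit 3, nat_lit 2, nat_lit 1, nat_lit 1, nat_lit 2, nat_lit 3, nat_lit 2, nat_lit 1, nat_lit 1, nat_lit 3, nat_lit 2, nat_lit 3],
  [nat_lit 3, nat_lit 2, nat_lit 1, nat_lit 1, nat_lit 2, nat_lit 3, nat_lit 2, nat_lit 1, nat_lit 1, nat_lit 2, nat_lit 1, nat_lit 1, nat_lit 2],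
  [],
  [nat_lit 2, nat_lit 3, nat_lit 0, nat_lit 2, nat_lit 1, nat_lit 1, nat_lit 2, nat_lit 1, nat_lit 2, nat_lit 1, nat_lit 3, nat_lit 2, nat_lit 1, nat_lit 3, nat_lit 2, nat_lit 1, nat_lit 2, nat_lit 0],
  [nat_lit 1, nat_lit 1, nat_lit 2, nat_lit 1, nat_lit 2, nat_lit 1, nat_lit 3, nat_lit 2, nat_lit 0, nat_lit 3, nat_lit 2, nat_lit 1, nat_lit 2, nat_lit 0, nat_lit 2, nat_lit 1, nat_lit 2, nat_lit 3],
  [nat_lit 0],
  [nat_lit 1],
  [nat_lit 2],
  [nat_lit 3],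
  [nat_lit 2, nat_lit 0, nat_lit 2, nat_lit 1, nat_lit 2, nat_lit 0, nat_lit 3, nat_lit 2, nat_lit 0, nat_lit 2, nat_lit 1, nat_lit 2, nat_lit 3, nat_lit 2, nat_lit 1, nat_lit 3, nat_lit 2, nat_lit 3],
  [nat_lit 1, nat_lit 2, nat_lit 1, nat_lit 2, nat_lit 0, nat_lit 3, nat_lit 2, nat_lit 0, nat_lit 2, nat_lit 1, nat_lit 2, nat_lit 3, nat_lit 2, nat_lit 0, nat_lit 2, nat_lit 0],
  [nat_lit 0, nat_lit 2, nat_lit 3, nat_lit 2, nat_lit 1, nat_lit 1, nat_lit 2, nat_lit 0, nat_lit 3, nat_lit 2, nat_lit 1, nat_lit 3, nat_lit 2, nat_lit 1, nat_lit 3],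
  [nat_lit 1, nat_lit 3, nat_lit 2, nat_lit 3, nat_lit 2, nat_lit 1, nat_lit 2, nat_lit 1, nat_lit 1, nat_lit 2, nat_lit 0, nat_lit 2, nat_lit 3, nat_lit 2, nat_lit 1, nat_lit 3],
  [nat_lit 1, nat_lit 1, nat_lit 2, nat_lit 1, nat_lit 2, nat_lit 1, nat_lit 1, nat_lit 2, nat_lit 0, nat_lit 2, nat_lit 1, nat_lit 1],
  [nat_lit 2, nat_lit 1, nat_lit 1, nat_lit 2, nat_lit 0, nat_lit 3, nat_lit 2, nat_lit 0, nat_lit 2, nat_lit 1, nat_lit 2, nat_lit 0, nat_lit 2, nat_lit 3, nat_lit 2, nat_lit 1],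
  [nat_lit 1, nat_lit 2, nat_lit 3, nat_lit 1, nat_lit 2, nat_lit 1, nat_lit 1, nat_lit 2, nat_lit 1, nat_lit 2, nat_lit 1, nat_lit 1, nat_lit 2, nat_lit 1, nat_lit 2, nat_lit 0, nat_lit 2, nat_lit 3, nat_lit 2, nat_lit 0],
  [nat_lit 1, nat_lit 1, nat_lit 3],
  [nat_lit 2, nat_lit 3, nat_lit 2, nat_lit 0, nat_lit 2, nat_lit 1, nat_lit 2, nat_lit 0, nat_lit 3, nat_lit 2, nat_lit 0, nat_lit 2, nat_lit 1, nat_lit 2, nat_lit 3, nat_lit 2, nat_lit 0],
  [nat_lit 3, nat_lit 0, nat_lit 2, nat_lit 1, nat_lit 1, nat_lit 2, nat_lit 3, nat_lit 2, nat_lit 0, nat_lit 3, nat_lit 2, nat_lit 1, nat_lit 1, nat_lit 2, nat_lit 3, nat_lit 2],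
  [nat_lit 1, nat_lit 2, nat_lit 3, nat_lit 2, nat_lit 1, nat_lit 1, nat_lit 2, nat_lit 3, nat_lit 2, nat_lit 1],
  [nat_lit 1, nat_lit 1, nat_lit 2, nat_lit 1, nat_lit 2, nat_lit 1, nat_lit 1, nat_lit 3, nat_lit 2, nat_lit 1, nat_lit 2, nat_lit 0, nat_lit 2, nat_lit 3, nat_lit 2, nat_lit 1],
  [nat_lit 1, nat_lit 2, nat_lit 0, nat_lit 2, nat_lit 1, nat_lit 3, nat_lit 2, nat_lit 1, nat_lit 1, nat_lit 2, nat_lit 0, nat_lit 2, nat_lit 0, nat_lit 3, nat_lit 1, nat_lit 2, nat_lit 0],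
  [nat_lit 1, nat_lit 1, nat_lit 2, nat_lit 1, nat_lit 2, nat_lit 1, nat_lit 1, nat_lit 3, nat_lit 2, nat_lit 1, nat_lit 2, nat_lit 0, nat_lit 2, nat_lit 3, nat_lit 2, nat_lit 1],
  [nat_lit 0, nat_lit 2, nat_lit 1, nat_lit 1, nat_lit 2, nat_lit 1, nat_lit 2, nat_lit 1, nat_lit 1, nat_lit 3, nat_lit 2, nat_lit 0, nat_lit 2, nat_lit 1, nat_lit 2, nat_lit 3]]
noncomputable def a_Pd : List ℕ := [nat_lit 0xdfefb7bbcddeeb73b8d7eb759a8cbe5b1789dbe3f6db5c76a755b4cc69a975da153ec13e9ecf2ad879ccda6ba7d9ecb1b72c9ca6f98cd76af2b90d8d9b6165ce56af309b3e0b034d7ec09ef917a3c70b78985dad12b72e51c8e3b7c7edb6cb5da6d575c1e2b1148b0b42c7a19148f48c4ade1ab2ef9de757f1ca9d42a352d13ef00afd2ac561645c29680a45368d45454fe833f9eaba7736f655e6b33339a3f2637797cba5b21ba24724e2482361c8caf57e5920b747a29548dc6a31196b4562d1d40225ce7439c95d67281c130881742f1d30a85df8dab57f9aaff32a72a96867bece0cb7b793cef463ac18910608697e0b0788a2ee771b84a124594d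960fa7c3b95cf6be66c5caacc3fb45a562281d9aed4499e49a9925a60955c4b92572baaab6129064ab0183472210e00f9599069549a61011c8f9bbe8d26c1f50e8d441e50540a19f8ea74396f8dd90c6618d976bd65b865527562b64d24730c224ed17950a64e1714a1113698b1badc6c8ad942a6db38511087c304e6f380ce02a812bf952247c0c5ea21783b840ec7507c46450f0f5c0de6d075aa8642a0836cf0d211921863b1584172311cb8b75b05564ae0a29cb4a308a7938104d2581e1337038cc8a43a0c1a7e3d1e0167538828d6682e824c8612f16cac072893c0c4c24014843f1a01076381a8c85a021489844030e0642c12040300001,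
  nat_lit 0xdbedb6bb4d9ecb63b0dfefb7bbcddeeb73b8bbe6edda9b0627595aa8d368d44a1d227f8cb65aec97ad74e26f819861a752ac05cefb85abd630fa08fc6f551ac6e5b216384c1b31937d3e322f586671e2e9d7ba1ceffc93964d276eeb5b99fcf36db2d4a7b49a39dc236aabab63b1588e260ea1818ec7c72c2bf5e2eb4eb9b3acb4cfe61ab559a253e9597a4d1a8d8511d0a7a2d154fe55e19accc3a1b0481be52b974a42e149359e5122a5b85c518ab8843d1286c5a150756c562108823d4f6787b3c4028123914da6b7b974b7067138608df34999b90112ba5316cae355fe657e333b2f8643e9f2f33931a28c2f63021ef176ba97ae45d2dd70b29c2c25adf6db558ad2c95b95cad6828d9aca523ba049eb5a2939b04baf92abd5da5d06b759aa1208f532354aa0456bbf5984295d3950a920bf29549920fd60b1a38f6509aa10eca8539dcf874e01c290e8731bb7a632f960d65234359a06525183ba422f754823d198ec619d01170b5e6f28a45c5713678a478994c0a2110782c084c2547bec488e113dc98f477881daeb0fb99c82371885c2df6b35438a150341a61b66b2832656431830be5eaed70160aad15e14550494c7551274209b4b83d249009a34228b441fcfc0c3c82cec72051b4d8692e19cb4622f8241055280189a49029108640198f862391b010062c1509c3c1d008682e0e068000e02,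
  nat_lit 0xdfefb7bbcddeeb73b8dbedb6bb4d9ecb63b0d7e375bacc66ab53a8cc64f3599a0e127d60c462aab39c3e9749a7cbe5b1f92d3652f78ecae435dabc5e7b139fcde1ab1a2b3d4ea34da4c9a18f4c8bc1df2fbbcc6d12b954a5f1478f5ba411a8db5a2f75c1cf27b61a433ec9a09148e6aeb96d6a5d859d2ff3b1cc14cf033484d33014e9b4caff63b84e201376128b46b54f686cb664ed5f3946a252ebb50a952aed30bc566b721ba5cee4ec53df92e9aaf57e596d8fdbd9554b5db0fed3b4b45a4795f32d98c563b0d897d603069ecd5daf17ab95d235934559ac960b157ab15b7139294c97c50284c77abca592528ae27128956a26d22675c181108745a290a862b9dcf48040da8aae78c4562c50b12de111189476029887a66210d8750e150bab44e0b0683c0e08e3672a6808e7fbf9f8fd7daa1f2fa5223d6cae93925ecab1dd09e4f31d4fe76ea734918cc892bb9d0e944bb5ca3e552d204376fb7926e170371ba2e27145aed88c8b0a65415b6628486d110624a25bdc9e46238c89a401f9048642720a042f5788d86ae21c8e0441e229305e306d871aa7c3e86d04d038a0cda5a399d14c78379c0b676349a0d46c35a40301151a7cbe5e46188c212071b8ea582ca10187e3d85c2c660d064281504974ca0f081700e562909c4c3d150a44825020d0781f100cc042d0281846010e8281613000341003,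
  nat_lit 0xddee771badfef37dbdd9ec761b2dbed36db5cbe331789c6ea75596cc64f339ac8e77399bc562345a1d06934ba7d7ea31d92d3653478fc865757aed6e7f599eb056aaf55aa54ea34da551e8742a0cfe7731984be592b954a64f269047e3d1b8d46631218e4f67948b0c76c78791c8a6d259761a5b3ac2d3f0983c14d30333ab533014e9adfe6564bf4de8138bedf2f745bd4e6cd65bcd627d44a35769752a8526f177bb56eb375ba5cee524b8dc2b928afd7ad16fb75b6c567b65aed56969b49a2d066b3196c762b1186c260b017ebe5eaf176ba5cae16eb559ac962b057ab558a75329146a250a813e9e4ea71369a4ba592a9449a49229046a31168a4421d0c854220d0481401fcfc898bc5a2b1465326271288b3d9c99882621f0e86c32170a84c220f0682c12070280aa2008f7fbf9fafc7daa5f4f952a395cb67c3dd56f67abd1e6f278bc1deee76bb190c675ba9d2e873b99cae45a2a9c6e270b81a8df6f375b8db6d365b0d76b354a85329144a04f27134984b25124904723114884321104803f1f0f4783b1d0e470371b0d46833190c4602f170b4587d3e1ecf4793c1dcec753a1cce471381bcdc6d361acd4693419ccc653218cc4613017cbc5d2e16cb4592c15cac550d86832180b8582a14098482210078381a0c158a85228138984a241188842200f8783a1c0301408030102c14090401c0001,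
  nat_lit 0xdfefb7bbcddeeb73b8dbedb6bb4d9ecb63b0bb656db6bafe233d59a859a999ab8d1e9558cfea6fd7f9d6929d3397cb75d429edf24f22af632478e8f62a35aa8842a1f0c844160716ce676e192b1bea4b78746bdccf37ab93477db7b735b6cd645daadf6be9a78f8bdb8e82c7d5e3d8d3badb0351a062c0584be5dcd173a75be65a5a557685d4a7d13f9493893652c2f656bbb2765ae66d3944592615352cc25a6294cbcbb2c9250a8d208ec8d0ef2aac6e41112042e2d1a808de25a67eb5601a2a66c23dd987c29cd618485e18e3835e9bf04bac09b6ac6b3ed18e8c334de9bd6468502e6a2ba28118e0314f9c3112fd25d3772f5d4bb72b127ddaf0b43e5bb6e3d16cad13b3956d2588cd362af73b13d02b44d134f0a8b0576ae4a7e555835a245520e46a9c12a244a7a6484cc2a4dc970d2052e7e871fc926ac8a4450d145953d256f271228733945b2d6d361b4c92b301acb06929894a23af14da785f215621a3e51190b59b1c16461fe531eb6c54c914b3c66fd8709e12478309a044380091f6a51f148463b103bcb21f75b9dca4c6d074c2d40e365acb33e199081a67065945c58b102ebf382f02cb8362d428af5599cf613320413a3007a5d26913aa0c1a3844831047f059e4ee0a391b82a6a3284810633001cb457031409c05249144a411e088063a1b808622e158a002210f06c3000088381204,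
  nat_lit 0xdfefb7bbcddeeb73b8dbedb6bb4d9ecb63b0d7ebb5bacd5eab53a8d3e9b4ba4d1e8b43a0cfe7b3b9ccde6b3398cbe5b2b94c9e4b2390c7e3b1b8cc5e2b1388c3e1b0b84c1e0b0380bfdfafb7cbddeaf378bbddaeb74b9dcae370b7dbadb6cb5daad368b3d9acb64b1d8ac360afd7abb5cadd6ab358abd5aab54a9d4aa350a7d3a9b4ca5d2a9348a3d1a8b44a1d0a83409fcfa7b3c9dcea73389bcda6b3499cca633097cba5b2c95caa532893c9a4b2491c8a43208fc7a3b1c8dc6a33188bc5a2b1489c4a231087c3a1b0c85c2a130883c1a0b0481c0a03007fbf9fafc7dbe9f2f87bbd9eaf479bc9e2f077bb9daec75ba9d2e873b99cae471b89c2e06fb79badc6db69b2d86bb59aad469b49a2d067b399acc65b2992c863b198ac461b0982c05faf97abc5dae972b85bad96ab459ac962b057ab95aac55aa952a853a994aa451a8942a04fa793a9c4da6932984ba592a9449a49229047a391a8c45a29128843a190a8441a0902803f9f8fa7c3d9e8f2783b9d8ea74399c8e270379b8da6c359a8d26833998ca6431988c2602f978ba5c2d968b2582b958aa5429948a250279389a4c259289248239188a442190882401f8f87a3c1d8e872381b8d86a34198c86230178b85a2c158a85228138984a241188842200f8783a1c0d86832180b8582a14098482210078381a0c058281208038180a04018080200,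
  nat_lit 0xdceff75bddf6e377bcd86d36fb1daedb65b3c4dbf51afb6d6b0d8bca5cb477bd24fb3b9fc3e8273a2c55072392d66b659a794e63356890dd63d20cb5832f9bcf6aaada18c4aa98fb93529e943d2c027b088fc4f1ee5a9e9a0549d5ddf5cd68cc6ecf9569bbe76cf8ed22c5886fb85d736736a5dabfa7ceb3969b9baa9ceeac5455f8192dc2fccabfc927eec515f7337a5ad553b79b3427089a9425eb8964e51d7d6e66a49379048e0b27385c4cabb444422f1d8d98632c9173fdaad91cc19e5a0d2bc1dd06b7649c94d7c389e30b7643bf9146d3b29d8a9e35418d26cc01a0d68d6228d4ac231a7d4345b2d4ab746a5d40bc6141566e8a9b896abebdaf2ecae8443331a8553f5ad0251aa1422916b1b1e624e6d586205f809899c497bd08904fabcbdbcb2701109af887a41e05b20af08043a699c7e42321b87ce471c3876f555c3074f179d027934974dc6c399accc6a386ccb656ae191164e3191c1cf522828b9b6dd8922458d58d36056522a39e2b0b88c11c42715436142614ad206fd7d3fdf8f95b0847af679321d24c633a06622550dc382d6e0c1ae1b3d9f526d160b2d748c0b86986c00b0651eb958ab566b0562a022665228132953aa61285c09238c00c2b214b2803e1d0e065399bc12130a83830070697420582992c8e3c2511808231287850020e8d0402f0080c48060f80010140583c1405,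
  nat_lit 0xdf6ef79b8dcef77fbadaecb67b6d86c769b7d65b72d97b7e1ab5adca5caf7a3d2e73099ed061f4355c46468392c4e2ed1a794e63332cbac86411ed466f5f60cfea613398bcaa98fba3d26850cd25027913b74231ce5a9e99c74ad74c357196b46aa990b4ceddf1d67d85958a70b7e4b3576ea9cd4f5fe167cd3b9bba9ceaabd455f8175dfae162993b1e124be30b349ea2e8af29db2d5b3b284d5712e9c4b4999b1f5f26d259548e0b273746dfe974645a231f8cbbe36c718b51fed7838e340f2d1bb20ceec95ba98e4a23c1c67578453f90e7636dc58f7a35418d869c01acd0b861991497d4f98d40b5b3542b344aed48c25e3d56ee8a8539d6bcbbafaf5085742b2d267e2adb100d9b3c50a115b23165eda275221e626717e02f724bd09e48ac4c5c0b26f13489278819e7e6e20af08640a6a40843f5196dc83e81435ea3b7b50de23a794027b3396ce072369b4d0703528cba56b6228c9f04c91415052383b6c5cdc88b9daa2c8db5ca42b29a262d0a8940c6e2a13c3a1629132aa08fc7cbfdfafa570f050ab79b19d031643a43c345a3885a1c6e8bdb07b0d9f1a8d26033172600d05d88c10c8591cba582b166b156aa4ca1852a8530942d2652a0e2ea3d185606218b0813e9ccde113a1c026090a170cc0d038481e592a1288c212591c4604120cc7a1d010883e30018044a05100200015050401606,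
  nat_lit 0xe24d7ec706441cf09165d707232ad7e595401d1d6b48326634ec6ab6a19d31abea431a321e675428c8de1934f04260681bcb0af0b7da1974777e801b2c9a54b6014f84d862f12c502e3f5d6d50abdcc44ba06b62560ba0d4009bcaf27c7b3bad24982c0a691d67b1a46c2eada64cf15c6f53420397c68aabb5d69f75853ce87e1e0f2382a931cc846a8a57c6479e7407db85d8aa49189162eb593ce0543e4c8db2b1521c41b61689db56a790124b19d969aa73b834e5cb51291391f2834c1d779f6247e23bc25201ec3c7a2437a1586b5162750f40a6d68d7bbc7ecd451e5f3a07bc58b3605d40dba852d9a8b53514c2e7024df19c9b5831b8af8722e63444f552bacd73758691ff12202f60b8acf32a1d6e65e219ec8dd488e6d75219544e4dc09586897e9301cb8ae91a4318cba74d11370404a0ac6cad96e6fcda9904d21861e08b943370644118d2d335e0cb068814dc8f8ed3ab4aa0748ca11259833d584946ab4b90a8cfccd2cd85708401ae6a96c182f674c35ea293db29b9ac4842686ecd1b799aa52ea64284762593c6b2ed1b37d3c21130376f0c932f8172a572046f4125d6a7ed0b34f08a7f38b6f392f8ac807b34add3980138ebf93f2d4d97d10f0088583bb3bfb4e529c56a56367a2c178c39546c9e61bba545ee4ee7d3a6d851178d4718e71dc6efbf4a652667e03ba325506a8080200,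
  nat_lit 0x639e13100e31d26bf2acb2a95f1648eeb837fdf6a75143e7745a6d4c8b10d6d0558d4f88a33e9e41539ff3daa59e4c400aaf0173747bf041bd43c134302ca511cf2384dada2cf8615e3320e13a9cadf9a069a76d773c8641c7c33b32f8159bca11f00b211cdf89b1982c2f4d92616f5c1d928bae4d1e9eabb0909963804cc0eab4634d06e93acd72068a95c7a2c994024db4e046902423ce96c405d83c04ccb481d2019069b19814053180f14e4b69da3196a3e895086f4812d1a48b40d3d87e715835223baa6b360e547518b707b8b47da2a1794095d8b6a8d976809f85df3577bc35b90ba0c9cbc307f060b93d6d5802c06dcde63ac007b8a7caf2d56de29e214a55677621b4070615290d04864e95f88965b3b32c8de6a301135e9f52c39de949a56e8abcd40b854aab5b6a3f17e0ad7bd13c4eac424f0f08ec2a99b6c342b06f7711a965642819d99339641e1c4c0bdf4eec50a8cd943e8c9cbed78319727de06bb92949d0e22022a533b6091f55db5a46087462b808735541ba638a6cbba2eb17319985ab71ce842761908b1cdf77bb5ea23a25d36734a846c28ad9b469caba25c3d146ca5ad88b78cfa0938d37ea487b0cc6a36b0112696c25954427536a309ce257b7c94bdd79c9515d7ce830b74b12da740c5bbfca5d92fa1b98ba10941c2185f59a62e4adbb28d2ae197039eaff26d78080200,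
  nat_lit 0xc3e91a97143ad5ae30be71060f1387f42da1c331b79b3cad11e787cdc09ab78b4676389c5656d5b6d6404ecac3093f3d39934f9a590c7e20a1124267f418e208c47c7ca11321a3da547d4d54504fcd1316231a6f25240b8a5a69051e911b80676d2a29c342231eb1c76c26a34848b32b97168106b33d58a77c3a81186aea7978cc3543dfdf96db74b28b1c7be0de540bd64a28cb1f90b2967ba8c1bc0954ac2f10e4c56c0746ae1c4ae8c3de4ee8e220089e96fbf592c544b62d745186e68ded3d06e32ca0687cc3030c60a053cee3a2e02c02752f3356b55139fb490d6fb4e7aa1c55152155d04fabf4842094ecdd40d2a8b65064209ddc49128a36fcd50d17d6ec04ac06b8e886d442e454966498843bae9e39c22c805dd98b77a8b0a16d87827097021301d2d06d211e35aa471dd633215543739879bfe667028df542d1705a14b7b2a425c8be39a69332fde2e5d2e1678a440efd4acf7b28743d51288a5b75a78bda8561480319b1e38493be357a859666a7074d92654a811970ca7eac582bf79abd34da583f8332e371b538586e1956aba6494958689faadc54f8dcb3fb4b825ebb4e5735b04c663c6aceb0f239de17004417b5839af3017e98552296f0d361ddc85a5d0a2bd25bbd9aedb21b37c899c91d90799a39123edcdbfdbc15042b2357992e5da03a26626381669595d440155296c100200,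
  nat_lit 0xd9ec761b2dbed36db5ddee771badfef37dbd2b615135685d9e390fa41289c26bf545158f8436302e0c8058ef6416b1614ad39bea8f9bd030183576a2fa9e81add7b5d635fc4b3a98b9e8d4e9e9a270442e6a9e92603bf8dea1032f484b27164a09091fd530d6398c20a6ab2e8861960e2c3c8ab159c66b2c309665074571c48c98c5b694a959a7c8b29966d7c3c2a511773d61afd094b5464467bf22d7b93be4ae7e28d8274e704528c04299ae5186b63d6adc35b40c033a924339b2db744d56c155be0a815fd42ba7b04d5e56a99f764011d0cb81b99b0606b8e79360c64a6543331c27c8732824cf4207cfcb10748990ff17963752e107f571b99c30a89cce18c1da339e3c256ef8b4a52d50259bc6a0353a2d1ad64b91d372ca9b32eb1b8ec1e2934b55530a4c4589c5578a50ea36cb5d1443b294947aed88d1be8f568479cb7878041f5f03f7a17af4e980728edacd3baa19d62055c15652542e875a387a249176926dab104f74cc0981e21dd80ad7ccb68a899c9906d8f63440a8852921240c6f78bdde6ea1b0d1bf291d5bc7221a608edaed98ebc1875071b25e0a40695067d64698d51b520fd71383dca0e40b2327d4ca14b17cba88b918e406208d38271e4dde32e1c0b852c4af0de91a01a2d5e4b8904e9f1662c138923afb15e6a282a18cec66e47794dfe5520141e52b009a4f2a0ba0000e02,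
  nat_lit 0xde6f773bbdd6ff71bed96c36db7da6cf6bb1cb46713ad6b5ba3faf833fdea3b55c4906844321598da6d99146bcd465da6b259bf94b698c45cff6ad637716dc2bddd04cbbad4705742dad249467b474a52ead4b6a94da71047eaa8dea6356fb6ebb1f1cb41f4f900a05ea8a2e2a9f8223dbc4c2ec516cb52232cc09c2a66f44caa5773328c88ab547d0ac6f4944dd4961b1138a8533d9e8eea2be0847847231bab786accc65f83c0530d57d34238cd4316356cf6cd55ae7f219047b1990cabcde49f76e77081c168c4989a74ba126e65d661730782be4b148c9e503c3348a35706b4650733386934628ca0d8659b0c0c05982c084af9f6147d3dd024d401133f9ed06870ae16fe36bd4fc728540f17816537a2aaa7860010600cac5a3abb12a9473a4a09a781af576ac17812c947d36481c5c7288dc702c8c9826092138b477bd2d122d156833c562989b0800081409a170a5fc215e24bf5c15aa66c1daacd736e2b119bce55d1688d5c8a7b3cbcd6074389f3821a07068dc6b3499d25bc2253dc8697112d726ba43c818f072029c4d2fca543992b7b043e4766b2cee746330ce514c301074c05ea95426487093e2525d938564b4bcd140164f248289040585fd88ce80e1d8b5f77841dceb07ba87ce45490eba2a13ac4e6c74e88138970fa58ce90571b26c1a0bbf495103117d6cc6258e46ca84c1d132c8,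
  nat_lit 0xdfefb7bbcddeeb73b8dbedb6bb4d9ecb63b0d7e3f5bacc76ab53a8d366092f7874f2f3855fd3ecb3baba98e593cbe5b5d29d3dc989abc6e332b90c5c2713569d61ac166b5dd3015133adabaeb86a7e7c55bb9fadb5372e5160ae965bad154b3da5ad208de8aaad1694522d5896cba197cafd6abda0c3e7e7b1a95a669a98c53ef02afa18f9c91554061e6669b25d86a178bbf3b849ce6d3a3d1430afac86324059306ac8e451ec124724217e2a68411acd6edf758fc85a16cc1c72307fb5592c6cf4014ca8c060d0723358843f3c81013fc3a4b251a490a05e106e2a7a608868fdcc930c15c805013c3ad097d10657a188382d6e22e557f363d5da0f7304126d46c9ecaf138445ef0868cd22c2ca3c93dae7c3e940f1508554a177bd1d2d8ec5c43600eb3069d0e64038c99e404831aa4ef8a751c245d1888efd7058e94b4751bc956b457818f38366f8f26734510e4185642b86e74a0484c86a34d87dba921039d1282290b99abe69cc625113bb6ec5011589d5703826919c000409054b80f3f91a33a4cde50e29fa705e644b0c1f46b12bd8c25e3d3a65ecc65939091d5b86c2ea55caeb34c90080c281a8103964e32e4ca8d24465e9dc581dba8b2ad2105548381a9452b766d13415442202c8a3247ab1d8e06f0fd7a94419d80b3836818dc5b5a3e5348a439a20ee80c8595447828a44c8e382ecde46,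
  nat_lit 0xc4ea35f8bd66b72d97dceff75bddf6e377bcb7612615aceecf6faaa73ec76f58733de7686b46594a190a8cc94c8fea6792b57dd1893db35974555bb9ff0d6a966da4162d0acb2929372da863d86e7a008ad821d066ac9d4e4eae15ed0a49dbcc44a84e9f450a13ac2b72af750b86a6d3826ec4896db7da63b9c7f13f24488c2cee4ff9a914655854495b2ebbe9998682c4281a0795ac79e497ae57696783896dc1b56f1d8dada20e9b0524b8aa68928138a8ee1bd91ed0b3977ced967d3e61f40d43a3c27ee16fd0722c24926da67314ca84c9c4b04af07a48d3562b0831a4d8a73013334182ba12ad8aa28300e9aa315a1113ca8374e152e9257a995da6357aeb3c5a36ba5cb30218f29d833689435d8969ebd3765f0145b39117bd1c31cced8b92833730b3b9d42298c98a20472e01fafc5e51c80431888efd707c0dcb475d20a05cdba7e7e801c013b16ec99b8b57ccdc707730250484c687283b23210563637191c695b20903890813e63b25adced568805565f3138858612f52806fa21545f23f123d079a55fba644a67448e0433a4bda5b2ec1b5c3ef11d52234933f45400a51b0e518551c0d6fe08569af02ac340514465ccc252b5e7ba52beb82e4c94959add51000fb09c18f7c37b15c83e47a342352a80381681b191e21422343d20675a38c4334998780cd885c29543002b05808e2c828b02f,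
  nat_lit 0xc36aadd77ad4c3531fcb6275bafd465f598bda58b6bb1656fb73b359c1b339aa0a18ae4e6632dba2e3be934affd96dcf2415e1aaf6d08a1419f1dd844b6d116d6fc36dc79e025782a549afaa2c8c64f4c8de319a55157bfae347b0ef69140804fde31550351271e906bade832311eba97006ec1052159510aa1a69fae8553eb96a691a5dfe656db85123746a1bd3476cb536d12e7289ed09379c4da6ad51652533ba4c0040716c0bed652893df9d724379c1a363dc59318f2a2ad6f49f31cb2d18f2fe2b10bd5db0d890c0e808a66263e998a1c16b8d156bcc5c9fafc953e5f4f8532954742c1c72d27f6cb600aec92b5ce6749e01a9c908123032b70b3273b849f61ddeee7527a69661d5d64390c6a1c6d9fcf6adbd7883dda0b0d873081a073e0e6219387830ac8d702a6348ed3ca562b0b9aa158ad5223d6cae53bddecab7adf2a9678c35904810526a632fae200944bb282e98e4552d170e214c067a266768aab39b027538967854a9ebf9d5e72a10cd96062e8749241f2291914b26935e48d8681f060ca3b8bc2054378989c245c19130da76d0ae6a15684d62778e106805e5a4a254e41faf57cdc302010b28431f99c503c3234d7c1a303342e221996cea4426e720733ab985163d2f2202a14048d0424f2407a1704c28e1c2661ab7c4a240217422783883982ba4926c475960399da1396c2a5d5b,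
  nat_lit 0xddee771badfef37dbdcbe2f1396d7ea35bacd9e4363b0caeab53b2d3e4e6b36be55b0f39b35969f609f5769798dbed35729d35ca85aec66371d8fdb4f76b3cd0e1a76bf8e54ea38058ae14da35127eaf31bbcbe437448e49208d905ba3d1b8d462332caa67f3d64b1c52c39caf57f350e9756a5a9dbce8a1367c14cf0334ceabe9afbccbf5f948812ae8af67be45e94078e6f1588c2bbf40a452e934b50a92c2f130bb56eb36895b97288c7238d88e29148eeb6f8fdb5a183b65aed36a3fb45a5626bb51264b255712e495caeaaad84a4192ac060d1c8900599069549a62391e3ea1d107941502867e3a9d0e5be37618d976bd65b86552793491cc30768bca853270b8a50889b4c59126b4562d1d3c935008973940ecc83a318e725759ca0704c2205d0bc74c2a177e369b16aac7f9aaff32a71a554b4a32b4804333df66f3832dede4f3bd18eb0624418132988697e0b0788a2ee7717cbeae12849165989b2c1f4f8772b9ed7ccd8b9550c854106d9e1a4232430c762b082e46239716eb60aac95c145396946114f270209a4b03c266e07199148741834fcdd6e36456ca1536d9c288843e1827379c0670154095fca9123e062f510bc1dc20763a83e23228787ae06f3683ad52893c0c4c24014843f1a01076381a8c85a023d1e0167538828d6682e824c8612f16cac070c8582408060a44c22018700200,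
  nat_lit 0xa2048d8f49c288444356861d68d7d38c5097816aeb8668e8d0baac5702730b34834235481d462296bb23ff4ea95c3e4a67502131c94fab1f2c58d9298c7b69904df3995c1d05eda3b91cb512733dab0e6dbe0beeaab47c3a60a69d9010452c29fd12d179629967a77e313b6faf9c37a3343d196edbd0b731d54bdd4148d542dfb2347b74a5fc51249a05642cb5c47c1b8cd173f11b0212806b1fee23f333f2c889422c37a032c52ad18997bbbdcb9af9191e2b7934b675ca03dd5dacd49e4862cbf843c62e4a745fe65b714b7f44362588dd20785c904f585b30f63ac4730a87bc7289578f8b3bcd26f027415cdb40f441dc806602a4d4d4d2be082a2b0d4f38f805b506bd62cfea59eb2da1a509678e17c9f69b28c24d39965294aa4ecc3288ce97ce8134a80983280be6a7437544376d8955666197d1238b4ba4dd24428158329e38a173a78eebb496c8ec300731d38d789016e18030231d8fb5d06b102d2f14320b58f36a0f0fbd4d1bb551766cfa98b08808ad84b53af06faf648e35ddd96a6b5aa9bf35393b3188077366d6ccb8b208c89e0fb6428aa86c215f40546358c206e40baa99312348b28489b6fc634bc360961aad34f472089544e5c3cd69a8b6780fc6d802c9f00206fd968330374518477c99bb6d42c1d9c80572b1ac872a32b7a88772c897ec04c0d05bb476ce70819366464a2d14e0,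
  nat_lit 0xc13ff2751a9e0567a6b9906e54c95538d52972b51659473e9f30afd56e0223c7b46108da68142d2db4199443a948bed97acdee2549126644526897f45324793bd34a3178b6ff755a58d1def4452950377895cbde730dbed42b70b7c1a3d6c8d55b3af28ac759564b0cf6c64e99d494725ade025ad93d5a9a6d2ddd7b79238cecb0db41dbf56148bf3d2817c534e157453e95ec4cf15a085d42513d4c922afbf26374bb4bab2a1bbecf60e212c9ab88ca84d141205e5b6ccd18ddae9fa2c260ecf8a16e431ce64db121a494b3b9ac0c035b814621b2e06100df62e9532cb3e95814bee8e6d46bada10c533dc298a3775b044c19d5c435e4271ca09644399d93e3ace682b0070ec248faeaad52399f9e160ad8fcad945e9949319db0e619c9d49c3f870171f028e4bf022c84d6a8fdceb6ff49d40115af9a0aa812231250ef791aecde59216e9f0a4c08798190984bc2c2c29c6b1f2e6b5a2391b243a1b7184a26bc4c7a1cdce8040d5f9c27e9e77d5f100fc3b78ea8b6fb08407e160cd145d486c4443e1f8f7353542c104e9a5c868d845070c56ece9f3348d7a782770b9e0fd810e4c70a2218106a954b8e01a3936c12339a0cda4a5b7174177640c544337078b50164ce6266f9d8d5282830ba64ea7541a73271278c9aebebc979d0181c256e2f85b1034a483c16d01085ec1552086c41d76ae01a040001,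
  nat_lit 0xdbedb6bb4d9ecb63b0dfefb7bbcddeeb73b8bbe6edda9b0627595aa8d368d44a1d227f8cb65aec97ad74e26f819861a752ac05cefb85abd630fa08fc6f551ac6e5b216384c1b31937d3e322f586671e2e9d7ba1ceffc93964d276eeb5b99fcf36db2d4a7b49a39dc236aabab63b1588e260ea1818ec7c72c2bf5e2eb4eb9b3acb4cfe61ab559a253e9597a4d1a8d8511d0a7a2d154fe55e19accc3a1b0481be52b974a42e149359e5122a5b85c518ab8843d1286c5a150756c562108823d4f6787b3c4028123914da6b7b974b7067138608df34999b90112ba5316cae355fe657e333b2f8643e9f2f33931a28c2f63021ef176ba97ae45d2dd70b29c2c25adf6db558ad2c95b95cad6828d9aca523ba049eb5a2939b04baf92abd5da5d06b759aa1208f532354aa0456bbf5984295d3950a920bf29549920fd60b1a38f6509aa10eca8539dcf874e01c290e8731bb7a632f960d65234359a06525183ba422f754823d198ec619d01170b5e6f28a45c5713678a478994c0a2110782c084c2547bec488e113dc98f477881daeb0fb99c82371885c2df6b35438a150341a61b66b2832656431830be5eaed70160aad15e14550494c7551274209b4b83d249009a34228b441fcfc0c3c82cec72051b4d8692e19cb4622f8241055280189a49029108640198f862391b010062c1509c3c1d008682e0e068000e02,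
  nat_lit 0xd96c36db7da6cf6bb1de6f773bbdd6ff71bead36f531f1762f5b30a9cae84f4942d6c56ab7db6011d8ca8af982c35dcf54cba53a48826c944ae84d5482dd1e3fe5ed34049e6178b3469ad4b994d36a28c1cb30213937f3ed1c68cfe273c8642e830b4f44a8540cc65e8622d606158b4f74aebd29178c4868ae7d3af60cbbb4649ff943ab8e0512213d6aa3b55e95d98441b3de6f26834d9464518c4990782ae217a8853a5d0bfd32c95fa3550fd4d910e0b6ad8ad662338d46eb733757ac150a7791c522c22c6a88478f698cbeea359a546664723525119da6dcc0823b916cdcb4ae4328da49ecf0a4773c9d8f141391b65d2daa1c48269a50f592295b89a371ad75eb1e3017d821f1c9d1f4f93b9f22cc364b1ce5c2022a874fc1132a92f1769617aa581a81c0df326f87b44f8c04a81213948cc6445a1c9cb80e47c96fac29be6acd653d938a04d27dec0e0d24912b759c1920d44053dc6fe6667066cf010b5b2d78c9fe40b258c3b15a4d14fe55deed783ba9600043adccba5cbe5d43ebf245c97021a3187380d8a99a1813af828a97d5750280c6d798f168abc71c9d4da7939350080d2e928240d589633d1dca90931b1c50da20ac35131405e1024572b66cd86beae45101d189c0372fb7844347e0961c0602ad98d23318e514601b21c245d58055880b052a1315f0803d62734c8803efd253209674,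
  nat_lit 0xdfefb7bbcddeeb73b8dbedb6bb4d9ecb63b0bb48edb6bc76233d5999cf7494eb0c31dcc7d5629849c88533355097cb6bd7cb350ac78cd748b2b5f8f6a6359f9d42b41476baed72d27550f08a293b80c597744c5bea151a42c9a2c5b7241898d956d4e6845972741539d9f158c8635525fcb3025d0fcd922fc8082e62075238e962d994c25b397bbed10d6b2aabd2e2424552a79a61cb16fefe9c2b98da79a6875e94bc6a2b68879bd5c911a46746ccbc7ead25ad42dbc9abed65b059196ac569a2aaa2696957b03f09570ad3056e81a991a0f5182474f0a42a4de1a4b2021e7fa3139a07792794ac40fa92cca588e9dce660952c22c683e2207e42ac4da7a3e860e0a5b71c66c5dac5e3f347001a71d3f06ec47a36ad36c2adb0eb039c9b0d0b80b63046f5ee05756227cd5ed283ed19867434b21bd7aa2c49334bc885e803f326514174082b6b949baaaabaa8bccfaeee917b84ba6792330da0fb43e46aed785b9ba0c0ca12cf13699fcf8b3059594cbf2dae01ac458b419cbc3820d94af55850d8b5b902811734625d269f4e8c024070b17112383d15ed2537f8185af7848ca041d873f628c98311db4cf7da944843804a40a0395389d6e778bbcb2220109866d4309445d181e9248a5228138822500b9446371d1303cd9331c8dc7b3c9dcd415002442660319d41c820c06cca092d0a0563c020c44211,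
  nat_lit 0xdfefb7bbcddeeb73b8dbedb6bb4d9ecb63b08ce3536cdcb1e09faea1ab97162bdcd2ff6080c26a54ac3c76057db5632b29c54bba8322af4b751ab76ade26bfad6821f2640a9722b07a6898549a8ab6e569420b1165c452757333440e2ea80c1b59ab208da66babab8a364f86c74b93062c866e470a62e7ee0d855d1f4784c51d9f84db328a7d04ce914d0da864cb023f7d5f1913694b0284833731a7b7eaace630db2ae3ebee119b81de9a81d4072eccad6ededf30cb1c76c6bd50fe7e9792e1cfb5f11d553a6092a2da7abb1d9dac35ca28af8b0b3eacbd118669afd28191e1481554d59a1010c5caa39dba924bc1f649b20c186b47525cd0823cdeb44a85ee72b8c8ad1ab3e5ef086bb1d188afcce7a1070476971135ac4f21673696630b1064e248524a029ec6caa7e9a0f12098a700b13cad8769e7b1195193b206949827ce700e5a48bd6f2967341a976533e51041c2ce2cc75c661bf4810b6a1dbb21b9961262e2d8b6d71cd7cc4001135251a0489b9b542c3689b3528f659de9c175a86d4d052f82cfb3f4fa406a124bdb9180e9c0350ad4983a62e0110905d11438d1888f386c5487aa5a4449d4c13c0056f75d8d80c54bd3c5c85e113ae3ee20f5103adc44ddd2ad3291004c2524ac80a3d0207c06341bcade47a3d9a42c15393f814660483c105d305d140510a061667c3a89050ff299307865,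
  nat_lit 0xdfefb7bbcddeeb73b8dbedb6bb4d9ecb63b0d7e575bacc86ab53a8c9e9d4c7261d99df58ab4267a9d9d125efa6cbe5b1b72cc4a61b8cd76af1f8ec5d3f12bfabe1b413c8dcae9b81722a66b5c620eb42d5bb8b2418248e49faa890dbaeb1cc1c5ed56db5e133b168a9e5a385add66faf49156a4760cde22cb6cba31b00c8cf2bea2fb61240ced2570f54028a5c961cf231de6aba2ce61e76183350e18984c8f8fd302ad7abf6fa9b97286558ad9443c974b63d688fcb0a11ab3d51a7196b58691626c1f4f90b8568ef75d62b1f14d706acc0e733a10cf0f3831a9f127a717424b0d2169c4eba2ad67e9f9f0e5c221be0d8ac0c4337ee7492019124204d87d12e73d0adb6be66da65edc3fd8ec91d8a1c5025429b40913460ccd8191a0cda1f10cfa003aff01128966c27df942135e1054f71a65c068223a8264d477e66898314625e8100bd3c6726245846a550a117c5a1c6ea22553211810d23b730410aed07b5126510da1211138c5d996cc6d15d9ec93d86948ba5ce656e03008542ee32e2ca040ebfd11d8604f3a8b2f577161583f0a2946a386ca52f1118920c5cca6714854f68240f4b01040004a27468cdfcb80f52a709a1bbc12c3051a705ef934091565e30a09d1313b9b40d373b014b66e553ea5087451ae0ae9271101746268286445472b648de701097695130a51e6f5e85832b42341c8e70,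
  nat_lit 0xdfefb7bbcddeeb73b898c82372ebc56edf6cbb656db6bd5e9b2759d4e620244d062162fc8a58b3cfd581b56faa97cb71f63d3d87378cd76431b8e8f342351da4e058765dadd30186bdd2d5d9c9cb324a55c11fb6d77045913b99963fed154b3c5ed5add633cf2d28ae75a332d96a19c67afd46bc9786d9a79b095abe9b4e9eb1ab49826d05e9169ab69402e54e867cf2895299450ae3aefe5741b24ecfba628859536ac8e45b19800e901377e947c23da65b177559c874589c1c71a719b4ca729096c370a6c181c9dc840750db3f080cc7c16ee1ce6a4ca15e516f9a364044c93a361dcb187352c9ced4871d1c2347c31c2c0a6eb980157ae849108f4dbe5e33f2e078988066b5b2e7d8c5cb24bfab38d02853e53d1b3485d417371481a52c5fc52f8536e03270c5a4b80a9e6658350285914c93c423b4228cf01aac10db64e17d8082fe49a25884b45976a53353c404c054324803851e3d66c226fad0a8ed5627ef433071d5af133febde03a1e86309432dd1c4904602a1eee59551204713d2d42e1b9d85514de88b16480439b881ea57b0fdf48e22aef669e319985155be8cafc145d4296ca648dce70b824146002715de44ae043b2e1f2804929181f55a90d0ad551ba0bb72d124044286070f682308d4603776519d095189c80e6b61030a4d91c178b2604d4dd28e9168744046839581a1037af48e70,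
  nat_lit 0xdfefb7bbcddeeb73b8dbedb6bb4d9ecb63b0d7e575bacc86ab53a8c9e9d4c7261d99df58ab4267a9d9d125efa6cbe5b1b72cc4a61b8cd76af1f8ec5d3f12bfabe1b413c8dcae9b81722a66b5c620eb42d5bb8b2418248e49faa890dbaeb1cc1c5ed56db5e133b168a9e5a385add66faf49156a4760cde22cb6cba31b00c8cf2bea2fb61240ced2570f54028a5c961cf231de6aba2ce61e76183350e18984c8f8fd302ad7abf6fa9b97286558ad9443c974b63d688fcb0a11ab3d51a7196b58691626c1f4f90b8568ef75d62b1f14d706acc0e733a10cf0f3831a9f127a717424b0d2169c4eba2ad67e9f9f0e5c221be0d8ac0c4337ee7492019124204d87d12e73d0adb6be66da65edc3fd8ec91d8a1c5025429b40913460ccd8191a0cda1f10cfa003aff01128966c27df942135e1054f71a65c068223a8264d477e66898314625e8100bd3c6726245846a550a117c5a1c6ea22553211810d23b730410aed07b5126510da1211138c5d996cc6d15d9ec93d86948ba5ce656e03008542ee32e2ca040ebfd11d8604f3a8b2f577161583f0a2946a386ca52f1118920c5cca6714854f68240f4b01040004a27468cdfcb80f52a709a1bbc12c3051a705ef934091565e30a09d1313b9b40d373b014b66e553ea5087451ae0ae9271101746268286445472b648de701097695130a51e6f5e85832b42341c8e70,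
  nat_lit 0xdfefb7bbcddeeb73b869a2d03958be39c2d88c6a1bed7d92bdf78f28342fc40a5309a59cccd0e1916d09a68e79b4e431b728a4a6ff8cd76af699644695017dac64a2b9ab5859d4ee5ce28d84bb8c1a72557f4c6da19b756a1f9d9639641548de5ed568b3aa5c787bce9e773a96d7acb49afe525d6468aa3491a131352c4f5b6a539aaa7c0d8f60cf808f694219d24e525e5855c8d9f522c6e803cf2ac763c44058b2bc48eb71e14c7f0c1262e8a6422acc8a437548dbf311cc1db35f196b6813acfc4bb07725bdc2ce770482c205b50c18d56ebd1a9a6857789aa1aa2a7045c5045f8fd690a420ad3cb3ab8db168e7c188485c566dae6c4aea4d24584d881eb2441bcd40be66ecdaa093fe6ddecac9a63589a326998c6dae1c682c125499c8fc5c6c0503a52a5f22f7a952c5cdd4f90586f4a61c8428c1933093355d424b66847b01b61b783ff0a5fd6aa88848538e428337cec6550e4344a6ce7730bc08ed0828e50da50bca1113db9f826fa272d63a27a04043a3e7ecf5928a30870358883ddf0856be1b91234bd6043e7da696623385da54104728a925e23569de01620bd156e0d33ac6ccce700e0182acf2f6615516d088ad42ecfea20f2a60060cba2415d203381e9ed76412640a429982e8c311bb70a601379301c666cb20146ba801a6e5a30214f800231d43c3da9dd0785e0ae0a56651a895bc87]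
noncomputable def a_P (k u : ℕ) : ℕ := Nat.land (Nat.shiftRight (nth (nat_lit 0) a_Pd k) (Nat.mul u (nat_lit 9))) (nat_lit 511)
noncomputable def κ : List ℕ → ℕ := H15.CS.key (tot a_P 27) 448 H1.OnC.B
noncomputable def p2t_W : List (List ℕ) := [[nat_lit 2, nat_lit 1, nat_lit 1, nat_lit 2, nat_lit 3, nat_lit 2, nat_lit 1, nat_lit 1, nat_lit 2, nat_lit 3, nat_lit 2, nat_lit 1, nat_lit 1, nat_lit 3, nat_lit 2, nat_lit 3],
  [nat_lit 1, nat_lit 1, nat_lit 2, nat_lit 1, nat_lit 2, nat_lit 3, nat_lit 2, nat_lit 1, nat_lit 3, nat_lit 2, nat_lit 1, nat_lit 1],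
  [nat_lit 3, nat_lit 1, nat_lit 1, nat_lit 2, nat_lit 0, nat_lit 2, nat_lit 1, nat_lit 2, nat_lit 0, nat_lit 3, nat_lit 2, nat_lit 1],
  [nat_lit 1, nat_lit 1, nat_lit 2, nat_lit 1, nat_lit 2, nat_lit 0, nat_lit 3, nat_lit 2, nat_lit 1, nat_lit 1, nat_lit 2, nat_lit 3, nat_lit 2, nat_lit 1, nat_lit 1, nat_lit 3, nat_lit 2, nat_lit 3, nat_lit 2],
  [nat_lit 3, nat_lit 2, nat_lit 1, nat_lit 1, nat_lit 2, nat_lit 0, nat_lit 2, nat_lit 1, nat_lit 1, nat_lit 2, nat_lit 1, nat_lit 3, nat_lit 2, nat_lit 0, nat_lit 3, nat_lit 2, nat_lit 1, nat_lit 2, nat_lit 3, nat_lit 2],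
  [nat_lit 3, nat_lit 1, nat_lit 2, nat_lit 0, nat_lit 3, nat_lit 2, nat_lit 1, nat_lit 1, nat_lit 2, nat_lit 1, nat_lit 2, nat_lit 1, nat_lit 1, nat_lit 2, nat_lit 0, nat_lit 2],
  [nat_lit 0, nat_lit 3, nat_lit 1, nat_lit 2, nat_lit 1, nat_lit 1, nat_lit 2, nat_lit 1, nat_lit 2, nat_lit 1, nat_lit 1, nat_lit 3, nat_lit 2, nat_lit 1, nat_lit 3, nat_lit 2, nat_lit 1],
  [nat_lit 1, nat_lit 1, nat_lit 2, nat_lit 3, nat_lit 2, nat_lit 0, nat_lit 2, nat_lit 1, nat_lit 1, nat_lit 2, nat_lit 1, nat_lit 1, nat_lit 3, nat_lit 2, nat_lit 0],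
  [nat_lit 1, nat_lit 1, nat_lit 2, nat_lit 1, nat_lit 2, nat_lit 3, nat_lit 2, nat_lit 0, nat_lit 2, nat_lit 1, nat_lit 1]]
noncomputable def p2t_P : ℕ → ℕ → ℕ := wdsP H1.OnC.P p2t_W
noncomputable def p2Pd : List ℕ := [nat_lit 0x9ecf27f3e9bcd271399dcd66d3a9449e4b219047631168cc5e37339948a631f8f49a612f9248e5d1a94c72572d954b1fcfb7d3ddecf57a3cde4f077bb9d6ea74ba1cee672389c2e071c55f2f88a44dfafc89446210f87435cb0c85c29d8ed84c220f0682c11e3037fc0a03006ab51a6d268b419ece66b31bede6eb71b6da6cb61aed662b1186c260b0196ca64b218ec65eaf17ebe58ac970b959ad160b65bae976b553289429e4da652e964fabd309a4eab95a9c53ab146a055a9154a554aa0fc7d3e1ecf4793c1dcec753a1c8e06f371b4d86b351a4d06733255289349245208f47235188b38a28e6894421d0c854220d0481401fcb2582b958aa5429948a25027938ca6431988c2602f978ba5c2d968904723114884d2612c94492090086421e8f07e3e1a8d06c371c0e4763a190cc5629140a8582d188b8602f0d86832180b8542813090442016138984a241187044211007c3c1d0401c0c050200c040f07034180b050240001,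
  nat_lit 0x753f610f97f41228fb8ac5a58e68bc41a2d46bc6619358eca21b2a7ab49b6ff7d371bccd71c4e56d3793765cf099cda6f398f37e173267c26532d88b421d3d70b21c13a8140dd2e7924ee7cc59c48e78cb6abbe4ed975c6db1187b36988ca79cfe02c2804d19ce28fb920f0589486352292bb9e8f197b25ef308e49a630a87b9640c37c3b1ad0660305f8ed663a18cc720950866023a354a98399e0f28f389d898902f9acf44d3492ccc443b94d728b5021122a347121389d411d08cb83f924805a41a1d42b05a27d745b521649461491a0b0a249a6cda5c4b9089c6a372b56ab653ac89e9a5b99566452a9ed0264571f15686282a4e46c3118d10bc57974bc804625114852b15cdebe53144a4673a9f558b1552252c9e5da64e0a85e9f97e951802c52040280802151100018090a084323f0c04846171287c7a24098445628168dc641b150680c0a10078622f1600c7033138b84c0d0703c20351f070680704074763c0b0e87236,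
  nat_lit 0x7cba9fb0875b29d30784cb630c495b9e3cce69c5e6af0944b9e91982c7e472698c91b0dd9149654cd87b5e67368ec321d016db1d850094bf9b32c7440a773e9cc2e64ec6d3b9f6f5693ce7ec370b467ac960b21c11b8ab3da9168338a08e69bcf270ef93bb5bcd06e42a2910603c65eff7d391e5308e3158ce59038e270386c8634cb6b4d1f9117bb7d993a7c3da24d530104a84322140fe66229a8da832517092863a918a26c459ad4a4c452312e823112cba6339214ac573a1a508a94c11caa7b3c250bc6849994ceaf4da7ce6402d2d558aa5b269208d5c185248f3e949027c2ca014cab3829d127121139609e4cad148793b2e4ee484e2752abd279e95aba2f9b91c4d5028cfcbf2da4542b229a1cc896572dd76585428966b15f221786f058a4083001030381a13058120512060583e0a01c622b168387821080e046320c8445e06078884e360e8dc2e33128e43c28068202a1b090b840341e800761f1504c743f008d41403,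
  nat_lit 0x61b1592cb78cda1af272cea69356ac2da0f37fb1d94e66344a28df77c71b4d77246a1ce366c0d83267dc8980c47bc119d29814aa211170c8672ec99345bcd667c160d168f44de8c297b61f8fd8db89f0f98bbd5ed01984e276ed93b6de10c6a331b2e7744b26f23903ea1ec894425b8dd77495d2fe9242266eb6934e153183c563eea9e4b67ae0974ae7d189fc023b192b270c4a03bac16cb44d2e564b8522d51cba371748c5538245268a23a1cf0b33014496bc26184a8be44adcf48f3e1c90a5b5494d548d4c2c5205a38aa13648531412a52331290081351b09e972fa64eca55d9e49c733a25916ab26abcb87e2f1fc8a673420c924221af53ca33d9ad5c6d4a230884020afd589d4921144863e9d4de9f50a08ca8853ab4d25931990ae581802c52041d8e86c15110e46a34190cc4a3f140b82e230c8a87a2f100446218160dc28270f8681a160987856241687070210d8484c06078383a0c1f00c1208038400a3c050080001,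
  nat_lit 0x6e47da5246838257196d30991009cb99bcfa61b85ed0674bed8f38824f9a90872cf226c9753c602cb60b160f118a3a1dd1d6c4a66d348938980ef8b3cdc92699bc1d9059bc5654c49ec29c72f97339ff208dcd674f78131a4b0b9643a4f3281c8a510c76b9e633b9fbfa2eca86c79f8f998425aadb66469e5237c3f642eb6fb45ad1c66c41bb187a33daef569cb61ed9372510e7d4b9cc8e4c33a7ce8a7401c5528b4eab12a465816092b841a8d766846278fc5b3512cea4f5aa04c8b1222e4a2412caf884a43b9f16e62432d9747a2a26d5c48451e4d24a5417486655e101348e49accac6d282d0b8b24898156a2269c9208222a591e842fabd5a4e4e220c28931afcf06b29a99425a501bcaa702baf5326642a354aaa3f9b0ec9849178f652100742610018e4182c1681414360403c701b170504c1a1b8844e2a1e0c4441f0888c1c0b1909452341f0ac2a120f0e82e07020cc32300c0bc7e1c030240024140f42c0d010046a3b,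
  nat_lit 0x7136a04d071c36312d7fce272f27437d991c6a4460f1477b21d9066abf9ad0e62c5634de79b2decce76b6216e9613ee48f07c4022f128249994e199cf5a5039ac658d299f3f62cc784c7ddcd1863f214db704a9eee6913125f01944fe1ef46e3926d2b6046e413c75be658c173b75e33764baa68d79848e0ad372ced87089d336431e92b65f52e7acca62cf89c762127322b0b09e34a3cd0814720130673b9e104a5289395e41541ed608b449750cb1379694c553810d10614b2ed246d5a9d140aa59210a6b92811568ad261cd14565125d7c943b124cc6a3ca7132ba3597d705c252d942474f9c54e72312b952bc3ea34887f41a4166603f108ae482916d187c3d12d6e544a900c64d2f13cea93489197e9b3716534bd55a1ccaa442a74d8a31885c56230a0905c100e8a842181d0d016191d8707e3d020584a351c09c780c180181222018804c071b86c7c05148381a020a828261a008e43c32160205e001b044662d078a0241f,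
  nat_lit 0x74bee0f147abadc6ff8848661097ec2a58c860ba9b0de9fcfa40f9774aa2d1d8645d84c7973c210d597b7e7ace9e3524f2496be1a2da69c15aee592b9a010169479c50e653b64ce48ccca731b8fc6271297e36da0dd73b3616f198c122afe70385b923813cddec495bb2450362c19ef289acd238f66033d96e8894ce6d3a8d4458cd9794dde8fa64b5a1b3b87c4d86cc4b2ed50b14a278c0544ca7110a0552b0fa6f47ac8d0712920086872d9e17cad472e902a7279ccee9f2f284cebc209b904972b2950c614ea309a7c4897d44745c108e07631944fc585e9a552624c1b4aaa33a921267a2594c8cae45ae480894695cba95322fd5e454519548475b2d5206c419994c4a39165344c5a2c0f285351fd6e5a281ad24b327171087b24a6c88ab0483004050306c7c0f040f01a271b8e0643a08864481819894681e1b07c4226178384400188a838291c848281a140c00e15008ac5c161608c141d1d8fc402d0b80c20351e84c080b,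
  nat_lit 0x874dde73b6b40251336632184e067c5a38f98546ded067943e24d99648e353166c79faee92b5e53037bb921b117a3a1931790406753563be1ab0b733498b098cbb619058fbfe5d2d6db0dfcce954be2ad870cd26cc17e37dd4ef82372652765bae56ec7839e112468b8e3b1883cf204fa69c99813d6d351d33e7144dbb22634fda0de72c4242ca8a4e5e2f598311f7384cab954a2529d0e48a33aa0e6964022d30712c15d7892582751c7f5b190b2682918d7c5d5a1ecbc515aa0546653b9989e555d9f8c0b7221e1484d36a0d74af201c12856262408a824f96cc2b14a951664947a6890862e1a8a0b253109127d3111cf24a34a9d265a509e8a66b362fc86ab4f220f84e56a44be8442af4829b561bcdcb9501d92e875c2711aa9231d4968c130543422008706830148e80016078201a1e15050401303084222e158f8201f138fc1c251982c5a0c188f03a120d8147a070c8c8082c0c0a046391b8ec14241785c6c381a80c0409,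
  nat_lit 0x964622d2d8eb25b4d097421d4c379b7636f782cde793f7f4264b0e69bbe530687c2e24e7743d276f598c422b3e75cf632ee6cc85b91a91ca1b6f9913ee5536724925ed674c0604cd644ade0c48533e18ca9834a391e99b458cfd934518acb8bcd6071f90331810761385c4d76f37e651186ce626c170411a8d593bd9e5387d31e00e6763e274ff673c5dafc9a38db0e55226d34ab2414d32aa31ab4dca12b97c9a873b25d6c4c5e2e1446c442348cbf382a568453791d124a5f2f5724b57214ca81292411e92489554c80209093aa7581392c6628951288c35964d05e3c9e0f67a30abcce4331100aca34fad4b4a83f974c07d3aa112a445b9ccee69591f0d45b2e1b4fc49599c51c825d24d064f2821962ac4c270b0bb4f29540643a2291672150205c0f0d0545602048c44c22068186c1f0d8f42c1c1c8fc2427140d40213018d03a1818014422c178ec0020050b47410120a418141e01066110385c6e3e058c83c0e118e04a19]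
noncomputable def p2P (k u : ℕ) : ℕ := Nat.land (Nat.shiftRight (nth (nat_lit 0) p2Pd k) (Nat.mul u (nat_lit 9))) (nat_lit 511)
noncomputable def p2Ed : ℕ := nat_lit 0xdf6f773b8d3e8f439ccc6532591c3617097ebeddedf6cb459eb95aabd5aab52a853e8f439a4ce612892c9243208e46e291388c42150883c1a08fe7ebe9e2f076ba1cce471b79b4d96a3419ece66b2d94c963b017cbd5e2e968b258ab556a54fa793694492411e8d44a1d0682399c8e270379b4cc602f16494492411c8c441e8dc6a3015090401e0e8703414080381a0cdfef377bad76af55a9d2e8b3d9dcce371988c3e02ff79bc5d2dd6ab2d82bd5bac536953e9e4ee753998cba57228fc662d158943e1d0c84c0a02fc7dbe5eaf3793b1d6ea73b95b8d66ab49a2cc62b1184bf5c2dd60af572b152a350a8134974b24d22853f9f8f87b3d1dce8622e16cb4582b958a652289389639198c8622f170b450271308c3e180b858260f0581c0c02db6d763b0d7ea349a0cde6b2f96c863ef771b4d9ac948a0cf64f1886c2e00f77b3a5c4e17036db0c861b056aa6522652a8c45a2908813e9d8ea6934190ba5426930803f1d8d00200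
noncomputable def p2E (u : ℕ) : ℕ := Nat.land (Nat.shiftRight p2Ed (Nat.mul u (nat_lit 9))) (nat_lit 511)
noncomputable def p2Id : ℕ := nat_lit 0x5fcfe7cbe5eaf27b3c000fc7c00000007a3c1daec00005d2e5703a9d8016e399d2da7238002d569381b8d967371a8d00136004d668331900164b10000000b057cce65310000000ae56cc25e001880158ab9700000aa00000600096aa4012c002a05f2b950b94e2d0000000a6002940129524a000a393c9a4a0000490012391001440000284002c90800000090000560000280549f4f275380000000011f8f001371d0026800004c800011c14802371a0026233184b80001178b0012c280025529158a24e2712492444e90134451f1087c38010d002391a2500432168c45c2914001208d12004421e1308000020e8642a10450641c15050481884401f0040800810f406001d00200feff001f8fafe7ebf1f67c7d3e5f01c7b800f67a0d9e434f63c3d5e8f3003c800773b00032f1003c1de753a1cddc7276800e20000061d81738000de6e75ba80000749b42c00361ac2ae83539cd2e672801c81409849c60071000d01170b802000339981e653218c0000310381a616fb79badc6d801b40000000180b00364000a0018000d80035c125f2f175ac5c2d96800082c960ae00001580e062ab55a8d36934400d0000000005020019e0001800a800670019a0229948a2cc2813c9c000032c004d2612c00ca2500000c924b218ec60031400482391800c42280000c32230982c0218000000211040000001000200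
noncomputable def p2I (u : ℕ) : ℕ := Nat.land (Nat.shiftRight p2Id (Nat.mul u (nat_lit 9))) (nat_lit 511)
noncomputable def p2B : List ℕ := [nat_lit 0, nat_lit 64, nat_lit 213]
noncomputable def p2C : List (List (List ℕ)) := [[[],
  [],
  [],
  [],
  [],
  [],
  [],
  [],
  []], [[],
  [],
  [],
  [],
  [],
  [],
  [nat_lit 0],
  [nat_lit 0],
  []], [[],
  [],
  [nat_lit 0],
  [],
  [],
  [],
  [],
  [nat_lit 0],
  [nat_lit 0]], [[],
  [],
  [],
  [],
  [nat_lit 0],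
  [nat_lit 0],
  [nat_lit 0, nat_lit 1],
  [nat_lit 0],
  [nat_lit 1]], [[],
  [],
  [],
  [],
  [nat_lit 2],
  [nat_lit 0, nat_lit 1],
  [],
  [nat_lit 3],
  [nat_lit 1, nat_lit 2]], [[],
  [],
  [],
  [],
  [],
  [nat_lit 2],
  [nat_lit 1, nat_lit 2, nat_lit 3],
  [nat_lit 1, nat_lit 2],
  [nat_lit 0, nat_lit 2]], [[],
  [],
  [],
  [],
  [],
  [],
  [nat_lit 4],
  [nat_lit 0, nat_lit 3, nat_lit 5],
  [nat_lit 0, nat_lit 3, nat_lit 4]], [[],
  [],
  [],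
  [],
  [],
  [],
  [],
  [nat_lit 2, nat_lit 3],
  [nat_lit 0, nat_lit 2, nat_lit 5]], [[],
  [],
  [],
  [],
  [],
  [],
  [],
  [],
  []]]
noncomputable def p2e : List (List ℕ) := [[],
  [],
  [],
  [],
  [],
  [],
  [],
  [],
  [nat_lit 0, nat_lit 3],
  [nat_lit 2, nat_lit 4, nat_lit 6, nat_lit 7, nat_lit 8],
  [nat_lit 0, nat_lit 3],
  [],
  [],
  [nat_lit 0, nat_lit 4, nat_lit 7],
  [nat_lit 0, nat_lit 1],
  [nat_lit 4, nat_lit 6, nat_lit 7]]
noncomputable def p2l0Dd : ℕ := nat_lit 0xdbf1da66899a659a3e6f97e4f8fe3d8b5e97660f7fdb9665797bddf6fdaf67d8f5fd6d53d3f3e51d2e50f3fca93e0ed37ccd2fcaf2b48d1a4591247d1bc5f1744f134480f8290bc2d0a01f0740f03800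
noncomputable def p2l0D (u : ℕ) : ℕ := Nat.land (Nat.shiftRight p2l0Dd (Nat.mul u (nat_lit 10))) (nat_lit 1023)
noncomputable def p2l0Pd : ℕ := nat_lit 0x59d44635a0ca7f1992b907873fb14c72af59a65c1820ed4bf2bfed0afea8d33e3e1178e42615548a006ccb79dbd93e40
noncomputable def p2l0P (u : ℕ) : ℕ := Nat.land (Nat.shiftRight p2l0Pd (Nat.mul u (nat_lit 6))) (nat_lit 63)
noncomputable def p2l0Qd : ℕ := nat_lit 0x754a5fb99055183857587da56b37087aa9d817599044b38adf1fab13aa244bf34c0b4f72be2eec8383e3c3cb53e5b240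
noncomputable def p2l0Q (u : ℕ) : ℕ := Nat.land (Nat.shiftRight p2l0Qd (Nat.mul u (nat_lit 6))) (nat_lit 63)
noncomputable def p2l0 : Lev := ⟨64, 16, p2l0D, p2l0P, p2l0Q⟩
noncomputable def p2l1Dd : ℕ := nat_lit 0xd0
noncomputable def p2l1D (u : ℕ) : ℕ := Nat.land (Nat.shiftRight p2l1Dd (Nat.mul u (nat_lit 4))) (nat_lit 15)
noncomputable def p2l1Pd : ℕ := nat_lit 0xa3
noncomputable def p2l1P (u : ℕ) : ℕ := Nat.land (Nat.shiftRight p2l1Pd (Nat.mul u (nat_lit 4))) (nat_lit 15)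
noncomputable def p2l1Qd : ℕ := nat_lit 0x400
noncomputable def p2l1Q (u : ℕ) : ℕ := Nat.land (Nat.shiftRight p2l1Qd (Nat.mul u (nat_lit 1))) (nat_lit 1)
noncomputable def p2l1 : Lev := ⟨2, 14, p2l1D, p2l1P, p2l1Q⟩
noncomputable def p2l2Dd : ℕ := nat_lit 0x9a500
noncomputable def p2l2D (u : ℕ) : ℕ := Nat.land (Nat.shiftRight p2l2Dd (Nat.mul u (nat_lit 5))) (nat_lit 31)
noncomputable def p2l2Pd : ℕ := nat_lit 0xd7b242
noncomputable def p2l2P (u : ℕ) : ℕ := Nat.land (Nat.shiftRight p2l2Pd (Nat.mul u (nat_lit 6))) (nat_lit 63)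
noncomputable def p2l2Qd : ℕ := nat_lit 0x800c00000000000000000000040000
noncomputable def p2l2Q (u : ℕ) : ℕ := Nat.land (Nat.shiftRight p2l2Qd (Nat.mul u (nat_lit 2))) (nat_lit 3)
noncomputable def p2l2 : Lev := ⟨4, 10, p2l2D, p2l2P, p2l2Q⟩
noncomputable def covr_W : List (List ℕ) := [[nat_lit 2, nat_lit 1, nat_lit 1, nat_lit 2, nat_lit 3, nat_lit 2, nat_lit 1, nat_lit 1, nat_lit 2, nat_lit 3, nat_lit 2, nat_lit 1, nat_lit 1, nat_lit 3, nat_lit 2, nat_lit 3],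
  [nat_lit 1, nat_lit 2, nat_lit 1, nat_lit 1, nat_lit 2, nat_lit 3, nat_lit 2, nat_lit 1, nat_lit 2, nat_lit 1, nat_lit 1, nat_lit 2, nat_lit 3, nat_lit 2],
  [nat_lit 1, nat_lit 1, nat_lit 3]]
noncomputable def covr_P : ℕ → ℕ → ℕ := wdsP H1.OnC.P covr_W
noncomputable def covT0 : CT := (.split (.more (.split (.more (.split (.more (.split (.more (.split (.more (.split (.more (.split (.more (.split (.more (.split (.more .one (.more (.leaf (nat_lit 0) []) .one))) (.more (.fuse [nat_lit 6] [] (.leaf (nat_lit 1) [nat_lit 1, nat_lit 2, nat_lit 1, nat_lit 3, nat_lit 2, nat_lit 0, nat_lit 2, nat_lit 1, nat_lit 1, nat_lit 2, nat_lit 3, nat_lit 2, nat_lit 1, nat_lit 1, nat_lit 2, nat_lit 3])) .one))) (.more (.split (.more (.fuse [nat_lit 7] [] (.prune (nat_lit 0) (nat_lit 1) [])) (.more (.fuse [nat_lit 6] [] (.prune (nat_lit 0) (nat_lit 1) [])) .one))) .one))) (.more (.split (.more (.fuse [nat_lit 6] [nat_lit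 0] (.fuse [nat_lit 4] [] (.leaf (nat_lit 1) [nat_lit 2, nat_lit 1, nat_lit 1, nat_lit 2, nat_lit 0, nat_lit 3, nat_lit 2, nat_lit 0, nat_lit 2]))) (.more (.fuse [nat_lit 6] [nat_lit 0] (.fuse [nat_lit 4] [] (.prune (nat_lit 0) (nat_lit 1) []))) .one))) .one))) (.more (.fuse [nat_lit 7] [nat_lit 0] (.fuse [nat_lit 8] [nat_lit 1] (.prune (nat_lit 2) (nat_lit 1) []))) .one))) (.more (.split (.more (.fuse [nat_lit 6] [nat_lit 0, nat_lit 1, nat_lit 2] (.fuse [nat_lit 7] [nat_lit 1] (.prune (nat_lit 2) (nat_lit 1) []))) (.more (.fuse [nat_lit 6] [nat_lit 1, nat_lit 2] (.split (.more (.fuse [nat_lit 4] [nat_lit 0] (.prune (nat_lit 1) (nat_lit 1) [])) (.more (.fuse [nat_lit 4] [nat_lit 0] (.prune (nat_lit 1) (nat_lit 1) [nat_lit 0])) .one)))) .one))) .one))) (.more (.fuse [nat_lit 7] [nat_lit 1, nat_lit 2] (.fuse [nat_lit 8] [nat_lit 0, nat_lit 1, nat_lit 3] (.prune (nat_lit 4) (nat_lit 1) []))) .one))) (.more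 (.split (.more (.fuse [nat_lit 6] [nat_lit 0, nat_lit 1, nat_lit 3] (.split (.more (.fuse [nat_lit 4] [nat_lit 0] (.prune (nat_lit 3) (nat_lit 1) [nat_lit 2])) (.more (.fuse [nat_lit 4] [] (.fuse [nat_lit 5] [] (.split (.more (.fuse [nat_lit 1] [] (.leaf (nat_lit 1) [nat_lit 0, nat_lit 2, nat_lit 0, nat_lit 3, nat_lit 2, nat_lit 1, nat_lit 1, nat_lit 2, nat_lit 1, nat_lit 2, nat_lit 0, nat_lit 2, nat_lit 1, nat_lit 3])) (.more (.fuse [nat_lit 1] [] (.prune (nat_lit 0) (nat_lit 1) [])) .one))))) .one)))) (.more (.fuse [nat_lit 6] [nat_lit 0, nat_lit 2] (.prune (nat_lit 5) (nat_lit 1) [nat_lit 1, nat_lit 2, nat_lit 4])) .one))) .one))) (.more (.split (.more (.split (.more (.fuse [nat_lit 7] [nat_lit 0, nat_lit 2] (.fuse [nat_lit 6] [nat_lit 0, nat_lit 3] (.split (.more (.fuse [nat_lit 4] [nat_lit 1] (.fuse [nat_lit 3] [] (.fuse [nat_lit 2] [] (.leaf (nat_lit 2) [nat_lit 1, nat_lit 1, nat_lit 2, nat_lit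 1, nat_lit 2, nat_lit 0])))) (.more (.fuse [nat_lit 4] [nat_lit 0, nat_lit 1] (.fuse [nat_lit 3] [] (.prune (nat_lit 1) (nat_lit 1) []))) .one))))) (.more (.split (.more (.fuse [nat_lit 6] [nat_lit 0, nat_lit 1, nat_lit 3] (.fuse [nat_lit 5] [] (.prune (nat_lit 3) (nat_lit 1) [nat_lit 2]))) (.more (.fuse [nat_lit 6] [nat_lit 1, nat_lit 2] (.fuse [nat_lit 5] [nat_lit 0] (.fuse [nat_lit 4] [] (.split (.more (.fuse [nat_lit 1] [] (.prune (nat_lit 0) (nat_lit 1) [])) (.more (.fuse [nat_lit 1] [] (.leaf (nat_lit 1) [nat_lit 0, nat_lit 2, nat_lit 1, nat_lit 1, nat_lit 2, nat_lit 1, nat_lit 2, nat_lit 1, nat_lit 3, nat_lit 2, nat_lit 1, nat_lit 1, nat_lit 2, nat_lit 0, nat_lit 3, nat_lit 2])) .one)))))) .one))) .one))) (.more (.split (.more (.fuse [nat_lit 6] [nat_lit 3, nat_lit 4] (.prune (nat_lit 5) (nat_lit 1) [nat_lit 3])) (.more (.fuse [nat_lit 6] [nat_lit 1, nat_lit 2, nat_lit 4] (.split (.more (.fuse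 [nat_lit 4] [nat_lit 2] (.split (.more (.fuse [nat_lit 4, nat_lit 5] [nat_lit 0] (.fuse [nat_lit 3] [] (.prune (nat_lit 0) (nat_lit 1) []))) (.more (.fuse [nat_lit 4, nat_lit 5] [nat_lit 0] (.fuse [nat_lit 3] [] (.leaf (nat_lit 1) [nat_lit 0]))) .one)))) (.more (.fuse [nat_lit 4] [nat_lit 0, nat_lit 2] (.prune (nat_lit 3) (nat_lit 1) [])) .one)))) .one))) .one))) .one)))
noncomputable def x_W : List (List ℕ) := [[nat_lit 1, nat_lit 2, nat_lit 1, nat_lit 1, nat_lit 2, nat_lit 3, nat_lit 2, nat_lit 1, nat_lit 2, nat_lit 1, nat_lit 1, nat_lit 2, nat_lit 3, nat_lit 2]]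
noncomputable def x_P : ℕ → ℕ → ℕ := wdsP H1.OnC.P x_W
noncomputable def txh_W : List (List ℕ) := [[nat_lit 1, nat_lit 2, nat_lit 0, nat_lit 2, nat_lit 1, nat_lit 1, nat_lit 2, nat_lit 1, nat_lit 1],
  [nat_lit 1, nat_lit 2, nat_lit 0, nat_lit 2],
  [nat_lit 2, nat_lit 1, nat_lit 1, nat_lit 2, nat_lit 3, nat_lit 2, nat_lit 0, nat_lit 2, nat_lit 1, nat_lit 2, nat_lit 3, nat_lit 2, nat_lit 1, nat_lit 1, nat_lit 2],
  [nat_lit 0],
  [nat_lit 1],
  [nat_lit 2],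
  [nat_lit 3],
  [nat_lit 0, nat_lit 2, nat_lit 0, nat_lit 2, nat_lit 0, nat_lit 3, nat_lit 2, nat_lit 1, nat_lit 1, nat_lit 2, nat_lit 1, nat_lit 1]]
noncomputable def txh_P : ℕ → ℕ → ℕ := wdsP H1.OnC.P txh_W
noncomputable def txl0Dd : ℕ := nat_lit 0xd0ec96cdccc4cdb26abfebf61efba6b66b1eae6ade18aa6e17216a9de15213ab8bb73a2d8feb23b1bb039858e18b18a188e86194493c1279b385511794393b83d7fe7f68157be79e78e7867c57790e272e8337ec6f97d46b66a675574d66665e72d08f6fd7e379c78c7846e55e67c36bd68d6856215b159658657e75465558972c7247146fc64d79378b7837736e46256156055d55ad55154953e69c50628875365428072b5752106fb63c56d6e35ec51d4c168b4ed48947945e44e4464362001f065b4211b01a864b63b6334c54bd40662b5e35d35bb5b35ab52c5244ad48d47d4194114093de3d63ce3c63be58b57b42d4253b156b5434b441540d3fd3a639e39638e52b3dd3d53b53994f343c1684b336135e35643b14834934633e33632e3cb32932131e34d3093012fe39b32d2e636b31530d3052d12ce2be2ae2b12a92a129e3632e529605f047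3242d505204a04231c2bd28925e03a34b2fc2f42ad2a527924923e23622e22621e2162392110f83232d428d03231b31330b3032cc2c42bc27d25524d2091e91e61de1d61ce1c61be1b62fb2f32150f02e32d31fd1f51a619e1962cb2c31b51a119923422418918617e0d00c80c00b002f28b20402a24b1d41cc1c41b417116e16615e23b22321b1851590a00980900882031eb19417515614e14613e1e31db1cb1b316d13117c19b19315513515c18317b08012e16315b11e14313b12d01f01a12510e1060fe1010f912c0170f60121050fd0f111c0e90e607000f00a12310c1040fc0ed0d90ce0c60be11b0c90b90b10680601130d50ae09e09610b0fb0c50b50a90990890e40f30a508d0c40e30400940cb0c30810ab09b09308507e00707607106e07506906106507402006c04e07305904103e06b06305d04503602e03302102501e02301c01500e00900d00b006005004003000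
noncomputable def txl0D (u : ℕ) : ℕ := Nat.land (Nat.shiftRight txl0Dd (Nat.mul u (nat_lit 12))) (nat_lit 4095)
noncomputable def txl0Pd : ℕ := nat_lit 0x92d7257740ec3a64c46bd8590cdb18b561132b51651404057e1311a600d5d7d3c2fd18358c6b1319b983156777c9e1411a68bb88459106bf370dca4d220a12158d2d400ae9f968f07caa5c2a4c86bc9f23c903f7555d129b68630d6f53c4ba8d5ac4440a27d22d580eaa5fae65ba76584cbab075b3101a5eac396ea40b7c058c16ed3b9c42bd50c35b6ca23c54fc903d09a2e7d54214d10a7f151cc13660bd39f7a8998587ccada963019653a248d228edc053832dc70a2d62f1bc092017e75bb26bb4e1b73bbfb1caad13123b3fb9acac6758e32c9132e5253a10cd226e54e2e3bcef15b7ba39d9ff3646e6229bf82164d93d9c8434e601e5e071024a11e3c40684ab10ef75a08920216338a7193090c4ea5a12f4a86d51e6934cccf4f13a95b39d4f2fa1087d78b645318f88f1b8da5224d802b4850089c29ef12f95c5c92035c4b890bd6dc630a501b9daaf4daa1ce1887c9d07083224cbb462d5b17cee3446c65444454adef21db3d8569d68feb41981d281981732e4f4c01407142ecdb5634af3359d12f0ca5dbb32aa7f36a1b949acc56426b22042a7229391c12ea9b61fa6a12eaf7c018d039b2df3d86eb633c6b24fab58ae869a1e55dcb38f6c499e589cddd05d5751ca5a6eba423e20e872737a42775dc5ac041c391617b10399983a0b5932af8ba1bd145a38063d71827be31a968bf41a251f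
noncomputable def txl0P (u : ℕ) : ℕ := Nat.land (Nat.shiftRight txl0Pd (Nat.mul u (nat_lit 9))) (nat_lit 511)
noncomputable def txl0Qd : ℕ := nat_lit 0x76126dcf617dd6118d4f1ae5771ac57430afbd580f79e2558aa53072e50d2ad065cc741484b0e2c35ce318c2eeadca1f45ccbddf217b054107e060850c66d90dd1f2d5c90020e9298780f49507a27deee2cc44c59bca58d945224098a8c8a09e14f8045fcd28a57d9da76c1dd552707be209e60e6a08daae93c27a0ad74854cc873a7319db178a79a335c8407b2c5daca14f5d0c288415cf1214bc0b73a97ee4b59bb0942a631deb6963ad494537f02bc490431800376471e4311da19fc987876edd8007514a49ee8ba640ca7352901280b12eb3bb82c60b7897c9b8e98af2fe26038d2aa0e3420151806c221326c6b8b6bcfe4a9ce00527c64afa512208a2b8c889788a4edbc72c805a63f218db3f34b68c4afcb07db5872db35b8aa1f42a70d122594b90f8a0e409a6ae07981cc9660db14c695eb5a1b982fc9693dc9997c63834da9bb35b582304bb16039d328a980df47292caa05a429dfa19f2de4c83123f6722748b58adab9c6087ab5219c57ba3103c97c669b151f2aa8d26990e933932ac871905a068fb842d9ee453c6d1aa18fa2dd52a536be1ac96894e3aacbc88df612b63fdab416f4943568674ec38dc3d4b680e33fd6456e159acb4186202153b4e8ba9764d3c3cde426f6696096b0a264577575d0e3766e215bcf09499cb8ab679fe2156e6bb11b1e75a7aba6b950ba8ea319d33509184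
noncomputable def txl0Q (u : ℕ) : ℕ := Nat.land (Nat.shiftRight txl0Qd (Nat.mul u (nat_lit 9))) (nat_lit 511)
noncomputable def txl0 : Lev := ⟨448, 8, txl0D, txl0P, txl0Q⟩
noncomputable def txl1Dd : ℕ := nat_lit 0x3334a8c719040
noncomputable def txl1D (u : ℕ) : ℕ := Nat.land (Nat.shiftRight txl1Dd (Nat.mul u (nat_lit 5))) (nat_lit 31)
noncomputable def txl1Pd : ℕ := nat_lit 0x32e708e9436e0365119a000
noncomputable def txl1P (u : ℕ) : ℕ := Nat.land (Nat.shiftRight txl1Pd (Nat.mul u (nat_lit 9))) (nat_lit 511)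
noncomputable def txl1Qd : ℕ := nat_lit 0x50000000000000000000000000000000900000000000000000000000000000000000000000000000000000000000000000000000000000000000000000000000000000000000000000000000007000000000000000000000000000000000000000000000000000000000000000000000000000010000030000000000000000000000000000000000000000000000000000000000000000000000000000000000000000080000000000000000000000000000000600000000020000000000000000000000000000000000000000000000000000000000000000004000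
noncomputable def txl1Q (u : ℕ) : ℕ := Nat.land (Nat.shiftRight txl1Qd (Nat.mul u (nat_lit 4))) (nat_lit 15)
noncomputable def txl1 : Lev := ⟨10, 3, txl1D, txl1P, txl1Q⟩
noncomputable def txl2Dd : ℕ := nat_lit 0xab7452310
noncomputable def txl2D (u : ℕ) : ℕ := Nat.land (Nat.shiftRight txl2Dd (Nat.mul u (nat_lit 4))) (nat_lit 15)
noncomputable def txl2Pd : ℕ := nat_lit 0x11d2865d9446383436e03
noncomputable def txl2P (u : ℕ) : ℕ := Nat.land (Nat.shiftRight txl2Pd (Nat.mul u (nat_lit 9))) (nat_lit 511)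
noncomputable def txl2Qd : ℕ := nat_lit 0x10000000000000000000000000000000600000000000000000000000000000000000000000000000000000000000000000000000000000000000000000000000000000000000000000000000008000000000000000000000000000000000000000000000000000000000000000000000000000020000050000000000000000000000000000000000000000000000000000000000000000000000000000000000000000030000000000000000000000000000000700000000040000000000000000000000000000000000000000000000000000000000000000000000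
noncomputable def txl2Q (u : ℕ) : ℕ := Nat.land (Nat.shiftRight txl2Qd (Nat.mul u (nat_lit 4))) (nat_lit 15)
noncomputable def txl2 : Lev := ⟨9, 2, txl2D, txl2P, txl2Q⟩
noncomputable def txl3Dd : ℕ := nat_lit 0x90
noncomputable def txl3D (u : ℕ) : ℕ := Nat.land (Nat.shiftRight txl3Dd (Nat.mul u (nat_lit 2))) (nat_lit 3)
noncomputable def txl3Pd : ℕ := nat_lit 0xcb9c36e46
noncomputable def txl3P (u : ℕ) : ℕ := Nat.land (Nat.shiftRight txl3Pd (Nat.mul u (nat_lit 9))) (nat_lit 511)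
noncomputable def txl3Qd : ℕ := nat_lit 0x4000000000000000c00000000000000000000000000000000000000000000000000000000000000000000000000000000000000000000000000000000000000000000000000000000000000000000000000200000000000000000000000000000000000000000000000000000000
noncomputable def txl3Q (u : ℕ) : ℕ := Nat.land (Nat.shiftRight txl3Qd (Nat.mul u (nat_lit 2))) (nat_lit 3)
noncomputable def txl3 : Lev := ⟨4, 1, txl3D, txl3P, txl3Q⟩
noncomputable def cxe_W : List (List ℕ) := [[nat_lit 1, nat_lit 1, nat_lit 2, nat_lit 1, nat_lit 2, nat_lit 1, nat_lit 1, nat_lit 2, nat_lit 0, nat_lit 2, nat_lit 1, nat_lit 1],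
  [nat_lit 1, nat_lit 1, nat_lit 2, nat_lit 1, nat_lit 2, nat_lit 3, nat_lit 2, nat_lit 0, nat_lit 3, nat_lit 2, nat_lit 1, nat_lit 1, nat_lit 3, nat_lit 2, nat_lit 3],
  [nat_lit 1, nat_lit 2, nat_lit 1, nat_lit 3, nat_lit 2, nat_lit 0, nat_lit 2, nat_lit 1, nat_lit 1, nat_lit 2, nat_lit 3, nat_lit 2, nat_lit 0],
  [nat_lit 3, nat_lit 2, nat_lit 1, nat_lit 2, nat_lit 1, nat_lit 1, nat_lit 2, nat_lit 0, nat_lit 2, nat_lit 1, nat_lit 1]]
noncomputable def cxe_P : ℕ → ℕ → ℕ := wdsP H1.OnC.P cxe_W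
noncomputable def cxc3Dd : ℕ := nat_lit 0
noncomputable def cxc3D (u : ℕ) : ℕ := Nat.land (Nat.shiftRight cxc3Dd (Nat.mul u (nat_lit 1))) (nat_lit 1)
noncomputable def cxc3Pd : ℕ := nat_lit 0x3846
noncomputable def cxc3P (u : ℕ) : ℕ := Nat.land (Nat.shiftRight cxc3Pd (Nat.mul u (nat_lit 7))) (nat_lit 127)
noncomputable def cxc3Qd : ℕ := nat_lit 0x10000000000000000000000000000
noncomputable def cxc3Q (u : ℕ) : ℕ := Nat.land (Nat.shiftRight cxc3Qd (Nat.mul u (nat_lit 1))) (nat_lit 1)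
noncomputable def cxc3 : Lev := ⟨2, 1, cxc3D, cxc3P, cxc3Q⟩
noncomputable def txn0Fd : ℕ := nat_lit 0x84
noncomputable def txn0F (u : ℕ) : ℕ := Nat.land (Nat.shiftRight txn0Fd (Nat.mul u (nat_lit 2))) (nat_lit 3)
noncomputable def txn0 : Nd := ⟨txn0F, (nat_lit 2), (nat_lit 1), [[nat_lit 0]], [((nat_lit 0), [])], []⟩
noncomputable def cxc1Dd : ℕ := nat_lit 0xa88
noncomputable def cxc1D (u : ℕ) : ℕ := Nat.land (Nat.shiftRight cxc1Dd (Nat.mul u (nat_lit 3))) (nat_lit 7)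
noncomputable def cxc1Pd : ℕ := nat_lit 0x7c2300
noncomputable def cxc1P (u : ℕ) : ℕ := Nat.land (Nat.shiftRight cxc1Pd (Nat.mul u (nat_lit 7))) (nat_lit 127)
noncomputable def cxc1Qd : ℕ := nat_lit 0x2000000000000000000001000000000000000000000000000000000c0
noncomputable def cxc1Q (u : ℕ) : ℕ := Nat.land (Nat.shiftRight cxc1Qd (Nat.mul u (nat_lit 2))) (nat_lit 3)
noncomputable def cxc1 : Lev := ⟨4, 2, cxc1D, cxc1P, cxc1Q⟩
noncomputable def txn1y208_W : List (List ℕ) := [[nat_lit 1, nat_lit 1, nat_lit 2, nat_lit 1, nat_lit 1, nat_lit 2, nat_lit 0, nat_lit 2, nat_lit 3, nat_lit 2, nat_lit 1, nat_lit 2, nat_lit 1, nat_lit 1, nat_lit 2, nat_lit 3, nat_lit 2]]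
noncomputable def txn1y208_P : ℕ → ℕ → ℕ := wdsP H1.OnC.P txn1y208_W
noncomputable def txr2k_W : List (List ℕ) := [[nat_lit 1, nat_lit 1, nat_lit 2, nat_lit 1, nat_lit 2, nat_lit 1, nat_lit 1, nat_lit 2, nat_lit 0, nat_lit 2, nat_lit 1, nat_lit 1],
  []]
noncomputable def txr2k_P : ℕ → ℕ → ℕ := wdsP H1.OnC.P txr2k_W
noncomputable def txn2Fd : ℕ := nat_lit 0xa5
noncomputable def txn2F (u : ℕ) : ℕ := Nat.land (Nat.shiftRight txn2Fd (Nat.mul u (nat_lit 2))) (nat_lit 3)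
noncomputable def txn2 : Nd := ⟨txn2F, (nat_lit 2), (nat_lit 2), [], [((nat_lit 0), []), ((nat_lit 1), [nat_lit 0])], []⟩
noncomputable def txn1Fd : ℕ := nat_lit 0x10588a08
noncomputable def txn1F (u : ℕ) : ℕ := Nat.land (Nat.shiftRight txn1Fd (Nat.mul u (nat_lit 3))) (nat_lit 7)
noncomputable def txn1 : Nd := ⟨txn1F, (nat_lit 2), (nat_lit 2), [[nat_lit 0]], [((nat_lit 0), []), ((nat_lit 0), [nat_lit 0])], [((nat_lit 208), txn1y208_W)]⟩
noncomputable def cxc0Dd : ℕ := nat_lit 0x7d1d73f5501e375ead4233480b1b2470c171c4c80a16184070808180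
noncomputable def cxc0D (u : ℕ) : ℕ := Nat.land (Nat.shiftRight cxc0Dd (Nat.mul u (nat_lit 7))) (nat_lit 127)
noncomputable def cxc0Pd : ℕ := nat_lit 0xd56b31377ad6a35fb4cb5bb5bb5d86f753b2d9eef7530c36c773b8dfef36fbedb65f171f
noncomputable def cxc0P (u : ℕ) : ℕ := Nat.land (Nat.shiftRight cxc0Pd (Nat.mul u (nat_lit 9))) (nat_lit 511)
noncomputable def cxc0Qd : ℕ := nat_lit 0x392467352828e987c153c82be07e3a0000000000000000000015c000000000000083a002c00000000000000000e000000000058000000000000000000000006c000000000000000000000000000000000000000000000000000c00000000000000000000000000000000000000000000000000000000000000000000000000000000000000000000000000000000000000000000000000000000000000000000000000000000000000000000000000000000000000000000000000000000000000000000000000000000000000000000000000000000000000000000000000000000000000000000000000000000000000000000000000000000000000000000000000000000000000000000000000000000000000000000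
noncomputable def cxc0Q (u : ℕ) : ℕ := Nat.land (Nat.shiftRight cxc0Qd (Nat.mul u (nat_lit 5))) (nat_lit 31)
noncomputable def cxc0 : Lev := ⟨32, 4, cxc0D, cxc0P, cxc0Q⟩
noncomputable def txn3Fd : ℕ := nat_lit 0x8c12da35b384a4d9c96e8b64f9464c34a12639aea82ce05d0052a4c4ce71b440c8d62a7ca3353a357a2b0982ad5380db341358270945b36be74682738d80e053008b96f78248a42669be3303d8da4a725cdd34d22ebc5918b9003c9510324075a4b74cd3a49e86ca8d75a7193ecc825efbcec06b9d99352f2b8ae85ded7014f83ca593a40bd5926c5d26562e6cd25841d04c54a93d2d94e93741b1b31d553ad693d4d44169ab690749d003516b4e329adf744aad8028c6c60a945af4418c8ad925c958849cb8a212329d203c1224dd29c2339b2290564b731ca6012c7c60e6c5968b2106bdcc429ab7dc139ca6f9d168bc112845ce8b24d0451705e75bcdab8adcaac62f8c23089de082c329b620245e75cc870c88708420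
noncomputable def txn3F (u : ℕ) : ℕ := Nat.land (Nat.shiftRight txn3Fd (Nat.mul u (nat_lit 5))) (nat_lit 31)
noncomputable def txn3 : Nd := ⟨txn3F, (nat_lit 4), (nat_lit 4), [[nat_lit 0]], [((nat_lit 0), [])], []⟩
noncomputable def y_W : List (List ℕ) := [[nat_lit 1, nat_lit 1, nat_lit 3]]
noncomputable def y_P : ℕ → ℕ → ℕ := wdsP H1.OnC.P y_W
noncomputable def tyh_W : List (List ℕ) := [[nat_lit 0],
  [nat_lit 1],
  [nat_lit 2],
  [nat_lit 1, nat_lit 2, nat_lit 0, nat_lit 2, nat_lit 0],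
  [nat_lit 3],
  [nat_lit 1, nat_lit 2, nat_lit 1, nat_lit 2, nat_lit 0, nat_lit 2, nat_lit 0, nat_lit 3, nat_lit 2, nat_lit 0, nat_lit 2, nat_lit 0]]
noncomputable def tyh_P : ℕ → ℕ → ℕ := wdsP H1.OnC.P tyh_W
noncomputable def tyl0Dd : ℕ := nat_lit 0xa42a36a249ac99a9d49766278d48bc5859c68de98a93788a4a776693092a8ad8488188fa6c48ac88e7826887408287286f860a7da6e66e06ce6a45c25b634b73f7b67a46eb68666e76e76875c6c166865c62662061a60e58c58657a74a73e55c07772c7026ea5322d36d86c06966376315de5ae5a252c51a5024fc4d82b52af59c29d49667866065463061e61860c5c55b358a58456c48a48447e47246c46625524923755445a45444860021f5e25d05ca5c45be5b85b257152a5124f44ee42a4244064ca4c449a3ee5943d03ca3c404158e58857056a56455e4f94d547c47645e3be1c51bf54653a5344bd4b14ab44043a39a38237c3581ad1a749342e4f84d44103463404c84bc4b04aa49e44b4453f23e03da33a32231c31630a30447a4623b017115344a4444323eb39839238c3743623562ec2e62ce3c72a44023ea3e432c3262fc28027426e3cc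26825c24a24423e0233ba39036035a3543193133012f02d822c22622021a20e0f90ed34e3482c02ba2b42ae2021fc0db29c33031e3063002cb29627826c1ea2662602362301de1cc1ba2a12e82e22d027d27121821225924723b2061f41a219c17e2a01ee01727c26a2111e226425824623a22e1f91d01b817216c16015a1540931ac14e2222161fe1f81f21b71a019a18e18818217c1421241bc1b616a1641061000751b01aa1a40fa0f40ee1460dc19215715114013a0d606906317414b12e12811c11611010a0ca0c416815c1561500570511090f20e00b814413e0fd1201080eb0ce0ac0a00450bc09a0940f60f00ea0de0c10880390b00c60c00b50aa0a409e08c0700b409d0ae09709108006a06405e02709c02109609007405804c06e08407e06805c06d05003a06004901504403e03404802e03702200503602c00f03002b02002401601a01400901001200d00c008004000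
noncomputable def tyl0D (u : ℕ) : ℕ := Nat.land (Nat.shiftRight tyl0Dd (Nat.mul u (nat_lit 12))) (nat_lit 4095)
noncomputable def tyl0Pd : ℕ := nat_lit 0xa2d0190997cd71c245a1bdd97a788df1104b9f0045a33a8e317192c7d21285a95a2eace2d4b51be74059a26405b6ec0491d6e4f2b2a35250aa9a3d655c621d4ddfb06563d0340d94159811ab6b4d9732f85dc55626676c73791361cc028bd9caa8217f6c3692ed17e31624374f3c071a2c02020d63b09750b97089447b492e390ee234745dcafa09bd4ec1f18638355adf539a51e03ed4360abbc59d0b2ded8a4893dbacda76b1d6791e6f2341d8ec994de507a0ba3d988d758441fa17d98225f374538336eb338649847309007f05136199a738747f17582fbcd809a2c53612a834934f22f2c929cf447fd293abfd7956ec918cee458ad53b9a1a6edd33d09b2c69c96f36cb60acc7ec43eeb6af248a8bd91b20a52b6fb915e82bab9b09304f8035b09551ce554caca588713258789e45b1321aeebbb19089d923dc00e76166f141ab3555efc6d03c83c4e15fd29f55278d5b2a7e3bbd5770b67d0e7348651a31abd01c9bf95d6810605a1a696030d92e3687924e9900b9e52a241f1824177b64a7b60e5f730dd31d1e7b02da21d9c810c61c505b3538e63529690e14eaa7d32668ccfe2b51271f4e0259ab84989d50516ba1746313b92c9cd51c5202544a18ff9db7451780f295806b7804c60091b074a1e91a3dce999085caf93e445a5c6d5ad9a5b242155ab6c84a02a0f2a6a541432f67550c100400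
noncomputable def tyl0P (u : ℕ) : ℕ := Nat.land (Nat.shiftRight tyl0Pd (Nat.mul u (nat_lit 9))) (nat_lit 511)
noncomputable def tyl0Qd : ℕ := nat_lit 0x4f4fe67715637dcca7979a2745f8bb716196758f8298b498df3e49da1f12e89c6571172025ca8608a88912f265aa35d758041ea1989bd3d09b7aa809296ad32d4191abdc2b58fd5bb4618cdb202a3e44289bba55b1f61b1c2c43640bf2e1296056f68046356f4cbac4caae2a4c2151dba68d032300c5685798d04953564027cf9f44e5bbbaa1a6310f37ef0dbe398bbe48ebcc3925287ad6468a361401326e64ab6e8a9e0a67bd19c24622241096931542c42273814f3297212081ce26a54daec2eb8587671a59c0dc2061e945f21c9356610024e18108bf77a0a3363695237778db47a8c217f1c5355e358eae6a988140e93578b8a934e2b6837312cea8cc99307598d5678e2f9439e96cf6c87d6f1760a1ddaa4a49bd92a1ac51db7b08dafd7606ad82dbbb1037a96cdf01e17974d2eb1b68205c8b84fda92af871ae4118fc80fc060c0cd7dda38c3bf378c1b28e593a5981d5d03594d2efa4cd144c67b12f0caaadd9081cb95a18b512c6e0fe0dea94a6d14099c823686c9994380ee795715def9a87dd110af318ee177e7fb36ad4f2c691e6fb63611d40b348aea4a260105ed0dd83c99e6f8649f701829034d90a8491ea20a484ad775db02745287d62af13437a1cb5ae5bfb3994595941c6995a62a96c7fa21db10679cd061c5b8c290216da3916a7691608f047acdce04f169de073025530075c00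
noncomputable def tyl0Q (u : ℕ) : ℕ := Nat.land (Nat.shiftRight tyl0Qd (Nat.mul u (nat_lit 9))) (nat_lit 511)
noncomputable def tyl0 : Lev := ⟨448, 6, tyl0D, tyl0P, tyl0Q⟩
noncomputable def tyl1Dd : ℕ := nat_lit 0x28d489e2ce45288f439271c8c3e9ec8b3bc1200dd6e2f9b0c560ab94cc45e2a54a9a5a2b150964721904793a9c8dc3719a10f8783a1a8562738184aa520f960a84d25118844c2092080131e0d85c31130c0420b100743816038602a12070280608028100400
noncomputable def tyl1D (u : ℕ) : ℕ := Nat.land (Nat.shiftRight tyl1Dd (Nat.mul u (nat_lit 9))) (nat_lit 511)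
noncomputable def tyl1Pd : ℕ := nat_lit 0xed8721dc98b2b5cdd758bac504bef3602750982800e7626bbaeec64abdfbc86d03d0e703cfeb44b018c120bbdb3b60e20431871449cb66a853a89d1b5142e8c62772593890129eca560073d2356c9d42172beb8eb642155ab6c84a0a9a95057b3aa860802
noncomputable def tyl1P (u : ℕ) : ℕ := Nat.land (Nat.shiftRight tyl1Pd (Nat.mul u (nat_lit 9))) (nat_lit 511)
noncomputable def tyl1Qd : ℕ := nat_lit 0x7e00000840000000c000000022800000700000000000000000001d80000003a0000000000000000000000000000a0000005800000012000000000000800000000218000007800000014a600037000000000000180000000000004f00000000e0000000000000000000008400000027000000000004c000a4000000000000000003600000005400000000068000000004854000000000000000000000000449c0120000001780004700e00000000000000001698f8000647c000009800000000570000000000000014018d8000000000000000000000000000000000000001a4b0040000014488000005800150000000000080000000000300008c108000251d00000000078000000001c000000000000000000049001570000000003400000ac001800000000000000088a0000000000000800009a0000052000000000000006400000940550000000000000000259800000000000230000f400001040000000000000002b0000d80000000000e402f000002d00006000000000005c0350000000b2000000000000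
noncomputable def tyl1Q (u : ℕ) : ℕ := Nat.land (Nat.shiftRight tyl1Qd (Nat.mul u (nat_lit 7))) (nat_lit 127)
noncomputable def tyl1 : Lev := ⟨90, 4, tyl1D, tyl1P, tyl1Q⟩
noncomputable def tyl2Dd : ℕ := nat_lit 0x90
noncomputable def tyl2D (u : ℕ) : ℕ := Nat.land (Nat.shiftRight tyl2Dd (Nat.mul u (nat_lit 2))) (nat_lit 3)
noncomputable def tyl2Pd : ℕ := nat_lit 0x7fb575e03
noncomputable def tyl2P (u : ℕ) : ℕ := Nat.land (Nat.shiftRight tyl2Pd (Nat.mul u (nat_lit 9))) (nat_lit 511)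
noncomputable def tyl2Qd : ℕ := nat_lit 0x4000000000000000000000000000000000000000000000000000000000000000000000000000000000000000c0000000000000000000080000000000000000000000000000000000000000000000000000000000000000000000000000000000000000000000000000000000
noncomputable def tyl2Q (u : ℕ) : ℕ := Nat.land (Nat.shiftRight tyl2Qd (Nat.mul u (nat_lit 2))) (nat_lit 3)
noncomputable def tyl2 : Lev := ⟨4, 2, tyl2D, tyl2P, tyl2Q⟩
noncomputable def cye_W : List (List ℕ) := [[nat_lit 1, nat_lit 1],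
  [nat_lit 1, nat_lit 2, nat_lit 3, nat_lit 2, nat_lit 1, nat_lit 1, nat_lit 2, nat_lit 3, nat_lit 2, nat_lit 1],
  [nat_lit 0, nat_lit 2, nat_lit 3, nat_lit 2, nat_lit 0],
  [nat_lit 2, nat_lit 1, nat_lit 2, nat_lit 1, nat_lit 1, nat_lit 3, nat_lit 2, nat_lit 1, nat_lit 2],
  [nat_lit 0, nat_lit 2, nat_lit 3, nat_lit 2, nat_lit 0]]
noncomputable def cye_P : ℕ → ℕ → ℕ := wdsP H1.OnC.P cye_W
noncomputable def cyc2Dd : ℕ := nat_lit 0
noncomputable def cyc2D (u : ℕ) : ℕ := Nat.land (Nat.shiftRight cyc2Dd (Nat.mul u (nat_lit 1))) (nat_lit 1)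
noncomputable def cyc2Pd : ℕ := nat_lit 0xff03
noncomputable def cyc2P (u : ℕ) : ℕ := Nat.land (Nat.shiftRight cyc2Pd (Nat.mul u (nat_lit 8))) (nat_lit 255)
noncomputable def cyc2Qd : ℕ := nat_lit 0x8000000000000000000000000000000000000000000000000000000000000000
noncomputable def cyc2Q (u : ℕ) : ℕ := Nat.land (Nat.shiftRight cyc2Qd (Nat.mul u (nat_lit 1))) (nat_lit 1)
noncomputable def cyc2 : Lev := ⟨2, 1, cyc2D, cyc2P, cyc2Q⟩
noncomputable def tyn0Fd : ℕ := nat_lit 0x24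
noncomputable def tyn0F (u : ℕ) : ℕ := Nat.land (Nat.shiftRight tyn0Fd (Nat.mul u (nat_lit 2))) (nat_lit 3)
noncomputable def tyn0 : Nd := ⟨tyn0F, (nat_lit 2), (nat_lit 1), [], [((nat_lit 0), []), ((nat_lit 1), [nat_lit 0])], []⟩
noncomputable def cyc0Dd : ℕ := nat_lit 0x8dc5a1907813e26d3177391beda6aae964fa56aa1469e5da3d14856e35d727638a24c45d4d94c9c4c222310e3f1d0f4604d15898486e258848c411509438320b8542428118343616040500e03008140400
noncomputable def cyc0D (u : ℕ) : ℕ := Nat.land (Nat.shiftRight cyc0Dd (Nat.mul u (nat_lit 9))) (nat_lit 511)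
noncomputable def cyc0Pd : ℕ := nat_lit 0x2d172e80d50039667c098201211a060a008e38491968f5e1bdd8cc5eaec84a41f88c02ff798094a0310cade4332644a0c1d0f0c6223c021520f0555d14d72829bd8d047232d00e9a552d4cb533e9d54200
noncomputable def cyc0P (u : ℕ) : ℕ := Nat.land (Nat.shiftRight cyc0Pd (Nat.mul u (nat_lit 9))) (nat_lit 511)
noncomputable def cyc0Qd : ℕ := nat_lit 0xe8000000000000000000000045000000000000000000000000000000000000000000000000000000000800000000000000000000000900000003b000000000000000000000000000000000004400010000003600000000000000000000000000000078c80000000000000002a74a0000000395000000000000000380004e840000000031000000000000000000000000000000000000000000000000000000306a000000000000000000000017b35c00000000030a82000000000000261c00000012ac00000c3000000000200000000000000000068e000000000000000000000000000001c00000000000010000000376400000220000d000028000000000000046011c00000000161e00000000001f0000000182c00000b40005600018000000000000004000d000000000000000000000005401180006ce00000000000000007e01e00010a2000001ebe12000174899480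
noncomputable def cyc0Q (u : ℕ) : ℕ := Nat.land (Nat.shiftRight cyc0Qd (Nat.mul u (nat_lit 7))) (nat_lit 127)
noncomputable def cyc0 : Lev := ⟨72, 5, cyc0D, cyc0P, cyc0Q⟩
noncomputable def tyn1y260_W : List (List ℕ) := [[nat_lit 0, nat_lit 3]]
noncomputable def tyn1y260_P : ℕ → ℕ → ℕ := wdsP H1.OnC.P tyn1y260_W
noncomputable def tyr2k_W : List (List ℕ) := [[],
  [nat_lit 1, nat_lit 1]]
noncomputable def tyr2k_P : ℕ → ℕ → ℕ := wdsP H1.OnC.P tyr2k_W
noncomputable def tyn2Fd : ℕ := nat_lit 0xf5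
noncomputable def tyn2F (u : ℕ) : ℕ := Nat.land (Nat.shiftRight tyn2Fd (Nat.mul u (nat_lit 2))) (nat_lit 3)
noncomputable def tyn2 : Nd := ⟨tyn2F, (nat_lit 2), (nat_lit 2), [], [((nat_lit 0), []), ((nat_lit 1), [nat_lit 0])], []⟩
noncomputable def tyn1Fd : ℕ := nat_lit 0x71235c31c5d70170111925803002944974864400153d22d149c7005d93cc41e21c41201c34b2970002974993c04915cb49744f5cc0125a15c63175cb70078085c41731c44d01771449c70c00d8613d101434d0173c001465201c2142d184d30b6570072cc5cd35c14a01230059548d00000028f4915150005d95c650f1c048d3165174110002910005922dc51050b2803001cc50d85c31628f45c0121d230f40c40735c64b3d21d93453c73de3403565972ca7123d749718c3ca4944504880147175cc7174403123d74455c048570f00a0406546d721900151c20d00734020c4513d770a48f64f3c05943ca2cc7115d44125124563405d265401734055444f0015cc28d18f5dc05944f19048f2944913d21521d245c48f49c5d215c4a15e128a31985720d29185440f28751400a48f30700f01200050d141005414057012345481041005000000000054140001000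
noncomputable def tyn1F (u : ℕ) : ℕ := Nat.land (Nat.shiftRight tyn1Fd (Nat.mul u (nat_lit 6))) (nat_lit 63)
noncomputable def tyn1 : Nd := ⟨tyn1F, (nat_lit 5), (nat_lit 5), [], [((nat_lit 0), []), ((nat_lit 0), [nat_lit 0])], [((nat_lit 260), tyn1y260_W)]⟩
noncomputable def z_W : List (List ℕ) := [[nat_lit 2, nat_lit 3, nat_lit 2, nat_lit 0, nat_lit 2, nat_lit 1, nat_lit 2, nat_lit 0, nat_lit 3, nat_lit 2, nat_lit 0, nat_lit 2, nat_lit 1, nat_lit 2, nat_lit 3, nat_lit 2, nat_lit 0]]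
noncomputable def z_P : ℕ → ℕ → ℕ := wdsP H1.OnC.P z_W
noncomputable def tzh_W : List (List ℕ) := [[nat_lit 0],
  [nat_lit 1],
  [nat_lit 2],
  [nat_lit 1, nat_lit 2, nat_lit 1, nat_lit 2, nat_lit 0, nat_lit 2],
  [nat_lit 3],
  [nat_lit 0, nat_lit 2, nat_lit 0, nat_lit 2, nat_lit 1, nat_lit 2, nat_lit 3, nat_lit 2, nat_lit 0, nat_lit 2, nat_lit 3, nat_lit 2, nat_lit 1]]
noncomputable def tzh_P : ℕ → ℕ → ℕ := wdsP H1.OnC.P tzh_W
noncomputable def tzl0Dd : ℕ := nat_lit 0xa54a36a1c97ca049fe93a9a49739089b48a83e198488407d9488896a62fd66a86a65e6282f72eb05f84c7db83a75873a73472e7287228286c25fe7f27ec6b66b06aa6986865ce5c85c27455987a46d964a64462057a56e55c2316a368504175c75074473e7266734f64ea4e44d26fc6d26c06316254c06ae6a86a269c5f64ae4a84a249648467e6135d25c067266c5ba59c65a64e63062a5fb56c56046019b53c5d751e02f4dc4d01775955833ee5e85e25355294ac48e3ca3b83885d65c451751150b47c4cf59a59458858257c46a46437036435e35835234c34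656433a53452e5224a549949348144c44643a33431c12f51c51650a42841c31030a30412311d4c240a3e04bc4514a449e49849248c4863d43c23bc39e2e010b3744503382a433242027426e2563792fc2500c90c301d35b35534f24a2443d82f62f02ea2e42323c63c03b43a83903843192de2262203132d22cc2c621a3782c02ba2b436c36636034233c2ae2a821420e0b72a229031828431230c27826025a2541e41d20a530023c1c61c01ba2dc2d60872c426b26525318a2b817e17816c20c2a029a28e23522f2292001661601fa27c27026a2642582522171ee15a15414e14807506f20b1c401122e2281be1b81b21ac1a019a14221c2161e11db1cf06317016a21020a1c31f81f211210c1e01da1751690e21c81c20dc1b00d619212e1280d018c14517416e16812211c0ca0c404511616215c13f11010a0f21501440e013e0330fd0b20a60a00e50df0c80c209402d08e00b10e1080fc0f00cd0880820bc0e40de0c10d80b607c0270cc0aa0c60c00920210860ba0a309d0640b405808b0a209c09606e05204c07906801b08a07e06207801503a03406004904403e02e05400504e04803203702203103602b03002a02002401601a00901401001200d00c008004000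
noncomputable def tzl0D (u : ℕ) : ℕ := Nat.land (Nat.shiftRight tzl0Dd (Nat.mul u (nat_lit 12))) (nat_lit 4095)
noncomputable def tzl0Pd : ℕ := nat_lit 0xa0515f2995c4cab9116fbdc5b7e65ec0cc45d39eb1fb5832c2565c7401911bd23292aebb18875da9bb2e319fac8e55306742d664039e64456c5568ba15c5a92b441aef0d198286da4bbf5a30f84a02c76119a3678d4379863e8b8b3e16224a6cc1860b8988d8afc5eafc26306965e3a8e085acd2a3b48ab6e51a454522c95b4a5066e06ef0aa59bb68ae9ba62250ef39ca3d93a38cdbacce19a20fe0a26c3334947392c3974af160e9ceb31bcbeba1a5507d27126e5f28507d01a2b595ac9d8b09adc0be00b20411dcad39237b72a8c70851e9ec00cb76a79b86dcd7763b84294903b609736d4658c95bc88a52b6fb915f5f35af931c078c5bcd957a0bece9cf5df5b63c0a86b598498278d309551017422a6a5da36c79631facc4d204671ab772031f53b0b210b65f7dbfdd9b224dff134abc87320e39703cda7d816ac778556bc40670c46d25941c533a7e72dfaa5813e1ee90cb5e80e9b268c574b4517535bbd4582b9c8a155815a49d320172ac6c272f22ac805c09f0a77d31d1d0f03ce140d8dd6acf5a1a591ab1d587315326352a327362901cccd783e9c3c830d97f67d8367c904b3570935825150d7078d481a7ca8902285a597d1a771067489431fedc438a6606b78b502630042949f439d073d04a4e661c56ab94f9116908d510ae31bd6cd0f72141055b6a02a0f2a76c52c32f67550c100400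
noncomputable def tzl0P (u : ℕ) : ℕ := Nat.land (Nat.shiftRight tzl0Pd (Nat.mul u (nat_lit 9))) (nat_lit 511)
noncomputable def tzl0Qd : ℕ := nat_lit 0x4bb6f494a80d121313aab27589e6f2d0b3b27490c27985305f10f3d7a38c892c1d184b1b27640486b9d927242eaf3ca313f4692ddeadd6c1d839a71a6d629f304cd48d1caa10e703596d0e11e02b815e2c7e51d114541bac2a48760c5b408ad0aeaeca263173675bce36f04673a424bb9784662e80d0e31a19604972a4441fb76d65e65ac1f1533716f7d37c0c7539bf4ca50cd755e0d680537fbd1d0122b6e8bb6a932ad149dd48fa9c451311e5f0b31a08207cb8b66bb970a0e18429c5dbf1c2fb3c837186be4b9ae061da06f6188e6ae6a023629d1f115b13efd645baf77b6edb4f9b822711494584430df3ab59d184fba794bf61abf56625f4e5dbc28d11f06e00a0f6c2b58cf748657efa65cca6a641fd9b86a18f7db1ecb43b4b549a95b10e6c655d04b439bb6053c3a1994442dbaa9622d46623d48d2d08803300fa2ac214060c0dc127a5ace45378d4bf8e9db42909faa25882d72ec8cb81d869a5368cf14baa683c817a19319507208eb990e4a0c580994982603ca0b9d31526943906b31a9cec522f13797ee5825c1dd9da85ce4e91157561e920b3889ea86a6988188e67acc5663d8768f601a180586cc39b151260a52ca8af3c939e45ad2bbc0b3f60891ef6b2b3fd59dc893c4d0436cb30f20ccf9110b3cae7f49270516faec1cf9b09299b5b5508e96beb4360550f7be98e828508072200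
noncomputable def tzl0Q (u : ℕ) : ℕ := Nat.land (Nat.shiftRight tzl0Qd (Nat.mul u (nat_lit 9))) (nat_lit 511)
noncomputable def tzl0 : Lev := ⟨448, 6, tzl0D, tzl0P, tzl0Q⟩
noncomputable def tzl1Dd : ℕ := nat_lit 0x28b3c934e259158a3f9f45b2bc21d2de74349c0c66e3608eb25cab876b15e2e14aa14e8cd68b052281287544210e27c3a198e01b34994b4560b974d0642a9709c582a12826461e8d81e40190f01630108a048200d074321c0a86028120700c1408028100400
noncomputable def tzl1D (u : ℕ) : ℕ := Nat.land (Nat.shiftRight tzl1Dd (Nat.mul u (nat_lit 9))) (nat_lit 511)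
noncomputable def tzl1Pd : ℕ := nat_lit 0x2db3e15af69192bfeeaf84b70b0f58d28e6c02910cdd280ac7c1a93789475d514e1ba2545d051c882a0ada0b15c0d4214ed4480b68a5f0b944a8b9637245ba44c928f066527a9d9a106fd9c0fa73645db99f03f90626f367ab99f4115c0dbf46f686c5a0e74
noncomputable def tzl1P (u : ℕ) : ℕ := Nat.land (Nat.shiftRight tzl1Pd (Nat.mul u (nat_lit 9))) (nat_lit 511)
noncomputable def tzl1Qd : ℕ := nat_lit 0x4101480000001700000004a000004d000000000000000a0000900000008e0000000000280151b800000000000070000014808600380a6000510000680000000000900000c02c8000000001800014000000000000000000000160003e0001d0000000000118055000003b00c000001600003600a970000000000000000000000000e800000000000000f007c04b000000000084000000048000018000000000201a8000000000000c0000000110010000000000000000007e0113900480000002780000000000d0000000000001315800000000000000088000009c000000002b00260000000000000001280000000000000007a0004200000000000000000000054013c00080000000000046000000000000320000000000000070000000000000000000000000000001a140000000000000000000000000064000000001c000000000a0000000000000000000020580000000000000000000000000098000ae01780008402d000000000000007800f0000cc0490000000000000058d800000c62800000000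
noncomputable def tzl1Q (u : ℕ) : ℕ := Nat.land (Nat.shiftRight tzl1Qd (Nat.mul u (nat_lit 7))) (nat_lit 127)
noncomputable def tzl1 : Lev := ⟨90, 4, tzl1D, tzl1P, tzl1Q⟩
noncomputable def tzl2Dd : ℕ := nat_lit 0x90
noncomputable def tzl2D (u : ℕ) : ℕ := Nat.land (Nat.shiftRight tzl2Dd (Nat.mul u (nat_lit 2))) (nat_lit 3)
noncomputable def tzl2Pd : ℕ := nat_lit 0x7fb575e03
noncomputable def tzl2P (u : ℕ) : ℕ := Nat.land (Nat.shiftRight tzl2Pd (Nat.mul u (nat_lit 9))) (nat_lit 511)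
noncomputable def tzl2Qd : ℕ := nat_lit 0x4000000000000000000000000000000000000000000000000000000000000000000000000000000000000000c0000000000000000000080000000000000000000000000000000000000000000000000000000000000000000000000000000000000000000000000000000000
noncomputable def tzl2Q (u : ℕ) : ℕ := Nat.land (Nat.shiftRight tzl2Qd (Nat.mul u (nat_lit 2))) (nat_lit 3)
noncomputable def tzl2 : Lev := ⟨4, 2, tzl2D, tzl2P, tzl2Q⟩
noncomputable def cze_W : List (List ℕ) := [[nat_lit 1, nat_lit 1],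
  [nat_lit 0, nat_lit 3, nat_lit 2, nat_lit 1, nat_lit 1, nat_lit 2, nat_lit 3, nat_lit 2, nat_lit 3],
  [nat_lit 3, nat_lit 2, nat_lit 1, nat_lit 2, nat_lit 1, nat_lit 1, nat_lit 3, nat_lit 2, nat_lit 1, nat_lit 2],
  [nat_lit 0, nat_lit 2, nat_lit 1, nat_lit 1, nat_lit 2, nat_lit 3, nat_lit 2]]
noncomputable def cze_P : ℕ → ℕ → ℕ := wdsP H1.OnC.P cze_W
noncomputable def czc2Dd : ℕ := nat_lit 0
noncomputable def czc2D (u : ℕ) : ℕ := Nat.land (Nat.shiftRight czc2Dd (Nat.mul u (nat_lit 1))) (nat_lit 1)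
noncomputable def czc2Pd : ℕ := nat_lit 0xff03
noncomputable def czc2P (u : ℕ) : ℕ := Nat.land (Nat.shiftRight czc2Pd (Nat.mul u (nat_lit 8))) (nat_lit 255)
noncomputable def czc2Qd : ℕ := nat_lit 0x8000000000000000000000000000000000000000000000000000000000000000
noncomputable def czc2Q (u : ℕ) : ℕ := Nat.land (Nat.shiftRight czc2Qd (Nat.mul u (nat_lit 1))) (nat_lit 1)
noncomputable def czc2 : Lev := ⟨2, 1, czc2D, czc2P, czc2Q⟩
noncomputable def tzn0Fd : ℕ := nat_lit 0x24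
noncomputable def tzn0F (u : ℕ) : ℕ := Nat.land (Nat.shiftRight tzn0Fd (Nat.mul u (nat_lit 2))) (nat_lit 3)
noncomputable def tzn0 : Nd := ⟨tzn0F, (nat_lit 2), (nat_lit 1), [], [((nat_lit 0), []), ((nat_lit 1), [nat_lit 0])], []⟩
noncomputable def czc0Dd : ℕ := nat_lit 0x862891ca74aa352e5d2890874b4580d85ca4500f4722a48230763116888662f0f0a45625109c04e230e87cc8602a140981a1e0e03216180b03612070a0482006828380f030241605038301004010040600
noncomputable def czc0D (u : ℕ) : ℕ := Nat.land (Nat.shiftRight czc0Dd (Nat.mul u (nat_lit 9))) (nat_lit 511)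
noncomputable def czc0Pd : ℕ := nat_lit 0x329d096093e9f0026f47a3ac6aa5a446c3517c4488e9ac0a9e48cb383b08d288350691a3bd94d7564c8c11a2c3a6c34a804c031162d28ac3895161e00c260839ac046fd7e3fc22b310af206b96649ee200
noncomputable def czc0P (u : ℕ) : ℕ := Nat.land (Nat.shiftRight czc0Pd (Nat.mul u (nat_lit 9))) (nat_lit 511)
noncomputable def czc0Qd : ℕ := nat_lit 0x50000000000000000000000000000001180000000000000000000000000199b00000004e00000000000000000800000000000000000000247a01c800000000000000000000000001c000000f8000000290000000000150000000000000000000000000000000000000000002c04000310000000000000000000000050b8000d9d000058f00000000000ac0220a00000140060b000003700000000000000000002e000000000000000000000000000000000000000000006108000000036000000000001a400000000000060094200000003b1000c8e000000000f000064000000000000000000000d0000000000000000007ef800000000000000000000000000021c2000000000000461e0002f800000000000000002380000000000000000000000000001d4c0000000000008a540006ab4000000000000000130000000000000000000000000000000000000000001a00380000000000000000000000220048000000000002210000001c2402080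
noncomputable def czc0Q (u : ℕ) : ℕ := Nat.land (Nat.shiftRight czc0Qd (Nat.mul u (nat_lit 7))) (nat_lit 127)
noncomputable def czc0 : Lev := ⟨72, 4, czc0D, czc0P, czc0Q⟩
noncomputable def tzn1y2_W : List (List ℕ) := [[nat_lit 2, nat_lit 3, nat_lit 2, nat_lit 0, nat_lit 2, nat_lit 1, nat_lit 2, nat_lit 0, nat_lit 3, nat_lit 2, nat_lit 0, nat_lit 2, nat_lit 1, nat_lit 2, nat_lit 3, nat_lit 2]]
noncomputable def tzn1y2_P : ℕ → ℕ → ℕ := wdsP H1.OnC.P tzn1y2_W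
noncomputable def tzr2k_W : List (List ℕ) := [[nat_lit 1, nat_lit 1],
  []]
noncomputable def tzr2k_P : ℕ → ℕ → ℕ := wdsP H1.OnC.P tzr2k_W
noncomputable def tzn2Fd : ℕ := nat_lit 0xa5
noncomputable def tzn2F (u : ℕ) : ℕ := Nat.land (Nat.shiftRight tzn2Fd (Nat.mul u (nat_lit 2))) (nat_lit 3)
noncomputable def tzn2 : Nd := ⟨tzn2F, (nat_lit 2), (nat_lit 2), [], [((nat_lit 0), []), ((nat_lit 1), [nat_lit 0])], []⟩
noncomputable def tzn1Fd : ℕ := nat_lit 0x9353292d60649d001e718418b0012c6ae4b0398f5b1546256f841c05b00f901e562de8629a8039a68800d698006320a03d8c0000c04009801606cc0c05120632056348c0020a6b5af62d484bd270266c63a292bdee5422c620002800f63ce053d8f041002a54d5ca4b842003b1af001900448b7800c034809414a7198d9ac0c839eb021ec6c0d0651b08452f6856b0a16d031af639ce828138348e4c9cc92d8e4a2737b66f700078b96a699102b2008a2687b00082d20439ed0aa0c738105b2115320f8b62e6be8f62d2c63dea840090000d4c1a08320d439cc51e0c4352f6b427620136c5907312c834872a0083cd6f5b4eb3d19073e6e5aa064418d20020a020f73e52024c0804046400a23c8120430001017b40a60020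
noncomputable def tzn1F (u : ℕ) : ℕ := Nat.land (Nat.shiftRight tzn1Fd (Nat.mul u (nat_lit 5))) (nat_lit 31)
noncomputable def tzn1 : Nd := ⟨tzn1F, (nat_lit 4), (nat_lit 4), [], [((nat_lit 0), []), ((nat_lit 0), [nat_lit 0])], [((nat_lit 2), tzn1y2_W)]⟩
noncomputable def d_W : Wl := [[nat_lit 6, nat_lit 1, nat_lit 6],
  [nat_lit 13, nat_lit 7, nat_lit 14],
  [nat_lit 1, nat_lit 6, nat_lit 6, nat_lit 12],
  [nat_lit 6, nat_lit 13, nat_lit 14],
  [nat_lit 6, nat_lit 6, nat_lit 12],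
  [nat_lit 14, nat_lit 1, nat_lit 6],
  [nat_lit 1, nat_lit 12],
  [nat_lit 1, nat_lit 12, nat_lit 16],
  [nat_lit 7, nat_lit 1],
  [nat_lit 1, nat_lit 0, nat_lit 12, nat_lit 7],
  [nat_lit 6, nat_lit 1],
  [nat_lit 0, nat_lit 12, nat_lit 16, nat_lit 14],
  [nat_lit 6, nat_lit 12, nat_lit 6],
  [nat_lit 6, nat_lit 13, nat_lit 14, nat_lit 1],
  [nat_lit 12, nat_lit 1],
  [nat_lit 1, nat_lit 0, nat_lit 12],
  [nat_lit 1, nat_lit 12, nat_lit 7],
  [nat_lit 1, nat_lit 0, nat_lit 7, nat_lit 12],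
  [nat_lit 1, nat_lit 12, nat_lit 6],
  [nat_lit 12, nat_lit 14],
  [nat_lit 14, nat_lit 16, nat_lit 14],
  [nat_lit 13, nat_lit 14, nat_lit 14],
  [nat_lit 0, nat_lit 12, nat_lit 16],
  [nat_lit 1, nat_lit 0, nat_lit 1, nat_lit 12],
  [nat_lit 12, nat_lit 7],
  [nat_lit 1, nat_lit 0, nat_lit 7, nat_lit 1],
  [nat_lit 12, nat_lit 6],
  [nat_lit 14, nat_lit 1],
  [nat_lit 13, nat_lit 6, nat_lit 1],
  [nat_lit 6, nat_lit 14, nat_lit 6],
  [nat_lit 7],
  [nat_lit 0, nat_lit 1, nat_lit 16, nat_lit 14],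
  [nat_lit 12, nat_lit 14, nat_lit 16],
  [nat_lit 6, nat_lit 1, nat_lit 0],
  [nat_lit 6],
  [nat_lit 14, nat_lit 1, nat_lit 12],
  [nat_lit 14, nat_lit 0, nat_lit 14],
  [nat_lit 1, nat_lit 6, nat_lit 16, nat_lit 14],
  [nat_lit 12],
  [nat_lit 14, nat_lit 1, nat_lit 7],
  [nat_lit 7, nat_lit 12],
  [nat_lit 1, nat_lit 16, nat_lit 7, nat_lit 1],
  [nat_lit 6, nat_lit 12],
  [nat_lit 0, nat_lit 16, nat_lit 14, nat_lit 1],
  [nat_lit 7, nat_lit 1, nat_lit 13],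
  [nat_lit 7, nat_lit 1, nat_lit 16],
  [nat_lit 0, nat_lit 16, nat_lit 7],
  [nat_lit 0, nat_lit 1, nat_lit 0, nat_lit 14],
  [nat_lit 6, nat_lit 1, nat_lit 13],
  [nat_lit 6, nat_lit 1, nat_lit 16],
  [nat_lit 0, nat_lit 16, nat_lit 6],
  [nat_lit 12, nat_lit 14, nat_lit 1],
  [nat_lit 0, nat_lit 6, nat_lit 1, nat_lit 6],
  [nat_lit 7, nat_lit 16, nat_lit 14],
  [nat_lit 12, nat_lit 16],
  [nat_lit 1, nat_lit 7, nat_lit 16, nat_lit 14],
  [nat_lit 0, nat_lit 12, nat_lit 7],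
  [nat_lit 0, nat_lit 14, nat_lit 1],
  [nat_lit 0, nat_lit 12, nat_lit 6],
  [nat_lit 1, nat_lit 0, nat_lit 12, nat_lit 14],
  [nat_lit 7, nat_lit 14, nat_lit 14],
  [nat_lit 7, nat_lit 12, nat_lit 16],
  [nat_lit 7, nat_lit 1, nat_lit 12],
  [nat_lit 1, nat_lit 0, nat_lit 7],
  [nat_lit 6, nat_lit 12, nat_lit 16],
  [nat_lit 6, nat_lit 14, nat_lit 14],
  [nat_lit 6, nat_lit 1, nat_lit 12],
  [nat_lit 14],
  [nat_lit 13, nat_lit 6],
  [nat_lit 6, nat_lit 14, nat_lit 6, nat_lit 1],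
  [nat_lit 6, nat_lit 14, nat_lit 0],
  [nat_lit 7, nat_lit 14],
  [nat_lit 7, nat_lit 14, nat_lit 0],
  [nat_lit 6, nat_lit 14],
  [nat_lit 7, nat_lit 0],
  [nat_lit 1, nat_lit 13, nat_lit 0, nat_lit 14],
  [],
  [nat_lit 1, nat_lit 16, nat_lit 1],
  [nat_lit 6, nat_lit 6],
  [nat_lit 14, nat_lit 1, nat_lit 12, nat_lit 6],
  [nat_lit 13, nat_lit 7],
  [nat_lit 1, nat_lit 0, nat_lit 14, nat_lit 0],
  [nat_lit 6, nat_lit 0],
  [nat_lit 1, nat_lit 16, nat_lit 13, nat_lit 14],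
  [nat_lit 6, nat_lit 0, nat_lit 14, nat_lit 16],
  [nat_lit 7, nat_lit 0, nat_lit 14],
  [nat_lit 0, nat_lit 12],
  [nat_lit 0, nat_lit 14, nat_lit 1, nat_lit 6],
  [nat_lit 0, nat_lit 7, nat_lit 12],
  [nat_lit 16, nat_lit 14, nat_lit 1],
  [nat_lit 0, nat_lit 6, nat_lit 12],
  [nat_lit 1, nat_lit 12, nat_lit 16, nat_lit 14],
  [nat_lit 16, nat_lit 13, nat_lit 14, nat_lit 1],
  [nat_lit 7, nat_lit 0, nat_lit 12],
  [nat_lit 1, nat_lit 7],
  [nat_lit 1, nat_lit 16, nat_lit 7],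
  [nat_lit 6, nat_lit 0, nat_lit 12],
  [nat_lit 14, nat_lit 1, nat_lit 16],
  [nat_lit 1, nat_lit 6],
  [nat_lit 0, nat_lit 16, nat_lit 14],
  [nat_lit 7, nat_lit 13],
  [nat_lit 7, nat_lit 1, nat_lit 16, nat_lit 1],
  [nat_lit 6, nat_lit 14, nat_lit 16],
  [nat_lit 0, nat_lit 14, nat_lit 14, nat_lit 1],
  [nat_lit 1, nat_lit 12, nat_lit 13],
  [nat_lit 0, nat_lit 16, nat_lit 6, nat_lit 14],
  [nat_lit 7, nat_lit 16],
  [nat_lit 1, nat_lit 13, nat_lit 16, nat_lit 14],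
  [nat_lit 0, nat_lit 16],
  [nat_lit 1, nat_lit 0, nat_lit 1],
  [nat_lit 13, nat_lit 13],
  [nat_lit 14, nat_lit 6, nat_lit 1],
  [nat_lit 6, nat_lit 13],
  [nat_lit 1, nat_lit 0, nat_lit 14, nat_lit 16],
  [nat_lit 6, nat_lit 16],
  [nat_lit 1, nat_lit 0, nat_lit 13, nat_lit 14],
  [nat_lit 0, nat_lit 1, nat_lit 12],
  [nat_lit 6, nat_lit 0, nat_lit 14],
  [nat_lit 0, nat_lit 7, nat_lit 1],
  [nat_lit 12, nat_lit 16, nat_lit 14],
  [nat_lit 0, nat_lit 6, nat_lit 1],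
  [nat_lit 1, nat_lit 16, nat_lit 14, nat_lit 1],
  [nat_lit 0, nat_lit 6, nat_lit 14, nat_lit 14],
  [nat_lit 12, nat_lit 7, nat_lit 13],
  [nat_lit 16, nat_lit 1, nat_lit 7],
  [nat_lit 0, nat_lit 14],
  [nat_lit 13, nat_lit 14, nat_lit 1],
  [nat_lit 12, nat_lit 6, nat_lit 13],
  [nat_lit 16, nat_lit 1, nat_lit 6],
  [nat_lit 0, nat_lit 1, nat_lit 0, nat_lit 7],
  [nat_lit 0, nat_lit 13, nat_lit 14],
  [nat_lit 0, nat_lit 1, nat_lit 13, nat_lit 6],
  [nat_lit 12, nat_lit 13, nat_lit 0],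
  [nat_lit 1, nat_lit 0, nat_lit 7, nat_lit 14],
  [nat_lit 12, nat_lit 16, nat_lit 13],
  [nat_lit 14, nat_lit 14],
  [nat_lit 1, nat_lit 7, nat_lit 16],
  [nat_lit 1, nat_lit 7, nat_lit 13],
  [nat_lit 0, nat_lit 16, nat_lit 1],
  [nat_lit 1, nat_lit 0],
  [nat_lit 1, nat_lit 13, nat_lit 13],
  [nat_lit 14, nat_lit 6],
  [nat_lit 13, nat_lit 16, nat_lit 14],
  [nat_lit 0, nat_lit 14, nat_lit 16],
  [nat_lit 1, nat_lit 6, nat_lit 16],
  [nat_lit 14, nat_lit 0],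
  [nat_lit 16, nat_lit 7],
  [nat_lit 14, nat_lit 6, nat_lit 14],
  [nat_lit 0, nat_lit 13, nat_lit 16],
  [nat_lit 0, nat_lit 12, nat_lit 14, nat_lit 14],
  [nat_lit 13],
  [nat_lit 1, nat_lit 16, nat_lit 1, nat_lit 13],
  [nat_lit 0, nat_lit 1, nat_lit 7, nat_lit 14],
  [nat_lit 7, nat_lit 14, nat_lit 1],
  [nat_lit 12, nat_lit 13],
  [nat_lit 6, nat_lit 14, nat_lit 1],
  [nat_lit 0, nat_lit 6, nat_lit 1, nat_lit 16],
  [nat_lit 7, nat_lit 0, nat_lit 1],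
  [nat_lit 13, nat_lit 0],
  [nat_lit 0, nat_lit 1, nat_lit 0, nat_lit 1, nat_lit 13],
  [nat_lit 16, nat_lit 13],
  [nat_lit 0, nat_lit 1, nat_lit 13, nat_lit 16, nat_lit 1],
  [nat_lit 0],
  [nat_lit 1, nat_lit 0, nat_lit 1, nat_lit 16],
  [nat_lit 1],
  [nat_lit 1, nat_lit 16],
  [nat_lit 0, nat_lit 6, nat_lit 6],
  [nat_lit 0, nat_lit 1, nat_lit 16, nat_lit 1],
  [nat_lit 1, nat_lit 6, nat_lit 6],
  [nat_lit 0, nat_lit 16, nat_lit 14, nat_lit 6],
  [nat_lit 16, nat_lit 6],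
  [nat_lit 1, nat_lit 0, nat_lit 14],
  [nat_lit 6, nat_lit 0, nat_lit 1],
  [nat_lit 0, nat_lit 7, nat_lit 1, nat_lit 16],
  [nat_lit 0, nat_lit 6],
  [nat_lit 1, nat_lit 16, nat_lit 14],
  [nat_lit 0, nat_lit 12, nat_lit 1],
  [nat_lit 6, nat_lit 16, nat_lit 14],
  [nat_lit 16, nat_lit 7, nat_lit 1],
  [nat_lit 0, nat_lit 12, nat_lit 14],
  [nat_lit 16, nat_lit 6, nat_lit 1],
  [nat_lit 1, nat_lit 0, nat_lit 14, nat_lit 1],
  [nat_lit 0, nat_lit 14, nat_lit 1, nat_lit 16],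
  [nat_lit 7, nat_lit 12, nat_lit 13],
  [nat_lit 0, nat_lit 1, nat_lit 7],
  [nat_lit 16, nat_lit 14],
  [nat_lit 1, nat_lit 6, nat_lit 16, nat_lit 1],
  [nat_lit 6, nat_lit 12, nat_lit 13],
  [nat_lit 0, nat_lit 1, nat_lit 6],
  [nat_lit 0, nat_lit 1, nat_lit 16, nat_lit 7],
  [nat_lit 16, nat_lit 13, nat_lit 14],
  [nat_lit 0, nat_lit 1, nat_lit 7, nat_lit 13],
  [nat_lit 0, nat_lit 6, nat_lit 14, nat_lit 1],
  [nat_lit 1, nat_lit 7, nat_lit 14],
  [nat_lit 0, nat_lit 7, nat_lit 14, nat_lit 1],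
  [nat_lit 0, nat_lit 12, nat_lit 13],
  [nat_lit 1, nat_lit 7, nat_lit 0],
  [nat_lit 1, nat_lit 13, nat_lit 6],
  [nat_lit 13, nat_lit 0, nat_lit 14],
  [nat_lit 0, nat_lit 14, nat_lit 0],
  [nat_lit 13, nat_lit 14],
  [nat_lit 14, nat_lit 16],
  [nat_lit 0, nat_lit 7],
  [nat_lit 0, nat_lit 14, nat_lit 1, nat_lit 12],
  [nat_lit 0, nat_lit 13, nat_lit 0],
  [nat_lit 1, nat_lit 13, nat_lit 16, nat_lit 1],
  [nat_lit 0, nat_lit 16, nat_lit 13],
  [nat_lit 1, nat_lit 0, nat_lit 1, nat_lit 13],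
  [nat_lit 0, nat_lit 14, nat_lit 14],
  [nat_lit 0, nat_lit 12, nat_lit 13, nat_lit 0],
  [nat_lit 13, nat_lit 14, nat_lit 1, nat_lit 6],
  [nat_lit 0, nat_lit 12, nat_lit 16, nat_lit 13],
  [nat_lit 0, nat_lit 6, nat_lit 1, nat_lit 0],
  [nat_lit 7, nat_lit 16, nat_lit 1],
  [nat_lit 13, nat_lit 16],
  [nat_lit 0, nat_lit 1, nat_lit 16, nat_lit 1, nat_lit 13],
  [nat_lit 0, nat_lit 13],
  [nat_lit 12, nat_lit 14, nat_lit 14],
  [nat_lit 16],
  [nat_lit 0, nat_lit 14, nat_lit 6, nat_lit 1],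
  [nat_lit 0, nat_lit 13, nat_lit 13],
  [nat_lit 0, nat_lit 1, nat_lit 0, nat_lit 1],
  [nat_lit 6, nat_lit 16, nat_lit 1],
  [nat_lit 0, nat_lit 6, nat_lit 14, nat_lit 6],
  [nat_lit 16, nat_lit 1],
  [nat_lit 0, nat_lit 14, nat_lit 6],
  [nat_lit 0, nat_lit 1, nat_lit 0],
  [nat_lit 0, nat_lit 1, nat_lit 13, nat_lit 13],
  [nat_lit 0, nat_lit 1, nat_lit 16, nat_lit 13],
  [nat_lit 13, nat_lit 16, nat_lit 1],
  [nat_lit 0, nat_lit 1, nat_lit 13, nat_lit 0],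
  [nat_lit 0, nat_lit 1, nat_lit 13],
  [nat_lit 0, nat_lit 6, nat_lit 14, nat_lit 16],
  [nat_lit 16, nat_lit 6, nat_lit 14],
  [nat_lit 0, nat_lit 1, nat_lit 12, nat_lit 13],
  [nat_lit 14, nat_lit 14, nat_lit 1],
  [nat_lit 1, nat_lit 13, nat_lit 16],
  [nat_lit 14, nat_lit 0, nat_lit 7],
  [nat_lit 1, nat_lit 0, nat_lit 13],
  [nat_lit 14, nat_lit 0, nat_lit 6],
  [nat_lit 1, nat_lit 13, nat_lit 0],
  [nat_lit 14, nat_lit 16, nat_lit 7],
  [nat_lit 1, nat_lit 16, nat_lit 13],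
  [nat_lit 1, nat_lit 13],
  [nat_lit 0, nat_lit 1, nat_lit 0, nat_lit 13],
  [nat_lit 13, nat_lit 0, nat_lit 1],
  [nat_lit 0, nat_lit 1, nat_lit 13, nat_lit 16],
  [nat_lit 16, nat_lit 1, nat_lit 13],
  [nat_lit 0, nat_lit 1],
  [nat_lit 16, nat_lit 14, nat_lit 6],
  [nat_lit 0, nat_lit 1, nat_lit 16],
  [nat_lit 0, nat_lit 1, nat_lit 6, nat_lit 6],
  [nat_lit 0, nat_lit 6, nat_lit 14, nat_lit 0],
  [nat_lit 0, nat_lit 6, nat_lit 14],
  [nat_lit 0, nat_lit 7, nat_lit 14, nat_lit 0],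
  [nat_lit 0, nat_lit 7, nat_lit 14]]
noncomputable def v_W : Wl := [[nat_lit 6, nat_lit 6, nat_lit 12],
  [nat_lit 1, nat_lit 0, nat_lit 12, nat_lit 7],
  [nat_lit 0, nat_lit 12, nat_lit 16, nat_lit 14],
  [nat_lit 6, nat_lit 12, nat_lit 6],
  [nat_lit 1, nat_lit 0, nat_lit 7, nat_lit 12],
  [nat_lit 12, nat_lit 14],
  [nat_lit 13, nat_lit 14, nat_lit 14],
  [nat_lit 0, nat_lit 12, nat_lit 16],
  [nat_lit 6, nat_lit 14, nat_lit 6],
  [nat_lit 6, nat_lit 1, nat_lit 0],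
  [nat_lit 1, nat_lit 6, nat_lit 16, nat_lit 14],
  [nat_lit 12],
  [nat_lit 7, nat_lit 1, nat_lit 16],
  [nat_lit 6, nat_lit 1, nat_lit 16],
  [nat_lit 1, nat_lit 7, nat_lit 16, nat_lit 14],
  [nat_lit 1, nat_lit 0, nat_lit 7],
  [nat_lit 14],
  [],
  [nat_lit 6, nat_lit 6],
  [nat_lit 0, nat_lit 14, nat_lit 1, nat_lit 6],
  [nat_lit 1, nat_lit 16, nat_lit 7],
  [nat_lit 0, nat_lit 16, nat_lit 14],
  [nat_lit 0, nat_lit 16],
  [nat_lit 13, nat_lit 13],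
  [nat_lit 0, nat_lit 7, nat_lit 1],
  [nat_lit 0, nat_lit 6, nat_lit 1],
  [nat_lit 16, nat_lit 1, nat_lit 7],
  [nat_lit 16, nat_lit 1, nat_lit 6],
  [nat_lit 0, nat_lit 1, nat_lit 13, nat_lit 6],
  [nat_lit 1, nat_lit 0, nat_lit 7, nat_lit 14],
  [nat_lit 14, nat_lit 14],
  [nat_lit 1, nat_lit 7, nat_lit 16],
  [nat_lit 0, nat_lit 14, nat_lit 16],
  [nat_lit 1, nat_lit 6, nat_lit 16],
  [nat_lit 0, nat_lit 13, nat_lit 16],
  [nat_lit 13],
  [nat_lit 0, nat_lit 1, nat_lit 7, nat_lit 14],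
  [nat_lit 12, nat_lit 13],
  [nat_lit 7, nat_lit 0, nat_lit 1],
  [nat_lit 0, nat_lit 1, nat_lit 0, nat_lit 1, nat_lit 13],
  [nat_lit 0, nat_lit 1, nat_lit 13, nat_lit 16, nat_lit 1],
  [nat_lit 1, nat_lit 0, nat_lit 1, nat_lit 16],
  [nat_lit 0, nat_lit 1, nat_lit 16, nat_lit 1],
  [nat_lit 6, nat_lit 0, nat_lit 1],
  [nat_lit 16, nat_lit 7, nat_lit 1],
  [nat_lit 16, nat_lit 6, nat_lit 1],
  [nat_lit 0, nat_lit 1, nat_lit 7],
  [nat_lit 0, nat_lit 1, nat_lit 6],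
  [nat_lit 0, nat_lit 1, nat_lit 7, nat_lit 13],
  [nat_lit 0, nat_lit 6, nat_lit 14, nat_lit 1],
  [nat_lit 0, nat_lit 7, nat_lit 14, nat_lit 1],
  [nat_lit 1, nat_lit 7, nat_lit 0],
  [nat_lit 0, nat_lit 14, nat_lit 0],
  [nat_lit 13, nat_lit 14],
  [nat_lit 0, nat_lit 13, nat_lit 0],
  [nat_lit 0, nat_lit 16, nat_lit 13],
  [nat_lit 0, nat_lit 12, nat_lit 13, nat_lit 0],
  [nat_lit 0, nat_lit 12, nat_lit 16, nat_lit 13],
  [nat_lit 7, nat_lit 16, nat_lit 1],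
  [nat_lit 0, nat_lit 1, nat_lit 16, nat_lit 1, nat_lit 13],
  [nat_lit 12, nat_lit 14, nat_lit 14],
  [nat_lit 0, nat_lit 14, nat_lit 6, nat_lit 1],
  [nat_lit 0, nat_lit 1, nat_lit 0, nat_lit 1],
  [nat_lit 6, nat_lit 16, nat_lit 1]]
noncomputable def bM : Wl := [[nat_lit 9, nat_lit 10, nat_lit 11, nat_lit 10, nat_lit 8, nat_lit 10, nat_lit 11, nat_lit 10, nat_lit 8],
  [nat_lit 9, nat_lit 10, nat_lit 11, nat_lit 10, nat_lit 9, nat_lit 10, nat_lit 11, nat_lit 10, nat_lit 8],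
  [nat_lit 10, nat_lit 11, nat_lit 9, nat_lit 10, nat_lit 8, nat_lit 10, nat_lit 9, nat_lit 10, nat_lit 8, nat_lit 10, nat_lit 11, nat_lit 10, nat_lit 9, nat_lit 11, nat_lit 10, nat_lit 9, nat_lit 9, nat_lit 11],
  [nat_lit 9, nat_lit 10, nat_lit 11, nat_lit 10, nat_lit 9, nat_lit 9, nat_lit 10, nat_lit 11, nat_lit 10, nat_lit 9, nat_lit 11]]
noncomputable def bV : Wl := [[nat_lit 3, nat_lit 2, nat_lit 0, nat_lit 2, nat_lit 1, nat_lit 3, nat_lit 2, nat_lit 1, nat_lit 1, nat_lit 3, nat_lit 2, nat_lit 1, nat_lit 2, nat_lit 1, nat_lit 3, nat_lit 2, nat_lit 1],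
  [nat_lit 0, nat_lit 2, nat_lit 3, nat_lit 0, nat_lit 2, nat_lit 0, nat_lit 2, nat_lit 1, nat_lit 1, nat_lit 3, nat_lit 2, nat_lit 1, nat_lit 3, nat_lit 2, nat_lit 1, nat_lit 2, nat_lit 3],
  [nat_lit 2, nat_lit 1, nat_lit 1, nat_lit 2, nat_lit 0, nat_lit 2, nat_lit 3, nat_lit 2, nat_lit 1, nat_lit 2, nat_lit 1, nat_lit 1, nat_lit 2, nat_lit 3, nat_lit 2, nat_lit 1, nat_lit 1],
  [nat_lit 3, nat_lit 2, nat_lit 1, nat_lit 1, nat_lit 2, nat_lit 1, nat_lit 1, nat_lit 3, nat_lit 2, nat_lit 1, nat_lit 1, nat_lit 2, nat_lit 0, nat_lit 2, nat_lit 3, nat_lit 2, nat_lit 1]]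
noncomputable def tU : Wl := [[nat_lit 0],
  [nat_lit 1],
  [nat_lit 2],
  [nat_lit 3],
  [],
  [],
  [nat_lit 6],
  [nat_lit 7]]
noncomputable def tV : Wl := [[nat_lit 1],
  [nat_lit 0],
  [nat_lit 3],
  [nat_lit 2],
  [],
  [],
  [nat_lit 6],
  [nat_lit 7]]
noncomputable def i1_W : Wl := [[],
  [nat_lit 6, nat_lit 6],
  [nat_lit 0, nat_lit 16],
  [nat_lit 13, nat_lit 13],
  [nat_lit 0, nat_lit 13, nat_lit 16],
  [nat_lit 13],
  [nat_lit 0, nat_lit 13, nat_lit 0],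
  [nat_lit 0, nat_lit 16, nat_lit 13]]
noncomputable def s1_L : List (List ℕ × ℕ) := [([], (nat_lit 1)), ([], (nat_lit 0)), ([nat_lit 7], (nat_lit 0)), ([nat_lit 7], (nat_lit 1))]
noncomputable def i20_W : Wl := [[nat_lit 6, nat_lit 6, nat_lit 12],
  [nat_lit 6, nat_lit 12, nat_lit 6],
  [nat_lit 0, nat_lit 12, nat_lit 16],
  [nat_lit 12],
  [],
  [nat_lit 6, nat_lit 6],
  [nat_lit 0, nat_lit 16],
  [nat_lit 13, nat_lit 13]]
noncomputable def s20_L : List (List ℕ × ℕ) := [([], (nat_lit 1)), ([nat_lit 1], (nat_lit 1)), ([nat_lit 1], (nat_lit 0)), ([], (nat_lit 0))]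
noncomputable def i300_W : Wl := [[nat_lit 1, nat_lit 0, nat_lit 7],
  [nat_lit 14],
  [nat_lit 1, nat_lit 16, nat_lit 7],
  [nat_lit 0, nat_lit 16, nat_lit 14],
  [nat_lit 16, nat_lit 1, nat_lit 7],
  [nat_lit 16, nat_lit 1, nat_lit 6],
  [nat_lit 0, nat_lit 1, nat_lit 7],
  [nat_lit 0, nat_lit 1, nat_lit 6]]
noncomputable def s300_L : List (List ℕ × ℕ) := [([], (nat_lit 2)), ([], (nat_lit 1)), ([], (nat_lit 3)), ([], (nat_lit 4)), ([], (nat_lit 5)), ([], (nat_lit 6)), ([], (nat_lit 7)), ([], (nat_lit 0))]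
noncomputable def s4_L : List (List ℕ × ℕ) := [([nat_lit 14, nat_lit 14], (nat_lit 1)), ([nat_lit 12, nat_lit 14, nat_lit 14], (nat_lit 1)), ([], (nat_lit 1)), ([nat_lit 12], (nat_lit 1)), ([nat_lit 12, nat_lit 14], (nat_lit 0)), ([nat_lit 14], (nat_lit 0)), ([nat_lit 16, nat_lit 1, nat_lit 7], (nat_lit 0)), ([nat_lit 12, nat_lit 14, nat_lit 14], (nat_lit 0)), ([], (nat_lit 0)), ([nat_lit 14, nat_lit 14], (nat_lit 0)), ([nat_lit 12], (nat_lit 0)), ([nat_lit 0, nat_lit 7, nat_lit 1], (nat_lit 0)), ([nat_lit 12, nat_lit 14], (nat_lit 1)), ([nat_lit 0, nat_lit 7, nat_lit 1], (nat_lit 1)), ([nat_lit 14], (nat_lit 1)), ([nat_lit 16, nat_lit 1, nat_lit 7], (nat_lit 1))]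
noncomputable def s50_L : List (List ℕ × ℕ) := [([], (nat_lit 2)), ([], (nat_lit 3)), ([], (nat_lit 0)), ([nat_lit 13], (nat_lit 1)), ([nat_lit 13], (nat_lit 3)), ([nat_lit 13], (nat_lit 2)), ([], (nat_lit 1)), ([nat_lit 13], (nat_lit 0))]
noncomputable def c00_L : List (List ℕ × List ℕ × List ℕ) := [([nat_lit 0], [nat_lit 1], [nat_lit 1, nat_lit 5]), ([nat_lit 1], [nat_lit 0], [nat_lit 0]), ([nat_lit 2], [nat_lit 0, nat_lit 16], [nat_lit 6]), ([nat_lit 3], [nat_lit 13, nat_lit 13], [nat_lit 5]), ([], [], []), ([], [], []), ([nat_lit 6], [nat_lit 6], [nat_lit 1, nat_lit 0, nat_lit 2, nat_lit 5]), ([nat_lit 7], [nat_lit 7], [nat_lit 0, nat_lit 2, nat_lit 1, nat_lit 3])]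
noncomputable def w01_P : Wl := [[nat_lit 3],
  [nat_lit 2],
  [nat_lit 0],
  [nat_lit 1],
  [nat_lit 6],
  [nat_lit 6, nat_lit 6],
  [nat_lit 16],
  [nat_lit 1, nat_lit 0, nat_lit 14],
  [nat_lit 0, nat_lit 16, nat_lit 6],
  [nat_lit 14, nat_lit 0, nat_lit 6],
  [nat_lit 1, nat_lit 13, nat_lit 13],
  [nat_lit 0, nat_lit 14, nat_lit 1, nat_lit 12],
  [nat_lit 7],
  [nat_lit 1, nat_lit 13],
  [nat_lit 14, nat_lit 16, nat_lit 14],
  [nat_lit 14, nat_lit 6, nat_lit 14],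
  [nat_lit 1, nat_lit 6, nat_lit 6],
  [nat_lit 0, nat_lit 16, nat_lit 7],
  [nat_lit 14, nat_lit 16, nat_lit 7],
  [nat_lit 12, nat_lit 16],
  [nat_lit 14, nat_lit 0, nat_lit 14],
  [nat_lit 1, nat_lit 16, nat_lit 14],
  [nat_lit 0, nat_lit 13, nat_lit 13],
  [nat_lit 14, nat_lit 0, nat_lit 7],
  [nat_lit 0, nat_lit 16, nat_lit 1],
  [nat_lit 0, nat_lit 6, nat_lit 6],
  [nat_lit 0, nat_lit 12]]
noncomputable def w01_T : Wl := [[],
  [],
  [],
  [],
  [],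
  [nat_lit 1, nat_lit 0, nat_lit 3, nat_lit 6, nat_lit 8, nat_lit 5, nat_lit 10, nat_lit 11, nat_lit 12, nat_lit 14, nat_lit 2, nat_lit 15, nat_lit 17, nat_lit 19, nat_lit 18, nat_lit 21, nat_lit 22, nat_lit 4, nat_lit 20, nat_lit 23, nat_lit 9, nat_lit 7, nat_lit 24, nat_lit 26, nat_lit 25, nat_lit 16, nat_lit 13],
  [],
  [],
  [],
  [],
  [],
  [],
  [],
  [],
  [],
  [],
  [],
  [],
  [nat_lit 0, nat_lit 5, nat_lit 2, nat_lit 7, nat_lit 9, nat_lit 1, nat_lit 6, nat_lit 3, nat_lit 13, nat_lit 4, nat_lit 15, nat_lit 16, nat_lit 18, nat_lit 8, nat_lit 20, nat_lit 10, nat_lit 11, nat_lit 23, nat_lit 12, nat_lit 19, nat_lit 14, nat_lit 24, nat_lit 25, nat_lit 17, nat_lit 21, nat_lit 22, nat_lit 26]]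
noncomputable def w01_J5 : Wl := [[nat_lit 5],
  [nat_lit 6],
  [nat_lit 1, nat_lit 5],
  [nat_lit 0],
  [nat_lit 1, nat_lit 0, nat_lit 2, nat_lit 5],
  [nat_lit 5, nat_lit 6],
  [nat_lit 1],
  [nat_lit 0, nat_lit 1, nat_lit 2, nat_lit 5],
  [nat_lit 1, nat_lit 0, nat_lit 2],
  [nat_lit 0, nat_lit 3, nat_lit 5],
  [nat_lit 0, nat_lit 6],
  [nat_lit 1, nat_lit 2, nat_lit 4, nat_lit 0],
  [nat_lit 0, nat_lit 2, nat_lit 1, nat_lit 3],
  [nat_lit 0, nat_lit 3],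
  [nat_lit 1, nat_lit 4, nat_lit 6],
  [nat_lit 0, nat_lit 1, nat_lit 2, nat_lit 6],
  [nat_lit 0, nat_lit 5, nat_lit 6],
  [nat_lit 0, nat_lit 2, nat_lit 1, nat_lit 3, nat_lit 5],
  [nat_lit 0, nat_lit 3, nat_lit 5, nat_lit 6],
  [nat_lit 1, nat_lit 4],
  [nat_lit 1, nat_lit 4, nat_lit 5, nat_lit 6],
  [nat_lit 0, nat_lit 1, nat_lit 2],
  [nat_lit 1, nat_lit 5, nat_lit 6],
  [nat_lit 0, nat_lit 3, nat_lit 6],
  [nat_lit 0, nat_lit 5],
  [nat_lit 1, nat_lit 6],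
  [nat_lit 1, nat_lit 4, nat_lit 5]]
noncomputable def w02_P : Wl := [[nat_lit 3],
  [nat_lit 2],
  [nat_lit 0],
  [nat_lit 1],
  [nat_lit 6],
  [nat_lit 13, nat_lit 0],
  [nat_lit 13, nat_lit 6],
  [nat_lit 12, nat_lit 1],
  [nat_lit 7, nat_lit 12, nat_lit 13],
  [nat_lit 0, nat_lit 13, nat_lit 13],
  [nat_lit 7, nat_lit 12],
  [nat_lit 0, nat_lit 16, nat_lit 1],
  [nat_lit 7],
  [nat_lit 0, nat_lit 13],
  [nat_lit 13, nat_lit 7],
  [nat_lit 1, nat_lit 12],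
  [nat_lit 6, nat_lit 12, nat_lit 13],
  [nat_lit 6, nat_lit 12]]
noncomputable def w02_T : Wl := [[],
  [],
  [],
  [],
  [],
  [nat_lit 1, nat_lit 0, nat_lit 3, nat_lit 5, nat_lit 6, nat_lit 7, nat_lit 8, nat_lit 9, nat_lit 10, nat_lit 11, nat_lit 12, nat_lit 13, nat_lit 14, nat_lit 15, nat_lit 16, nat_lit 2, nat_lit 17, nat_lit 4]]
noncomputable def w02_J5 : Wl := [[nat_lit 5],
  [nat_lit 6],
  [nat_lit 1, nat_lit 5],
  [nat_lit 0],
  [nat_lit 1, nat_lit 0, nat_lit 2, nat_lit 5],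
  [nat_lit 3, nat_lit 1, nat_lit 5],
  [nat_lit 0, nat_lit 2, nat_lit 1, nat_lit 5, nat_lit 6],
  [nat_lit 4, nat_lit 0],
  [nat_lit 2, nat_lit 1, nat_lit 0, nat_lit 6],
  [nat_lit 1, nat_lit 5, nat_lit 6],
  [nat_lit 2, nat_lit 1, nat_lit 0, nat_lit 3],
  [nat_lit 0, nat_lit 5],
  [nat_lit 0, nat_lit 2, nat_lit 1, nat_lit 3],
  [nat_lit 1, nat_lit 3, nat_lit 5],
  [nat_lit 0, nat_lit 2, nat_lit 1],
  [nat_lit 0, nat_lit 4],
  [nat_lit 2, nat_lit 1, nat_lit 0, nat_lit 5],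
  [nat_lit 1, nat_lit 4, nat_lit 0, nat_lit 2]]
noncomputable def w03_P : Wl := [[nat_lit 3],
  [nat_lit 2],
  [nat_lit 0],
  [nat_lit 1],
  [nat_lit 6],
  [nat_lit 16, nat_lit 13],
  [nat_lit 13, nat_lit 7],
  [nat_lit 6, nat_lit 1, nat_lit 6],
  [nat_lit 7, nat_lit 12, nat_lit 13],
  [nat_lit 0, nat_lit 13, nat_lit 13],
  [nat_lit 6, nat_lit 12],
  [nat_lit 0, nat_lit 16, nat_lit 1],
  [nat_lit 7],
  [nat_lit 13, nat_lit 16],
  [nat_lit 13, nat_lit 6],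
  [nat_lit 1, nat_lit 6, nat_lit 6, nat_lit 12],
  [nat_lit 6, nat_lit 12, nat_lit 13],
  [nat_lit 7, nat_lit 12]]
noncomputable def w03_T : Wl := [[],
  [],
  [],
  [],
  [],
  [nat_lit 1, nat_lit 0, nat_lit 3, nat_lit 5, nat_lit 6, nat_lit 7, nat_lit 8, nat_lit 9, nat_lit 10, nat_lit 11, nat_lit 12, nat_lit 13, nat_lit 14, nat_lit 15, nat_lit 16, nat_lit 2, nat_lit 17, nat_lit 4]]
noncomputable def w03_J5 : Wl := [[nat_lit 5],
  [nat_lit 6],
  [nat_lit 1, nat_lit 5],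
  [nat_lit 0],
  [nat_lit 1, nat_lit 0, nat_lit 2, nat_lit 5],
  [nat_lit 1, nat_lit 3],
  [nat_lit 0, nat_lit 2, nat_lit 1],
  [nat_lit 0, nat_lit 4, nat_lit 6],
  [nat_lit 2, nat_lit 1, nat_lit 0, nat_lit 6],
  [nat_lit 1, nat_lit 5, nat_lit 6],
  [nat_lit 1, nat_lit 4, nat_lit 0, nat_lit 2],
  [nat_lit 0, nat_lit 5],
  [nat_lit 0, nat_lit 2, nat_lit 1, nat_lit 3],
  [nat_lit 3, nat_lit 1],
  [nat_lit 0, nat_lit 2, nat_lit 1, nat_lit 5, nat_lit 6],
  [nat_lit 4, nat_lit 0, nat_lit 6],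
  [nat_lit 2, nat_lit 1, nat_lit 0, nat_lit 5],
  [nat_lit 2, nat_lit 1, nat_lit 0, nat_lit 3]]
noncomputable def s51_L : List (List ℕ × ℕ) := [([], (nat_lit 2)), ([], (nat_lit 3)), ([], (nat_lit 0)), ([nat_lit 13], (nat_lit 1)), ([nat_lit 13], (nat_lit 3)), ([nat_lit 13], (nat_lit 2)), ([], (nat_lit 1)), ([nat_lit 13], (nat_lit 0))]
noncomputable def w10_P : Wl := [[nat_lit 3],
  [nat_lit 2],
  [nat_lit 0],
  [nat_lit 1],
  [nat_lit 6],
  [nat_lit 6, nat_lit 1, nat_lit 6],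
  [nat_lit 12, nat_lit 7],
  [nat_lit 16, nat_lit 13],
  [nat_lit 7, nat_lit 12, nat_lit 13],
  [nat_lit 0, nat_lit 16, nat_lit 1],
  [nat_lit 6, nat_lit 13],
  [nat_lit 0, nat_lit 13, nat_lit 13],
  [nat_lit 7],
  [nat_lit 1, nat_lit 6, nat_lit 6, nat_lit 12],
  [nat_lit 12, nat_lit 6],
  [nat_lit 13, nat_lit 16],
  [nat_lit 6, nat_lit 12, nat_lit 13],
  [nat_lit 7, nat_lit 13]]
noncomputable def w10_T : Wl := [[],
  [],
  [],
  [],
  [],
  [nat_lit 1, nat_lit 0, nat_lit 5, nat_lit 2, nat_lit 6, nat_lit 7, nat_lit 8, nat_lit 9, nat_lit 10, nat_lit 11, nat_lit 12, nat_lit 13, nat_lit 14, nat_lit 15, nat_lit 16, nat_lit 3, nat_lit 17, nat_lit 4]]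
noncomputable def w10_J5 : Wl := [[nat_lit 5],
  [nat_lit 6],
  [nat_lit 1, nat_lit 5],
  [nat_lit 0],
  [nat_lit 1, nat_lit 0, nat_lit 2, nat_lit 5],
  [nat_lit 0, nat_lit 4, nat_lit 6],
  [nat_lit 1, nat_lit 4, nat_lit 0, nat_lit 2, nat_lit 6],
  [nat_lit 1, nat_lit 3],
  [nat_lit 2, nat_lit 1, nat_lit 0, nat_lit 6],
  [nat_lit 0, nat_lit 5],
  [nat_lit 0, nat_lit 2, nat_lit 1, nat_lit 5],
  [nat_lit 1, nat_lit 5, nat_lit 6],
  [nat_lit 0, nat_lit 2, nat_lit 1, nat_lit 3],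
  [nat_lit 4, nat_lit 0, nat_lit 6],
  [nat_lit 1, nat_lit 0, nat_lit 2, nat_lit 4],
  [nat_lit 3, nat_lit 1],
  [nat_lit 2, nat_lit 1, nat_lit 0, nat_lit 5],
  [nat_lit 0, nat_lit 2, nat_lit 1, nat_lit 6]]
noncomputable def w11_P : Wl := [[nat_lit 3],
  [nat_lit 2],
  [nat_lit 0],
  [nat_lit 1],
  [nat_lit 6],
  [nat_lit 6, nat_lit 1, nat_lit 6],
  [nat_lit 16],
  [nat_lit 7, nat_lit 12],
  [nat_lit 0, nat_lit 13],
  [nat_lit 1, nat_lit 12],
  [nat_lit 6, nat_lit 12, nat_lit 13],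
  [nat_lit 1, nat_lit 6, nat_lit 6],
  [nat_lit 16, nat_lit 13],
  [nat_lit 13, nat_lit 6],
  [nat_lit 0, nat_lit 13, nat_lit 13],
  [nat_lit 0, nat_lit 16, nat_lit 1],
  [nat_lit 7],
  [nat_lit 1, nat_lit 6, nat_lit 6, nat_lit 12],
  [nat_lit 0, nat_lit 6, nat_lit 6],
  [nat_lit 6, nat_lit 12],
  [nat_lit 13, nat_lit 0],
  [nat_lit 12, nat_lit 1],
  [nat_lit 7, nat_lit 12, nat_lit 13],
  [nat_lit 1, nat_lit 13, nat_lit 13],
  [nat_lit 13, nat_lit 16],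
  [nat_lit 13, nat_lit 7]]
noncomputable def w11_T : Wl := [[],
  [],
  [],
  [],
  [],
  [nat_lit 1, nat_lit 0, nat_lit 5, nat_lit 6, nat_lit 7, nat_lit 8, nat_lit 9, nat_lit 10, nat_lit 11, nat_lit 12, nat_lit 13, nat_lit 14, nat_lit 15, nat_lit 16, nat_lit 17, nat_lit 18, nat_lit 19, nat_lit 20, nat_lit 21, nat_lit 22, nat_lit 23, nat_lit 24, nat_lit 25, nat_lit 2, nat_lit 3, nat_lit 4]]
noncomputable def w11_J5 : Wl := [[nat_lit 5],
  [nat_lit 6],
  [nat_lit 1, nat_lit 5],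
  [nat_lit 0],
  [nat_lit 1, nat_lit 0, nat_lit 2, nat_lit 5],
  [nat_lit 0, nat_lit 4, nat_lit 6],
  [nat_lit 1],
  [nat_lit 2, nat_lit 1, nat_lit 0, nat_lit 3],
  [nat_lit 1, nat_lit 3, nat_lit 5],
  [nat_lit 0, nat_lit 4],
  [nat_lit 2, nat_lit 1, nat_lit 0, nat_lit 5],
  [nat_lit 0, nat_lit 5, nat_lit 6],
  [nat_lit 1, nat_lit 3],
  [nat_lit 0, nat_lit 2, nat_lit 1, nat_lit 5, nat_lit 6],
  [nat_lit 1, nat_lit 5, nat_lit 6],
  [nat_lit 0, nat_lit 5],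
  [nat_lit 0, nat_lit 2, nat_lit 1, nat_lit 3],
  [nat_lit 4, nat_lit 0, nat_lit 6],
  [nat_lit 1, nat_lit 6],
  [nat_lit 1, nat_lit 4, nat_lit 0, nat_lit 2],
  [nat_lit 3, nat_lit 1, nat_lit 5],
  [nat_lit 4, nat_lit 0],
  [nat_lit 2, nat_lit 1, nat_lit 0, nat_lit 6],
  [nat_lit 0, nat_lit 6],
  [nat_lit 3, nat_lit 1],
  [nat_lit 0, nat_lit 2, nat_lit 1]]
noncomputable def w12_P : Wl := [[nat_lit 3],
  [nat_lit 2],
  [nat_lit 0],
  [nat_lit 1],
  [nat_lit 6],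
  [nat_lit 6, nat_lit 6],
  [nat_lit 6, nat_lit 1, nat_lit 6],
  [nat_lit 13, nat_lit 0],
  [nat_lit 1, nat_lit 0, nat_lit 14],
  [nat_lit 6, nat_lit 12, nat_lit 13],
  [nat_lit 14, nat_lit 0, nat_lit 6],
  [nat_lit 16],
  [nat_lit 0, nat_lit 14, nat_lit 1],
  [nat_lit 1, nat_lit 13, nat_lit 13],
  [nat_lit 14, nat_lit 1, nat_lit 12, nat_lit 6],
  [nat_lit 7, nat_lit 14, nat_lit 14],
  [nat_lit 7],
  [nat_lit 0, nat_lit 7, nat_lit 14],
  [nat_lit 0, nat_lit 12, nat_lit 13],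
  [nat_lit 1, nat_lit 12],
  [nat_lit 16, nat_lit 14, nat_lit 1],
  [nat_lit 13, nat_lit 16],
  [nat_lit 14, nat_lit 6, nat_lit 14],
  [nat_lit 6, nat_lit 16, nat_lit 14],
  [nat_lit 7, nat_lit 16, nat_lit 14],
  [nat_lit 7, nat_lit 12, nat_lit 13],
  [nat_lit 14, nat_lit 16, nat_lit 7],
  [nat_lit 6, nat_lit 13, nat_lit 14, nat_lit 1],
  [nat_lit 14, nat_lit 1, nat_lit 7],
  [nat_lit 1, nat_lit 0, nat_lit 12, nat_lit 14],
  [nat_lit 1, nat_lit 6, nat_lit 6, nat_lit 12],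
  [nat_lit 14, nat_lit 6, nat_lit 1],
  [nat_lit 6, nat_lit 14, nat_lit 14],
  [nat_lit 14, nat_lit 1, nat_lit 16],
  [nat_lit 1, nat_lit 0, nat_lit 1],
  [nat_lit 16, nat_lit 6, nat_lit 14],
  [nat_lit 12, nat_lit 16, nat_lit 13],
  [nat_lit 1, nat_lit 7, nat_lit 14],
  [nat_lit 0, nat_lit 6, nat_lit 14],
  [nat_lit 1, nat_lit 12, nat_lit 16, nat_lit 14],
  [nat_lit 0, nat_lit 6, nat_lit 6],
  [nat_lit 7, nat_lit 0, nat_lit 14],
  [nat_lit 6, nat_lit 0, nat_lit 14],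
  [nat_lit 0, nat_lit 14, nat_lit 1, nat_lit 12],
  [nat_lit 16, nat_lit 13],
  [nat_lit 14, nat_lit 1, nat_lit 6],
  [nat_lit 1, nat_lit 0, nat_lit 1, nat_lit 12],
  [nat_lit 1, nat_lit 13],
  [nat_lit 12, nat_lit 7, nat_lit 13],
  [nat_lit 12, nat_lit 1],
  [nat_lit 0, nat_lit 13, nat_lit 13],
  [nat_lit 16, nat_lit 13, nat_lit 14, nat_lit 1],
  [nat_lit 1, nat_lit 16, nat_lit 1],
  [nat_lit 1, nat_lit 6, nat_lit 6],
  [nat_lit 0, nat_lit 16, nat_lit 1],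
  [nat_lit 12, nat_lit 13, nat_lit 0],
  [nat_lit 14, nat_lit 14, nat_lit 1],
  [nat_lit 0, nat_lit 16, nat_lit 6],
  [nat_lit 0, nat_lit 16, nat_lit 7],
  [nat_lit 1, nat_lit 16, nat_lit 14],
  [nat_lit 0, nat_lit 13],
  [nat_lit 14, nat_lit 0, nat_lit 7],
  [nat_lit 12, nat_lit 6, nat_lit 13]]
noncomputable def w12_T : Wl := [[],
  [],
  [],
  [],
  [],
  [nat_lit 1, nat_lit 0, nat_lit 6, nat_lit 7, nat_lit 9, nat_lit 5, nat_lit 11, nat_lit 13, nat_lit 15, nat_lit 16, nat_lit 18, nat_lit 19, nat_lit 20, nat_lit 21, nat_lit 23, nat_lit 22, nat_lit 25, nat_lit 27, nat_lit 26, nat_lit 2, nat_lit 29, nat_lit 3, nat_lit 32, nat_lit 31, nat_lit 34, nat_lit 4, nat_lit 36, nat_lit 35, nat_lit 38, nat_lit 39, nat_lit 40, nat_lit 41, nat_lit 8, nat_lit 43, nat_lit 42, nat_lit 45, nat_lit 10, nat_lit 47, nat_lit 46, nat_lit 12, nat_lit 49, nat_lit 14, nat_lit 52, nat_lit 51, nat_lit 54, nat_lit 17, nat_lit 56,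 nat_lit 55, nat_lit 58, nat_lit 50, nat_lit 30, nat_lit 59, nat_lit 24, nat_lit 44, nat_lit 60, nat_lit 61, nat_lit 28, nat_lit 48, nat_lit 62, nat_lit 33, nat_lit 53, nat_lit 37, nat_lit 57],
  [],
  [],
  [],
  [],
  [],
  [],
  [],
  [],
  [],
  [],
  [],
  [],
  [nat_lit 0, nat_lit 5, nat_lit 2, nat_lit 8, nat_lit 10, nat_lit 1, nat_lit 12, nat_lit 14, nat_lit 3, nat_lit 17, nat_lit 4, nat_lit 11, nat_lit 6, nat_lit 22, nat_lit 7, nat_lit 24, nat_lit 26, nat_lit 9, nat_lit 28, nat_lit 29, nat_lit 30, nat_lit 31, nat_lit 13, nat_lit 33, nat_lit 15, nat_lit 35, nat_lit 16, nat_lit 37, nat_lit 18, nat_lit 19, nat_lit 20, nat_lit 21, nat_lit 42, nat_lit 23, nat_lit 44, nat_lit 25, nat_lit 46, nat_lit 27, nat_lit 48, nat_lit 49, nat_lit 50, nat_lit 51, nat_lit 32, nat_lit 53, nat_lit 34, nat_lit 55, nat_lit 36, nat_lit 57, nat_lit 38, nat_lit 39, nat_lit 40, nat_lit 41, nat_lit 60, nat_lit 43, nat_lit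 59, nat_lit 45, nat_lit 62, nat_lit 47, nat_lit 61, nat_lit 54, nat_lit 52, nat_lit 58, nat_lit 56]]
noncomputable def w12_J5 : Wl := [[nat_lit 5],
  [nat_lit 6],
  [nat_lit 1, nat_lit 5],
  [nat_lit 0],
  [nat_lit 1, nat_lit 0, nat_lit 2, nat_lit 5],
  [nat_lit 5, nat_lit 6],
  [nat_lit 0, nat_lit 4, nat_lit 6],
  [nat_lit 3, nat_lit 1, nat_lit 5],
  [nat_lit 0, nat_lit 1, nat_lit 2, nat_lit 5],
  [nat_lit 2, nat_lit 1, nat_lit 0, nat_lit 5],
  [nat_lit 0, nat_lit 3, nat_lit 5],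
  [nat_lit 1],
  [nat_lit 1, nat_lit 2, nat_lit 0, nat_lit 5],
  [nat_lit 0, nat_lit 6],
  [nat_lit 0, nat_lit 1, nat_lit 0, nat_lit 5, nat_lit 6],
  [nat_lit 2, nat_lit 0, nat_lit 1, nat_lit 6],
  [nat_lit 0, nat_lit 2, nat_lit 1, nat_lit 3],
  [nat_lit 2, nat_lit 2, nat_lit 0, nat_lit 5],
  [nat_lit 1, nat_lit 3, nat_lit 4, nat_lit 5],
  [nat_lit 0, nat_lit 4],
  [nat_lit 1, nat_lit 2, nat_lit 0],
  [nat_lit 3, nat_lit 1],
  [nat_lit 0, nat_lit 1, nat_lit 2, nat_lit 6],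
  [nat_lit 0, nat_lit 2, nat_lit 2, nat_lit 3, nat_lit 5],
  [nat_lit 1, nat_lit 0, nat_lit 1, nat_lit 4],
  [nat_lit 2, nat_lit 1, nat_lit 0, nat_lit 6],
  [nat_lit 0, nat_lit 3, nat_lit 5, nat_lit 6],
  [nat_lit 2, nat_lit 2, nat_lit 3, nat_lit 1],
  [nat_lit 0, nat_lit 1, nat_lit 0, nat_lit 4],
  [nat_lit 1, nat_lit 2, nat_lit 0, nat_lit 6],
  [nat_lit 4, nat_lit 0, nat_lit 6],
  [nat_lit 0, nat_lit 1, nat_lit 0, nat_lit 6],
  [nat_lit 2, nat_lit 0, nat_lit 1, nat_lit 5],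
  [nat_lit 2, nat_lit 0, nat_lit 1],
  [nat_lit 0, nat_lit 1, nat_lit 0, nat_lit 5],
  [nat_lit 0, nat_lit 2, nat_lit 2, nat_lit 5],
  [nat_lit 1, nat_lit 3, nat_lit 4],
  [nat_lit 3, nat_lit 1, nat_lit 4],
  [nat_lit 0, nat_lit 2, nat_lit 2],
  [nat_lit 0, nat_lit 1, nat_lit 2, nat_lit 4],
  [nat_lit 1, nat_lit 6],
  [nat_lit 1, nat_lit 4, nat_lit 0, nat_lit 1],
  [nat_lit 0, nat_lit 2, nat_lit 2, nat_lit 3],
  [nat_lit 1, nat_lit 2, nat_lit 4, nat_lit 0],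
  [nat_lit 1, nat_lit 3],
  [nat_lit 3, nat_lit 1, nat_lit 2, nat_lit 2],
  [nat_lit 0, nat_lit 1, nat_lit 4, nat_lit 0],
  [nat_lit 0, nat_lit 3],
  [nat_lit 0, nat_lit 1, nat_lit 2, nat_lit 2, nat_lit 2],
  [nat_lit 4, nat_lit 0],
  [nat_lit 1, nat_lit 5, nat_lit 6],
  [nat_lit 1, nat_lit 2, nat_lit 0, nat_lit 3],
  [nat_lit 0, nat_lit 1, nat_lit 0],
  [nat_lit 0, nat_lit 5, nat_lit 6],
  [nat_lit 0, nat_lit 5],
  [nat_lit 3, nat_lit 1, nat_lit 4, nat_lit 5],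
  [nat_lit 2, nat_lit 2, nat_lit 0],
  [nat_lit 1, nat_lit 0, nat_lit 2],
  [nat_lit 0, nat_lit 2, nat_lit 1, nat_lit 3, nat_lit 5],
  [nat_lit 0, nat_lit 1, nat_lit 2],
  [nat_lit 1, nat_lit 3, nat_lit 5],
  [nat_lit 0, nat_lit 3, nat_lit 6],
  [nat_lit 2, nat_lit 1, nat_lit 0]]
noncomputable def c13_L : List (List ℕ × List ℕ × List ℕ) := [([nat_lit 0, nat_lit 12, nat_lit 14, nat_lit 14], [nat_lit 16, nat_lit 14, nat_lit 6], [nat_lit 2, nat_lit 2, nat_lit 1, nat_lit 4]), ([nat_lit 1], [nat_lit 16, nat_lit 13], [nat_lit 0]), ([nat_lit 13, nat_lit 13], [nat_lit 0, nat_lit 16], [nat_lit 6]), ([nat_lit 0, nat_lit 16], [nat_lit 13, nat_lit 13], [nat_lit 5]), ([], [], []), ([], [], []), ([nat_lit 6], [nat_lit 7, nat_lit 12, nat_lit 13], [nat_lit 1, nat_lit 0, nat_lit 2, nat_lit 5]), ([nat_lit 7], [nat_lit 6, nat_lit 12, nat_lit 13], [nat_lit 0, nat_lit 2, nat_lit 1, nat_lit 3])]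
noncomputable def v001_P : Wl := [[nat_lit 3],
  [nat_lit 2],
  [nat_lit 15],
  [nat_lit 12],
  [nat_lit 13],
  [nat_lit 14],
  [nat_lit 6, nat_lit 6],
  [nat_lit 0, nat_lit 7, nat_lit 14, nat_lit 1],
  [nat_lit 0, nat_lit 1, nat_lit 16, nat_lit 1],
  [nat_lit 1, nat_lit 0, nat_lit 7, nat_lit 12],
  [nat_lit 0, nat_lit 6, nat_lit 14, nat_lit 1],
  [nat_lit 1, nat_lit 0, nat_lit 1, nat_lit 16],
  [nat_lit 1, nat_lit 7, nat_lit 0],
  [nat_lit 0, nat_lit 13, nat_lit 0],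
  [nat_lit 0, nat_lit 6, nat_lit 1],
  [nat_lit 0, nat_lit 12, nat_lit 16],
  [nat_lit 0, nat_lit 14, nat_lit 0],
  [nat_lit 7, nat_lit 0, nat_lit 1]]
noncomputable def v001_T : Wl := [[],
  [],
  [],
  [],
  [],
  [nat_lit 1, nat_lit 0, nat_lit 2, nat_lit 4, nat_lit 3, nat_lit 5, nat_lit 6, nat_lit 10, nat_lit 11, nat_lit 12, nat_lit 7, nat_lit 8, nat_lit 9, nat_lit 15, nat_lit 16, nat_lit 13, nat_lit 14, nat_lit 17],
  [],
  [],
  [],
  [],
  [],
  [],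
  [],
  [],
  [],
  [],
  [],
  [],
  [nat_lit 0, nat_lit 6, nat_lit 7, nat_lit 3, nat_lit 8, nat_lit 9, nat_lit 1, nat_lit 2, nat_lit 4, nat_lit 5, nat_lit 10, nat_lit 13, nat_lit 14, nat_lit 11, nat_lit 12, nat_lit 15, nat_lit 17, nat_lit 16]]
noncomputable def v001_J5 : Wl := [[nat_lit 3],
  [nat_lit 4],
  [nat_lit 0, nat_lit 0],
  [nat_lit 2],
  [nat_lit 1],
  [nat_lit 0],
  [nat_lit 3, nat_lit 4],
  [nat_lit 0, nat_lit 0, nat_lit 3],
  [nat_lit 0, nat_lit 0, nat_lit 1, nat_lit 2, nat_lit 3],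
  [nat_lit 0, nat_lit 2, nat_lit 3, nat_lit 4],
  [nat_lit 0, nat_lit 0, nat_lit 4],
  [nat_lit 0, nat_lit 0, nat_lit 1, nat_lit 2, nat_lit 4],
  [nat_lit 0, nat_lit 1, nat_lit 3, nat_lit 4],
  [nat_lit 1, nat_lit 4],
  [nat_lit 0, nat_lit 0, nat_lit 0, nat_lit 1, nat_lit 3],
  [nat_lit 2, nat_lit 3],
  [nat_lit 0, nat_lit 0, nat_lit 0, nat_lit 2, nat_lit 4],
  [nat_lit 0, nat_lit 0, nat_lit 0]]
noncomputable def v002_P : Wl := [[nat_lit 3],
  [nat_lit 2],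
  [nat_lit 15],
  [nat_lit 12],
  [nat_lit 13],
  [nat_lit 14],
  [nat_lit 6, nat_lit 6],
  [nat_lit 0, nat_lit 7, nat_lit 14, nat_lit 1],
  [nat_lit 0, nat_lit 1, nat_lit 16, nat_lit 1],
  [nat_lit 1, nat_lit 0, nat_lit 7],
  [nat_lit 1, nat_lit 0, nat_lit 7, nat_lit 12],
  [nat_lit 0, nat_lit 6, nat_lit 14, nat_lit 1],
  [nat_lit 1, nat_lit 0, nat_lit 1, nat_lit 16],
  [nat_lit 0, nat_lit 12, nat_lit 16, nat_lit 14],
  [nat_lit 13, nat_lit 14],
  [nat_lit 0, nat_lit 13, nat_lit 0],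
  [nat_lit 1, nat_lit 6, nat_lit 16],
  [nat_lit 16, nat_lit 7, nat_lit 1],
  [nat_lit 0, nat_lit 12, nat_lit 16],
  [nat_lit 0, nat_lit 7, nat_lit 1],
  [nat_lit 0, nat_lit 1, nat_lit 13, nat_lit 6],
  [nat_lit 0, nat_lit 14, nat_lit 0],
  [nat_lit 6, nat_lit 0, nat_lit 1],
  [nat_lit 7, nat_lit 0, nat_lit 1]]
noncomputable def v002_T : Wl := [[],
  [],
  [],
  [],
  [],
  [nat_lit 1, nat_lit 0, nat_lit 2, nat_lit 4, nat_lit 3, nat_lit 9, nat_lit 6, nat_lit 11, nat_lit 12, nat_lit 5, nat_lit 14, nat_lit 7, nat_lit 8, nat_lit 16, nat_lit 10, nat_lit 18, nat_lit 13, nat_lit 20, nat_lit 15, nat_lit 21, nat_lit 17, nat_lit 19, nat_lit 23, nat_lit 22],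
  [],
  [],
  [],
  [],
  [],
  [],
  [],
  [],
  [],
  [],
  [],
  [],
  [nat_lit 0, nat_lit 6, nat_lit 7, nat_lit 3, nat_lit 8, nat_lit 10, nat_lit 1, nat_lit 2, nat_lit 4, nat_lit 13, nat_lit 5, nat_lit 11, nat_lit 15, nat_lit 9, nat_lit 17, nat_lit 12, nat_lit 19, nat_lit 14, nat_lit 18, nat_lit 16, nat_lit 22, nat_lit 23, nat_lit 20, nat_lit 21]]
noncomputable def v002_J5 : Wl := [[nat_lit 3],
  [nat_lit 4],
  [nat_lit 0, nat_lit 0],
  [nat_lit 2],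
  [nat_lit 1],
  [nat_lit 0],
  [nat_lit 3, nat_lit 4],
  [nat_lit 0, nat_lit 0, nat_lit 3],
  [nat_lit 0, nat_lit 0, nat_lit 1, nat_lit 2, nat_lit 3],
  [nat_lit 0, nat_lit 3, nat_lit 4],
  [nat_lit 0, nat_lit 2, nat_lit 3, nat_lit 4],
  [nat_lit 0, nat_lit 0, nat_lit 4],
  [nat_lit 0, nat_lit 0, nat_lit 1, nat_lit 2, nat_lit 4],
  [nat_lit 0, nat_lit 2, nat_lit 3],
  [nat_lit 0, nat_lit 1],
  [nat_lit 1, nat_lit 4],
  [nat_lit 0, nat_lit 1, nat_lit 3],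
  [nat_lit 0, nat_lit 0, nat_lit 0, nat_lit 1, nat_lit 3, nat_lit 4],
  [nat_lit 2, nat_lit 3],
  [nat_lit 0, nat_lit 0, nat_lit 0, nat_lit 1, nat_lit 4],
  [nat_lit 0, nat_lit 0, nat_lit 0, nat_lit 2],
  [nat_lit 0, nat_lit 0, nat_lit 0, nat_lit 2, nat_lit 4],
  [nat_lit 0, nat_lit 0, nat_lit 0, nat_lit 3, nat_lit 4],
  [nat_lit 0, nat_lit 0, nat_lit 0]]
noncomputable def v003_P : Wl := [[nat_lit 3],
  [nat_lit 2],
  [nat_lit 15],
  [nat_lit 12],
  [nat_lit 13],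
  [nat_lit 14],
  [nat_lit 1, nat_lit 16, nat_lit 7],
  [nat_lit 1, nat_lit 0, nat_lit 7],
  [nat_lit 0, nat_lit 16, nat_lit 14]]
noncomputable def v003_T : Wl := [[],
  [],
  [],
  [],
  [],
  [nat_lit 1, nat_lit 0, nat_lit 2, nat_lit 4, nat_lit 3, nat_lit 6, nat_lit 7, nat_lit 8, nat_lit 5]]
noncomputable def v003_J5 : Wl := [[nat_lit 3],
  [nat_lit 4],
  [nat_lit 0, nat_lit 0],
  [nat_lit 2],
  [nat_lit 1],
  [nat_lit 0],
  [nat_lit 0, nat_lit 4],
  [nat_lit 0, nat_lit 3, nat_lit 4],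
  [nat_lit 0, nat_lit 3]]
noncomputable def v004_P : Wl := [[nat_lit 3],
  [nat_lit 2],
  [nat_lit 15],
  [nat_lit 12],
  [nat_lit 13],
  [nat_lit 14],
  [nat_lit 0, nat_lit 16, nat_lit 14],
  [nat_lit 1, nat_lit 0, nat_lit 7],
  [nat_lit 1, nat_lit 16, nat_lit 7]]
noncomputable def v004_T : Wl := [[],
  [],
  [],
  [],
  [],
  [nat_lit 1, nat_lit 0, nat_lit 2, nat_lit 4, nat_lit 3, nat_lit 6, nat_lit 7, nat_lit 8, nat_lit 5]]
noncomputable def v004_J5 : Wl := [[nat_lit 3],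
  [nat_lit 4],
  [nat_lit 0, nat_lit 0],
  [nat_lit 2],
  [nat_lit 1],
  [nat_lit 0],
  [nat_lit 0, nat_lit 3],
  [nat_lit 0, nat_lit 3, nat_lit 4],
  [nat_lit 0, nat_lit 4]]
noncomputable def v005_P : Wl := [[nat_lit 3],
  [nat_lit 2],
  [nat_lit 15],
  [nat_lit 12],
  [nat_lit 13],
  [nat_lit 14],
  [nat_lit 1, nat_lit 0, nat_lit 7, nat_lit 14],
  [nat_lit 16, nat_lit 1, nat_lit 7],
  [nat_lit 1, nat_lit 0, nat_lit 7],
  [nat_lit 16, nat_lit 1, nat_lit 6]]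
noncomputable def v005_T : Wl := [[],
  [],
  [],
  [],
  [],
  [nat_lit 1, nat_lit 0, nat_lit 6, nat_lit 4, nat_lit 3, nat_lit 7, nat_lit 2, nat_lit 8, nat_lit 9, nat_lit 5]]
noncomputable def v005_J5 : Wl := [[nat_lit 3],
  [nat_lit 4],
  [nat_lit 0, nat_lit 0],
  [nat_lit 2],
  [nat_lit 1],
  [nat_lit 0],
  [nat_lit 0, nat_lit 0, nat_lit 3, nat_lit 4],
  [nat_lit 0, nat_lit 0, nat_lit 0, nat_lit 1, nat_lit 2, nat_lit 4],
  [nat_lit 0, nat_lit 3, nat_lit 4],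
  [nat_lit 0, nat_lit 0, nat_lit 0, nat_lit 1, nat_lit 2, nat_lit 3]]
noncomputable def v006_P : Wl := [[nat_lit 3],
  [nat_lit 2],
  [nat_lit 15],
  [nat_lit 12],
  [nat_lit 13],
  [nat_lit 14],
  [nat_lit 1, nat_lit 0, nat_lit 7, nat_lit 14],
  [nat_lit 16, nat_lit 1, nat_lit 6],
  [nat_lit 1, nat_lit 0, nat_lit 7],
  [nat_lit 16, nat_lit 1, nat_lit 7]]
noncomputable def v006_T : Wl := [[],
  [],
  [],
  [],
  [],
  [nat_lit 1, nat_lit 0, nat_lit 6, nat_lit 4, nat_lit 3, nat_lit 7, nat_lit 2, nat_lit 8, nat_lit 9, nat_lit 5]]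
noncomputable def v006_J5 : Wl := [[nat_lit 3],
  [nat_lit 4],
  [nat_lit 0, nat_lit 0],
  [nat_lit 2],
  [nat_lit 1],
  [nat_lit 0],
  [nat_lit 0, nat_lit 0, nat_lit 3, nat_lit 4],
  [nat_lit 0, nat_lit 0, nat_lit 0, nat_lit 1, nat_lit 2, nat_lit 3],
  [nat_lit 0, nat_lit 3, nat_lit 4],
  [nat_lit 0, nat_lit 0, nat_lit 0, nat_lit 1, nat_lit 2, nat_lit 4]]
noncomputable def v007_P : Wl := [[nat_lit 3],
  [nat_lit 2],
  [nat_lit 15],
  [nat_lit 12],
  [nat_lit 13],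
  [nat_lit 14],
  [nat_lit 1, nat_lit 0, nat_lit 7, nat_lit 14],
  [nat_lit 16, nat_lit 1, nat_lit 7],
  [nat_lit 0, nat_lit 1, nat_lit 7],
  [nat_lit 0, nat_lit 16, nat_lit 13],
  [nat_lit 1, nat_lit 16, nat_lit 7],
  [nat_lit 0, nat_lit 16, nat_lit 14],
  [nat_lit 6, nat_lit 12, nat_lit 6],
  [nat_lit 1, nat_lit 7, nat_lit 16, nat_lit 14],
  [nat_lit 16, nat_lit 1, nat_lit 6],
  [nat_lit 0, nat_lit 1, nat_lit 16, nat_lit 1, nat_lit 13],
  [nat_lit 0, nat_lit 1, nat_lit 0, nat_lit 1, nat_lit 13],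
  [nat_lit 6, nat_lit 14, nat_lit 6],
  [nat_lit 6, nat_lit 0, nat_lit 1],
  [nat_lit 13, nat_lit 14, nat_lit 14],
  [nat_lit 12, nat_lit 14, nat_lit 14],
  [nat_lit 0, nat_lit 1, nat_lit 13, nat_lit 16, nat_lit 1],
  [nat_lit 1, nat_lit 6, nat_lit 16, nat_lit 14],
  [nat_lit 0, nat_lit 1, nat_lit 6],
  [nat_lit 0, nat_lit 14, nat_lit 1, nat_lit 6],
  [nat_lit 6, nat_lit 6, nat_lit 12],
  [nat_lit 1, nat_lit 0, nat_lit 7],
  [nat_lit 6, nat_lit 16, nat_lit 1],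
  [nat_lit 7, nat_lit 1, nat_lit 16],
  [nat_lit 0, nat_lit 13, nat_lit 16],
  [nat_lit 6, nat_lit 1, nat_lit 16],
  [nat_lit 7, nat_lit 16, nat_lit 1],
  [nat_lit 6, nat_lit 1, nat_lit 0],
  [nat_lit 0, nat_lit 13, nat_lit 0],
  [nat_lit 7, nat_lit 0, nat_lit 1],
  [nat_lit 0, nat_lit 12, nat_lit 16]]
noncomputable def v007_T : Wl := [[],
  [],
  [],
  [],
  [],
  [nat_lit 1, nat_lit 0, nat_lit 6, nat_lit 4, nat_lit 3, nat_lit 8, nat_lit 2, nat_lit 10, nat_lit 5, nat_lit 12, nat_lit 7, nat_lit 14, nat_lit 9, nat_lit 16, nat_lit 11, nat_lit 19, nat_lit 13, nat_lit 18, nat_lit 17, nat_lit 15, nat_lit 24, nat_lit 22, nat_lit 21, nat_lit 26, nat_lit 20, nat_lit 29, nat_lit 23, nat_lit 30, nat_lit 31, nat_lit 25, nat_lit 27, nat_lit 28, nat_lit 34, nat_lit 35, nat_lit 32, nat_lit 33],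
  [],
  [],
  [],
  [],
  [],
  [],
  [],
  [],
  [],
  [],
  [],
  [nat_lit 0, nat_lit 6, nat_lit 1, nat_lit 3, nat_lit 7, nat_lit 9, nat_lit 2, nat_lit 11, nat_lit 5, nat_lit 8, nat_lit 13, nat_lit 4, nat_lit 15, nat_lit 17, nat_lit 18, nat_lit 20, nat_lit 21, nat_lit 10, nat_lit 22, nat_lit 23, nat_lit 12, nat_lit 25, nat_lit 14, nat_lit 27, nat_lit 28, nat_lit 16, nat_lit 24, nat_lit 19, nat_lit 26, nat_lit 32, nat_lit 31, nat_lit 33, nat_lit 34, nat_lit 30, nat_lit 29, nat_lit 35]]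
noncomputable def v007_J5 : Wl := [[nat_lit 3],
  [nat_lit 4],
  [nat_lit 0, nat_lit 0],
  [nat_lit 2],
  [nat_lit 1],
  [nat_lit 0],
  [nat_lit 0, nat_lit 0, nat_lit 3, nat_lit 4],
  [nat_lit 0, nat_lit 0, nat_lit 0, nat_lit 1, nat_lit 2, nat_lit 4],
  [nat_lit 0, nat_lit 0, nat_lit 0, nat_lit 1, nat_lit 2, nat_lit 3, nat_lit 4],
  [nat_lit 1, nat_lit 3],
  [nat_lit 0, nat_lit 4],
  [nat_lit 0, nat_lit 3],
  [nat_lit 2, nat_lit 4],
  [nat_lit 0, nat_lit 0, nat_lit 1, nat_lit 4],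
  [nat_lit 0, nat_lit 0, nat_lit 0, nat_lit 1, nat_lit 2, nat_lit 3],
  [nat_lit 0, nat_lit 0, nat_lit 2, nat_lit 3, nat_lit 4],
  [nat_lit 0, nat_lit 0, nat_lit 2, nat_lit 4],
  [nat_lit 0, nat_lit 1, nat_lit 2, nat_lit 3, nat_lit 4],
  [nat_lit 0, nat_lit 0, nat_lit 0, nat_lit 3, nat_lit 4],
  [nat_lit 0, nat_lit 0, nat_lit 1],
  [nat_lit 0, nat_lit 0, nat_lit 2],
  [nat_lit 0, nat_lit 0, nat_lit 2, nat_lit 3],
  [nat_lit 0, nat_lit 0, nat_lit 1, nat_lit 3],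
  [nat_lit 0, nat_lit 0, nat_lit 0, nat_lit 1, nat_lit 2],
  [nat_lit 0, nat_lit 0, nat_lit 1, nat_lit 3, nat_lit 4],
  [nat_lit 2, nat_lit 3, nat_lit 4],
  [nat_lit 0, nat_lit 3, nat_lit 4],
  [nat_lit 0, nat_lit 0, nat_lit 0, nat_lit 4],
  [nat_lit 0, nat_lit 1, nat_lit 2, nat_lit 4],
  [nat_lit 1, nat_lit 3, nat_lit 4],
  [nat_lit 0, nat_lit 1, nat_lit 2, nat_lit 3],
  [nat_lit 0, nat_lit 0, nat_lit 0, nat_lit 3],
  [nat_lit 0, nat_lit 1, nat_lit 2],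
  [nat_lit 1, nat_lit 4],
  [nat_lit 0, nat_lit 0, nat_lit 0],
  [nat_lit 2, nat_lit 3]]
noncomputable def t01_P : Wl := [[nat_lit 3],
  [nat_lit 2],
  [nat_lit 12],
  [nat_lit 13],
  [nat_lit 12, nat_lit 12, nat_lit 12, nat_lit 13, nat_lit 13],
  [nat_lit 12, nat_lit 12, nat_lit 13, nat_lit 13, nat_lit 13]]
noncomputable def t01_T : Wl := [[],
  [],
  [],
  [],
  [],
  [nat_lit 1, nat_lit 0, nat_lit 3, nat_lit 4, nat_lit 5, nat_lit 2]]
noncomputable def t01_J5 : Wl := [[nat_lit 2],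
  [nat_lit 3],
  [nat_lit 1],
  [nat_lit 0],
  [nat_lit 1, nat_lit 2, nat_lit 3],
  [nat_lit 0, nat_lit 2, nat_lit 3]]
noncomputable def i21_W : Wl := [[nat_lit 6, nat_lit 6, nat_lit 12],
  [nat_lit 6, nat_lit 12, nat_lit 6],
  [nat_lit 0, nat_lit 12, nat_lit 16],
  [nat_lit 12],
  [],
  [nat_lit 6, nat_lit 6],
  [nat_lit 0, nat_lit 16],
  [nat_lit 13, nat_lit 13]]
noncomputable def s21_L : List (List ℕ × ℕ) := [([], (nat_lit 1)), ([nat_lit 1], (nat_lit 1)), ([nat_lit 1], (nat_lit 0)), ([], (nat_lit 0))]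
noncomputable def t10_P : Wl := [[nat_lit 3],
  [nat_lit 2],
  [nat_lit 12],
  [nat_lit 13],
  [nat_lit 12, nat_lit 12, nat_lit 13, nat_lit 13, nat_lit 13],
  [nat_lit 12, nat_lit 12, nat_lit 12, nat_lit 13, nat_lit 13]]
noncomputable def t10_T : Wl := [[],
  [],
  [],
  [],
  [],
  [nat_lit 1, nat_lit 0, nat_lit 4, nat_lit 2, nat_lit 5, nat_lit 3]]
noncomputable def t10_J5 : Wl := [[nat_lit 2],
  [nat_lit 3],
  [nat_lit 1],
  [nat_lit 0],
  [nat_lit 0, nat_lit 2, nat_lit 3],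
  [nat_lit 1, nat_lit 2, nat_lit 3]]
noncomputable def i311_W : Wl := []
noncomputable def s311_L : List (List ℕ × ℕ) := []
noncomputable def uy_W : Wl := [[],
  [nat_lit 3, nat_lit 23, nat_lit 21, nat_lit 23],
  [nat_lit 3, nat_lit 23, nat_lit 23],
  [nat_lit 21, nat_lit 21, nat_lit 22, nat_lit 22],
  [nat_lit 3],
  [nat_lit 23, nat_lit 21, nat_lit 23],
  [nat_lit 23, nat_lit 23],
  [nat_lit 3, nat_lit 21, nat_lit 21, nat_lit 22, nat_lit 22],
  [nat_lit 3, nat_lit 19],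
  [nat_lit 19, nat_lit 23, nat_lit 21, nat_lit 23],
  [nat_lit 19, nat_lit 23, nat_lit 23],
  [nat_lit 3, nat_lit 19, nat_lit 21, nat_lit 21, nat_lit 22, nat_lit 22],
  [nat_lit 3, nat_lit 21, nat_lit 23],
  [nat_lit 23, nat_lit 23, nat_lit 23, nat_lit 22],
  [nat_lit 3, nat_lit 19, nat_lit 21],
  [nat_lit 19, nat_lit 21, nat_lit 23, nat_lit 23, nat_lit 22],
  [nat_lit 19, nat_lit 21, nat_lit 23, nat_lit 23],
  [nat_lit 3, nat_lit 19, nat_lit 21, nat_lit 22, nat_lit 22],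
  [nat_lit 3, nat_lit 19, nat_lit 21, nat_lit 23, nat_lit 23],
  [nat_lit 19, nat_lit 21, nat_lit 22, nat_lit 22],
  [nat_lit 21, nat_lit 23, nat_lit 23],
  [nat_lit 3, nat_lit 21, nat_lit 22, nat_lit 22],
  [nat_lit 3, nat_lit 21],
  [nat_lit 21, nat_lit 23, nat_lit 23, nat_lit 22],
  [nat_lit 19, nat_lit 21],
  [nat_lit 3, nat_lit 19, nat_lit 21, nat_lit 23, nat_lit 23, nat_lit 22],
  [nat_lit 3, nat_lit 23],
  [nat_lit 23, nat_lit 21, nat_lit 23, nat_lit 23],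
  [nat_lit 23, nat_lit 23, nat_lit 23],
  [nat_lit 3, nat_lit 23, nat_lit 21],
  [nat_lit 3, nat_lit 19, nat_lit 21, nat_lit 21, nat_lit 23],
  [nat_lit 19, nat_lit 23, nat_lit 23, nat_lit 22, nat_lit 23],
  [nat_lit 3, nat_lit 21, nat_lit 21],
  [nat_lit 23, nat_lit 23, nat_lit 22],
  [nat_lit 23, nat_lit 23, nat_lit 21],
  [nat_lit 3, nat_lit 22, nat_lit 22],
  [nat_lit 19],
  [nat_lit 3, nat_lit 19, nat_lit 23, nat_lit 21, nat_lit 23],
  [nat_lit 3, nat_lit 19, nat_lit 23, nat_lit 23],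
  [nat_lit 19, nat_lit 21, nat_lit 21, nat_lit 22, nat_lit 22],
  [nat_lit 23, nat_lit 22, nat_lit 23],
  [nat_lit 3, nat_lit 22],
  [nat_lit 3, nat_lit 21, nat_lit 21, nat_lit 22],
  [nat_lit 22, nat_lit 23, nat_lit 23],
  [nat_lit 21, nat_lit 23],
  [nat_lit 3, nat_lit 23, nat_lit 23, nat_lit 23, nat_lit 22],
  [nat_lit 3, nat_lit 21, nat_lit 23, nat_lit 23],
  [nat_lit 21, nat_lit 22, nat_lit 22],
  [nat_lit 21],
  [nat_lit 3, nat_lit 21, nat_lit 23, nat_lit 23, nat_lit 22],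
  [nat_lit 23],
  [nat_lit 3, nat_lit 23, nat_lit 21, nat_lit 23, nat_lit 23],
  [nat_lit 3, nat_lit 23, nat_lit 23, nat_lit 23],
  [nat_lit 23, nat_lit 21],
  [nat_lit 19, nat_lit 21, nat_lit 21, nat_lit 23],
  [nat_lit 3, nat_lit 19, nat_lit 23, nat_lit 23, nat_lit 22, nat_lit 23],
  [nat_lit 21, nat_lit 21],
  [nat_lit 3, nat_lit 23, nat_lit 23, nat_lit 22],
  [nat_lit 3, nat_lit 23, nat_lit 23, nat_lit 21],
  [nat_lit 22, nat_lit 22],
  [nat_lit 3, nat_lit 23, nat_lit 22, nat_lit 23],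
  [nat_lit 22],
  [nat_lit 21, nat_lit 21, nat_lit 22],
  [nat_lit 3, nat_lit 22, nat_lit 23, nat_lit 23],
  [nat_lit 19, nat_lit 21, nat_lit 23, nat_lit 23, nat_lit 23],
  [nat_lit 3, nat_lit 19, nat_lit 23, nat_lit 22, nat_lit 22],
  [nat_lit 23, nat_lit 22, nat_lit 22],
  [nat_lit 3, nat_lit 21, nat_lit 23, nat_lit 23, nat_lit 23],
  [nat_lit 19, nat_lit 23],
  [nat_lit 3, nat_lit 19, nat_lit 23, nat_lit 21, nat_lit 23, nat_lit 23],
  [nat_lit 3, nat_lit 19, nat_lit 23, nat_lit 23, nat_lit 23],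
  [nat_lit 19, nat_lit 23, nat_lit 21],
  [nat_lit 19, nat_lit 21, nat_lit 21],
  [nat_lit 3, nat_lit 19, nat_lit 23, nat_lit 23, nat_lit 22],
  [nat_lit 3, nat_lit 19, nat_lit 23, nat_lit 23, nat_lit 21],
  [nat_lit 19, nat_lit 22, nat_lit 22],
  [nat_lit 3, nat_lit 19, nat_lit 23, nat_lit 22, nat_lit 23],
  [nat_lit 19, nat_lit 22],
  [nat_lit 19, nat_lit 21, nat_lit 21, nat_lit 22],
  [nat_lit 3, nat_lit 19, nat_lit 22, nat_lit 23, nat_lit 23],
  [nat_lit 3, nat_lit 21, nat_lit 21, nat_lit 23],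
  [nat_lit 23, nat_lit 23, nat_lit 22, nat_lit 23],
  [nat_lit 3, nat_lit 19, nat_lit 23, nat_lit 23, nat_lit 21, nat_lit 23],
  [nat_lit 19, nat_lit 21, nat_lit 23, nat_lit 21],
  [nat_lit 19, nat_lit 23, nat_lit 23, nat_lit 23, nat_lit 22],
  [nat_lit 3, nat_lit 19, nat_lit 21, nat_lit 23],
  [nat_lit 3, nat_lit 23, nat_lit 22, nat_lit 23, nat_lit 23],
  [nat_lit 22, nat_lit 23],
  [nat_lit 3, nat_lit 19, nat_lit 21, nat_lit 21],
  [nat_lit 19, nat_lit 23, nat_lit 23, nat_lit 22],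
  [nat_lit 3, nat_lit 21, nat_lit 22, nat_lit 23, nat_lit 23],
  [nat_lit 21, nat_lit 22],
  [nat_lit 3, nat_lit 19, nat_lit 23],
  [nat_lit 19, nat_lit 23, nat_lit 21, nat_lit 23, nat_lit 23],
  [nat_lit 21, nat_lit 22, nat_lit 23],
  [nat_lit 3, nat_lit 23, nat_lit 23, nat_lit 23, nat_lit 21],
  [nat_lit 19, nat_lit 23, nat_lit 23, nat_lit 23],
  [nat_lit 3, nat_lit 19, nat_lit 23, nat_lit 21],
  [nat_lit 19, nat_lit 23, nat_lit 22],
  [nat_lit 3, nat_lit 19, nat_lit 22, nat_lit 23, nat_lit 23, nat_lit 23],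
  [nat_lit 19, nat_lit 23, nat_lit 23, nat_lit 21],
  [nat_lit 3, nat_lit 19, nat_lit 22, nat_lit 22],
  [nat_lit 23, nat_lit 22],
  [nat_lit 3, nat_lit 22, nat_lit 23, nat_lit 23, nat_lit 23],
  [nat_lit 3, nat_lit 23, nat_lit 22],
  [nat_lit 22, nat_lit 23, nat_lit 23, nat_lit 23],
  [nat_lit 23, nat_lit 22, nat_lit 23, nat_lit 23],
  [nat_lit 3, nat_lit 22, nat_lit 23],
  [nat_lit 19, nat_lit 23, nat_lit 22, nat_lit 23],
  [nat_lit 3, nat_lit 19, nat_lit 22],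
  [nat_lit 3, nat_lit 19, nat_lit 21, nat_lit 21, nat_lit 22],
  [nat_lit 19, nat_lit 22, nat_lit 23, nat_lit 23],
  [nat_lit 19, nat_lit 23, nat_lit 22, nat_lit 22],
  [nat_lit 3, nat_lit 19, nat_lit 21, nat_lit 23, nat_lit 23, nat_lit 23],
  [nat_lit 21, nat_lit 23, nat_lit 23, nat_lit 23],
  [nat_lit 3, nat_lit 23, nat_lit 22, nat_lit 22],
  [nat_lit 21, nat_lit 21, nat_lit 23],
  [nat_lit 3, nat_lit 23, nat_lit 23, nat_lit 22, nat_lit 23],
  [nat_lit 19, nat_lit 23, nat_lit 23, nat_lit 21, nat_lit 23],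
  [nat_lit 3, nat_lit 19, nat_lit 21, nat_lit 23, nat_lit 21],
  [nat_lit 3, nat_lit 19, nat_lit 23, nat_lit 23, nat_lit 23, nat_lit 22],
  [nat_lit 19, nat_lit 21, nat_lit 23],
  [nat_lit 21, nat_lit 22, nat_lit 23, nat_lit 23],
  [nat_lit 3, nat_lit 21, nat_lit 22],
  [nat_lit 3, nat_lit 21, nat_lit 22, nat_lit 23],
  [nat_lit 23, nat_lit 23, nat_lit 23, nat_lit 21],
  [nat_lit 3, nat_lit 19, nat_lit 23, nat_lit 22],
  [nat_lit 19, nat_lit 22, nat_lit 23, nat_lit 23, nat_lit 23],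
  [nat_lit 23, nat_lit 23, nat_lit 21, nat_lit 23],
  [nat_lit 3, nat_lit 21, nat_lit 23, nat_lit 21],
  [nat_lit 19, nat_lit 21, nat_lit 22, nat_lit 23, nat_lit 23],
  [nat_lit 3, nat_lit 19, nat_lit 21, nat_lit 22],
  [nat_lit 3, nat_lit 19, nat_lit 21, nat_lit 22, nat_lit 23],
  [nat_lit 19, nat_lit 23, nat_lit 23, nat_lit 23, nat_lit 21],
  [nat_lit 3, nat_lit 19, nat_lit 22, nat_lit 23],
  [nat_lit 19, nat_lit 23, nat_lit 22, nat_lit 23, nat_lit 23],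
  [nat_lit 3, nat_lit 19, nat_lit 23, nat_lit 22, nat_lit 23, nat_lit 23],
  [nat_lit 19, nat_lit 22, nat_lit 23],
  [nat_lit 3, nat_lit 23, nat_lit 23, nat_lit 21, nat_lit 23],
  [nat_lit 21, nat_lit 23, nat_lit 21],
  [nat_lit 3, nat_lit 19, nat_lit 21, nat_lit 22, nat_lit 23, nat_lit 23],
  [nat_lit 19, nat_lit 21, nat_lit 22],
  [nat_lit 19, nat_lit 21, nat_lit 22, nat_lit 23],
  [nat_lit 3, nat_lit 19, nat_lit 23, nat_lit 23, nat_lit 23, nat_lit 21]]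
noncomputable def py_W : Wl := [[],
  [nat_lit 21, nat_lit 21, nat_lit 22, nat_lit 22],
  [nat_lit 21, nat_lit 22, nat_lit 22],
  [nat_lit 21],
  [nat_lit 21, nat_lit 21],
  [nat_lit 22, nat_lit 22],
  [nat_lit 22],
  [nat_lit 21, nat_lit 21, nat_lit 22],
  [nat_lit 21, nat_lit 22]]
noncomputable def ny_W : Wl := [[],
  [nat_lit 3, nat_lit 23, nat_lit 23],
  [nat_lit 3],
  [nat_lit 23, nat_lit 23],
  [nat_lit 3, nat_lit 19],
  [nat_lit 19, nat_lit 23, nat_lit 23],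
  [nat_lit 3, nat_lit 23],
  [nat_lit 23, nat_lit 23, nat_lit 23],
  [nat_lit 19],
  [nat_lit 3, nat_lit 19, nat_lit 23, nat_lit 23],
  [nat_lit 23],
  [nat_lit 3, nat_lit 23, nat_lit 23, nat_lit 23],
  [nat_lit 19, nat_lit 23],
  [nat_lit 3, nat_lit 19, nat_lit 23, nat_lit 23, nat_lit 23],
  [nat_lit 3, nat_lit 19, nat_lit 23],
  [nat_lit 19, nat_lit 23, nat_lit 23, nat_lit 23]]
noncomputable def uz_W : Wl := [[nat_lit 20, nat_lit 25, nat_lit 25],
  [nat_lit 3, nat_lit 20, nat_lit 21, nat_lit 21, nat_lit 22, nat_lit 22],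
  [nat_lit 3, nat_lit 20, nat_lit 25, nat_lit 25],
  [nat_lit 20, nat_lit 21, nat_lit 21, nat_lit 22, nat_lit 22],
  [nat_lit 20],
  [nat_lit 3, nat_lit 20, nat_lit 25, nat_lit 21, nat_lit 25],
  [nat_lit 20, nat_lit 21],
  [nat_lit 3, nat_lit 20, nat_lit 21, nat_lit 25, nat_lit 25, nat_lit 22],
  [nat_lit 3, nat_lit 20],
  [nat_lit 20, nat_lit 25, nat_lit 21, nat_lit 25],
  [nat_lit 3, nat_lit 20, nat_lit 21],
  [nat_lit 20, nat_lit 21, nat_lit 25, nat_lit 25, nat_lit 22],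
  [nat_lit 20, nat_lit 25, nat_lit 25, nat_lit 21],
  [nat_lit 3, nat_lit 20, nat_lit 22, nat_lit 22],
  [nat_lit 20, nat_lit 21, nat_lit 25, nat_lit 25],
  [nat_lit 3, nat_lit 20, nat_lit 21, nat_lit 22, nat_lit 22],
  [nat_lit 3, nat_lit 20, nat_lit 25, nat_lit 25, nat_lit 21],
  [nat_lit 20, nat_lit 22, nat_lit 22],
  [nat_lit 3, nat_lit 20, nat_lit 21, nat_lit 25, nat_lit 25],
  [nat_lit 20, nat_lit 21, nat_lit 22, nat_lit 22],
  [nat_lit 20, nat_lit 21, nat_lit 21],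
  [nat_lit 3, nat_lit 20, nat_lit 25, nat_lit 25, nat_lit 22],
  [nat_lit 20, nat_lit 25],
  [nat_lit 3, nat_lit 20, nat_lit 25, nat_lit 21, nat_lit 25, nat_lit 25],
  [nat_lit 3, nat_lit 20, nat_lit 25, nat_lit 25, nat_lit 25],
  [nat_lit 20, nat_lit 25, nat_lit 21],
  [],
  [nat_lit 3, nat_lit 25, nat_lit 21, nat_lit 25],
  [nat_lit 3, nat_lit 25, nat_lit 25],
  [nat_lit 21, nat_lit 21, nat_lit 22, nat_lit 22],
  [nat_lit 3, nat_lit 20, nat_lit 25, nat_lit 22, nat_lit 25],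
  [nat_lit 20, nat_lit 22],
  [nat_lit 20, nat_lit 21, nat_lit 21, nat_lit 22],
  [nat_lit 3, nat_lit 20, nat_lit 22, nat_lit 25, nat_lit 25],
  [nat_lit 3, nat_lit 20, nat_lit 21, nat_lit 21],
  [nat_lit 20, nat_lit 25, nat_lit 25, nat_lit 22],
  [nat_lit 3, nat_lit 20, nat_lit 25],
  [nat_lit 20, nat_lit 25, nat_lit 21, nat_lit 25, nat_lit 25],
  [nat_lit 20, nat_lit 25, nat_lit 25, nat_lit 25],
  [nat_lit 3, nat_lit 20, nat_lit 25, nat_lit 21],
  [nat_lit 3],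
  [nat_lit 25, nat_lit 21, nat_lit 25],
  [nat_lit 25, nat_lit 25],
  [nat_lit 3, nat_lit 21, nat_lit 21, nat_lit 22, nat_lit 22],
  [nat_lit 20, nat_lit 25, nat_lit 22, nat_lit 25],
  [nat_lit 3, nat_lit 20, nat_lit 22],
  [nat_lit 3, nat_lit 20, nat_lit 21, nat_lit 21, nat_lit 22],
  [nat_lit 20, nat_lit 22, nat_lit 25, nat_lit 25],
  [nat_lit 20, nat_lit 21, nat_lit 25, nat_lit 25, nat_lit 25],
  [nat_lit 3, nat_lit 20, nat_lit 25, nat_lit 22, nat_lit 22],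
  [nat_lit 3, nat_lit 20, nat_lit 21, nat_lit 25],
  [nat_lit 20, nat_lit 25, nat_lit 25, nat_lit 25, nat_lit 22],
  [nat_lit 20, nat_lit 21, nat_lit 21, nat_lit 25],
  [nat_lit 3, nat_lit 20, nat_lit 25, nat_lit 25, nat_lit 22, nat_lit 25],
  [nat_lit 3, nat_lit 21, nat_lit 25],
  [nat_lit 25, nat_lit 25, nat_lit 25, nat_lit 22],
  [nat_lit 3, nat_lit 20, nat_lit 21, nat_lit 25, nat_lit 25, nat_lit 25],
  [nat_lit 20, nat_lit 25, nat_lit 22, nat_lit 22],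
  [nat_lit 21, nat_lit 25, nat_lit 25],
  [nat_lit 3, nat_lit 21, nat_lit 22, nat_lit 22],
  [nat_lit 3, nat_lit 21],
  [nat_lit 21, nat_lit 25, nat_lit 25, nat_lit 22],
  [nat_lit 3, nat_lit 20, nat_lit 21, nat_lit 22],
  [nat_lit 20, nat_lit 21, nat_lit 22, nat_lit 25, nat_lit 25],
  [nat_lit 20, nat_lit 21, nat_lit 25],
  [nat_lit 3, nat_lit 20, nat_lit 25, nat_lit 25, nat_lit 25, nat_lit 22],
  [nat_lit 3, nat_lit 25],
  [nat_lit 25, nat_lit 21, nat_lit 25, nat_lit 25],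
  [nat_lit 25, nat_lit 25, nat_lit 25],
  [nat_lit 3, nat_lit 25, nat_lit 21],
  [nat_lit 3, nat_lit 20, nat_lit 21, nat_lit 22, nat_lit 25],
  [nat_lit 20, nat_lit 25, nat_lit 25, nat_lit 25, nat_lit 21],
  [nat_lit 3, nat_lit 21, nat_lit 21],
  [nat_lit 25, nat_lit 25, nat_lit 22],
  [nat_lit 25, nat_lit 25, nat_lit 21],
  [nat_lit 3, nat_lit 22, nat_lit 22],
  [nat_lit 3, nat_lit 20, nat_lit 25, nat_lit 22],
  [nat_lit 20, nat_lit 22, nat_lit 25, nat_lit 25, nat_lit 25],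
  [nat_lit 3, nat_lit 20, nat_lit 22, nat_lit 25],
  [nat_lit 20, nat_lit 25, nat_lit 22, nat_lit 25, nat_lit 25],
  [nat_lit 25, nat_lit 22, nat_lit 25],
  [nat_lit 3, nat_lit 22],
  [nat_lit 3, nat_lit 21, nat_lit 21, nat_lit 22],
  [nat_lit 22, nat_lit 25, nat_lit 25],
  [nat_lit 3, nat_lit 20, nat_lit 21, nat_lit 21, nat_lit 25],
  [nat_lit 20, nat_lit 25, nat_lit 25, nat_lit 22, nat_lit 25],
  [nat_lit 21, nat_lit 25],
  [nat_lit 3, nat_lit 25, nat_lit 25, nat_lit 25, nat_lit 22],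
  [nat_lit 3, nat_lit 21, nat_lit 25, nat_lit 25],
  [nat_lit 21, nat_lit 22, nat_lit 22],
  [nat_lit 21],
  [nat_lit 3, nat_lit 21, nat_lit 25, nat_lit 25, nat_lit 22],
  [nat_lit 20, nat_lit 21, nat_lit 22],
  [nat_lit 3, nat_lit 20, nat_lit 21, nat_lit 22, nat_lit 25, nat_lit 25],
  [nat_lit 25],
  [nat_lit 3, nat_lit 25, nat_lit 21, nat_lit 25, nat_lit 25],
  [nat_lit 3, nat_lit 25, nat_lit 25, nat_lit 25],
  [nat_lit 25, nat_lit 21],
  [nat_lit 20, nat_lit 21, nat_lit 22, nat_lit 25],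
  [nat_lit 3, nat_lit 20, nat_lit 25, nat_lit 25, nat_lit 25, nat_lit 21],
  [nat_lit 21, nat_lit 21],
  [nat_lit 3, nat_lit 25, nat_lit 25, nat_lit 22],
  [nat_lit 3, nat_lit 25, nat_lit 25, nat_lit 21],
  [nat_lit 22, nat_lit 22],
  [nat_lit 3, nat_lit 20, nat_lit 22, nat_lit 25, nat_lit 25, nat_lit 25],
  [nat_lit 20, nat_lit 25, nat_lit 22],
  [nat_lit 20, nat_lit 22, nat_lit 25],
  [nat_lit 3, nat_lit 20, nat_lit 25, nat_lit 22, nat_lit 25, nat_lit 25],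
  [nat_lit 3, nat_lit 25, nat_lit 22, nat_lit 25],
  [nat_lit 22],
  [nat_lit 21, nat_lit 21, nat_lit 22],
  [nat_lit 3, nat_lit 22, nat_lit 25, nat_lit 25],
  [nat_lit 20, nat_lit 25, nat_lit 25, nat_lit 21, nat_lit 25],
  [nat_lit 3, nat_lit 20, nat_lit 21, nat_lit 25, nat_lit 21],
  [nat_lit 25, nat_lit 22, nat_lit 22],
  [nat_lit 3, nat_lit 21, nat_lit 25, nat_lit 25, nat_lit 25],
  [nat_lit 20, nat_lit 21, nat_lit 25, nat_lit 21],
  [nat_lit 3, nat_lit 20, nat_lit 25, nat_lit 25, nat_lit 21, nat_lit 25],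
  [nat_lit 3, nat_lit 21, nat_lit 21, nat_lit 25],
  [nat_lit 25, nat_lit 25, nat_lit 22, nat_lit 25],
  [nat_lit 3, nat_lit 25, nat_lit 22, nat_lit 25, nat_lit 25],
  [nat_lit 22, nat_lit 25],
  [nat_lit 3, nat_lit 21, nat_lit 22, nat_lit 25, nat_lit 25],
  [nat_lit 21, nat_lit 22],
  [nat_lit 21, nat_lit 22, nat_lit 25],
  [nat_lit 3, nat_lit 25, nat_lit 25, nat_lit 25, nat_lit 21],
  [nat_lit 25, nat_lit 22],
  [nat_lit 3, nat_lit 22, nat_lit 25, nat_lit 25, nat_lit 25],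
  [nat_lit 3, nat_lit 25, nat_lit 22],
  [nat_lit 22, nat_lit 25, nat_lit 25, nat_lit 25],
  [nat_lit 25, nat_lit 22, nat_lit 25, nat_lit 25],
  [nat_lit 3, nat_lit 22, nat_lit 25],
  [nat_lit 21, nat_lit 25, nat_lit 25, nat_lit 25],
  [nat_lit 3, nat_lit 25, nat_lit 22, nat_lit 22],
  [nat_lit 21, nat_lit 21, nat_lit 25],
  [nat_lit 3, nat_lit 25, nat_lit 25, nat_lit 22, nat_lit 25],
  [nat_lit 21, nat_lit 22, nat_lit 25, nat_lit 25],
  [nat_lit 3, nat_lit 21, nat_lit 22],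
  [nat_lit 3, nat_lit 21, nat_lit 22, nat_lit 25],
  [nat_lit 25, nat_lit 25, nat_lit 25, nat_lit 21],
  [nat_lit 25, nat_lit 25, nat_lit 21, nat_lit 25],
  [nat_lit 3, nat_lit 21, nat_lit 25, nat_lit 21],
  [nat_lit 3, nat_lit 25, nat_lit 25, nat_lit 21, nat_lit 25],
  [nat_lit 21, nat_lit 25, nat_lit 21]]
noncomputable def pz_W : Wl := [[],
  [nat_lit 21, nat_lit 21, nat_lit 22, nat_lit 22],
  [nat_lit 21, nat_lit 22, nat_lit 22],
  [nat_lit 21],
  [nat_lit 21, nat_lit 21],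
  [nat_lit 22, nat_lit 22],
  [nat_lit 22],
  [nat_lit 21, nat_lit 21, nat_lit 22],
  [nat_lit 21, nat_lit 22]]
noncomputable def nz_W : Wl := [[nat_lit 20, nat_lit 25, nat_lit 25],
  [nat_lit 3, nat_lit 20, nat_lit 25, nat_lit 25],
  [nat_lit 20],
  [nat_lit 3, nat_lit 20],
  [nat_lit 20, nat_lit 25],
  [nat_lit 3, nat_lit 20, nat_lit 25, nat_lit 25, nat_lit 25],
  [],
  [nat_lit 3, nat_lit 25, nat_lit 25],
  [nat_lit 3, nat_lit 20, nat_lit 25],
  [nat_lit 20, nat_lit 25, nat_lit 25, nat_lit 25],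
  [nat_lit 3],
  [nat_lit 25, nat_lit 25],
  [nat_lit 3, nat_lit 25],
  [nat_lit 25, nat_lit 25, nat_lit 25],
  [nat_lit 25],
  [nat_lit 3, nat_lit 25, nat_lit 25, nat_lit 25]]
noncomputable def ce_L : List (List ℕ × List ℕ × List ℕ) := [([nat_lit 13], [nat_lit 12], [nat_lit 6, nat_lit 0, nat_lit 7, nat_lit 0]), ([nat_lit 0], [nat_lit 19], [nat_lit 0])]
noncomputable def ra_R : Wl := [[nat_lit 0, nat_lit 0],
  [nat_lit 1, nat_lit 1],
  [nat_lit 2, nat_lit 2],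
  [nat_lit 3, nat_lit 3],
  [nat_lit 4, nat_lit 4],
  [nat_lit 6, nat_lit 7],
  [nat_lit 7, nat_lit 6],
  [nat_lit 4, nat_lit 2, nat_lit 4, nat_lit 2, nat_lit 4, nat_lit 2],
  [nat_lit 0, nat_lit 2, nat_lit 0, nat_lit 2],
  [nat_lit 1, nat_lit 2, nat_lit 1, nat_lit 2],
  [nat_lit 3, nat_lit 2, nat_lit 3, nat_lit 2],
  [nat_lit 0, nat_lit 4, nat_lit 0, nat_lit 4, nat_lit 0, nat_lit 4],
  [nat_lit 1, nat_lit 4, nat_lit 1, nat_lit 4],
  [nat_lit 3, nat_lit 4, nat_lit 3, nat_lit 4],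
  [nat_lit 1, nat_lit 0, nat_lit 1, nat_lit 0, nat_lit 1, nat_lit 0, nat_lit 1, nat_lit 0, nat_lit 1, nat_lit 0, nat_lit 1, nat_lit 0, nat_lit 1, nat_lit 0, nat_lit 1, nat_lit 0],
  [nat_lit 3, nat_lit 0, nat_lit 3, nat_lit 0],
  [nat_lit 3, nat_lit 1, nat_lit 3, nat_lit 1],
  [nat_lit 7, nat_lit 7, nat_lit 3, nat_lit 2],
  [nat_lit 0, nat_lit 1, nat_lit 0, nat_lit 1, nat_lit 0, nat_lit 1, nat_lit 0, nat_lit 1, nat_lit 3, nat_lit 2],
  [nat_lit 6, nat_lit 1, nat_lit 6, nat_lit 1, nat_lit 0, nat_lit 1, nat_lit 7, nat_lit 1, nat_lit 7, nat_lit 0],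
  [nat_lit 6, nat_lit 0, nat_lit 6, nat_lit 0, nat_lit 1, nat_lit 0, nat_lit 7, nat_lit 0, nat_lit 7, nat_lit 1],
  [nat_lit 6, nat_lit 1, nat_lit 0, nat_lit 4, nat_lit 6, nat_lit 1, nat_lit 0, nat_lit 4, nat_lit 6, nat_lit 1, nat_lit 0, nat_lit 4, nat_lit 6, nat_lit 1, nat_lit 0, nat_lit 4, nat_lit 6, nat_lit 1, nat_lit 0, nat_lit 4],
  [nat_lit 0, nat_lit 6, nat_lit 0, nat_lit 4, nat_lit 6, nat_lit 4, nat_lit 0, nat_lit 6, nat_lit 0, nat_lit 4, nat_lit 6]]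
noncomputable def rw_R : Wl := [[nat_lit 5, nat_lit 5],
  [nat_lit 5, nat_lit 2, nat_lit 5, nat_lit 2],
  [nat_lit 5, nat_lit 0, nat_lit 5, nat_lit 0],
  [nat_lit 5, nat_lit 1, nat_lit 5, nat_lit 1, nat_lit 5, nat_lit 1],
  [nat_lit 3, nat_lit 5, nat_lit 3, nat_lit 5, nat_lit 3, nat_lit 5],
  [nat_lit 1, nat_lit 6, nat_lit 1, nat_lit 5, nat_lit 6, nat_lit 5, nat_lit 1, nat_lit 6, nat_lit 1, nat_lit 5, nat_lit 6]]
noncomputable def Rl : Wl := [[nat_lit 0, nat_lit 0],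
  [nat_lit 1, nat_lit 1],
  [nat_lit 2, nat_lit 2],
  [nat_lit 3, nat_lit 3],
  [nat_lit 4, nat_lit 4],
  [nat_lit 5, nat_lit 5],
  [nat_lit 6, nat_lit 7],
  [nat_lit 7, nat_lit 6],
  [nat_lit 4, nat_lit 2, nat_lit 4, nat_lit 2, nat_lit 4, nat_lit 2],
  [nat_lit 0, nat_lit 2, nat_lit 0, nat_lit 2],
  [nat_lit 1, nat_lit 2, nat_lit 1, nat_lit 2],
  [nat_lit 5, nat_lit 2, nat_lit 5, nat_lit 2],
  [nat_lit 3, nat_lit 2, nat_lit 3, nat_lit 2],
  [nat_lit 0, nat_lit 4, nat_lit 0, nat_lit 4, nat_lit 0, nat_lit 4],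
  [nat_lit 1, nat_lit 4, nat_lit 1, nat_lit 4],
  [nat_lit 5, nat_lit 4, nat_lit 5, nat_lit 4],
  [nat_lit 3, nat_lit 4, nat_lit 3, nat_lit 4],
  [nat_lit 1, nat_lit 0, nat_lit 1, nat_lit 0, nat_lit 1, nat_lit 0, nat_lit 1, nat_lit 0, nat_lit 1, nat_lit 0, nat_lit 1, nat_lit 0, nat_lit 1, nat_lit 0, nat_lit 1, nat_lit 0],
  [nat_lit 5, nat_lit 0, nat_lit 5, nat_lit 0],
  [nat_lit 3, nat_lit 0, nat_lit 3, nat_lit 0],
  [nat_lit 5, nat_lit 1, nat_lit 5, nat_lit 1, nat_lit 5, nat_lit 1],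
  [nat_lit 3, nat_lit 1, nat_lit 3, nat_lit 1],
  [nat_lit 3, nat_lit 5, nat_lit 3, nat_lit 5, nat_lit 3, nat_lit 5],
  [nat_lit 7, nat_lit 7, nat_lit 3, nat_lit 2],
  [nat_lit 0, nat_lit 1, nat_lit 0, nat_lit 1, nat_lit 0, nat_lit 1, nat_lit 0, nat_lit 1, nat_lit 3, nat_lit 2],
  [nat_lit 6, nat_lit 1, nat_lit 6, nat_lit 1, nat_lit 0, nat_lit 1, nat_lit 7, nat_lit 1, nat_lit 7, nat_lit 0],
  [nat_lit 6, nat_lit 0, nat_lit 6, nat_lit 0, nat_lit 1, nat_lit 0, nat_lit 7, nat_lit 0, nat_lit 7, nat_lit 1],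
  [nat_lit 6, nat_lit 1, nat_lit 0, nat_lit 4, nat_lit 6, nat_lit 1, nat_lit 0, nat_lit 4, nat_lit 6, nat_lit 1, nat_lit 0, nat_lit 4, nat_lit 6, nat_lit 1, nat_lit 0, nat_lit 4, nat_lit 6, nat_lit 1, nat_lit 0, nat_lit 4],
  [nat_lit 0, nat_lit 6, nat_lit 0, nat_lit 4, nat_lit 6, nat_lit 4, nat_lit 0, nat_lit 6, nat_lit 0, nat_lit 4, nat_lit 6],
  [nat_lit 1, nat_lit 6, nat_lit 1, nat_lit 5, nat_lit 6, nat_lit 5, nat_lit 1, nat_lit 6, nat_lit 1, nat_lit 5, nat_lit 6]]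
noncomputable def gW : Wl := [[nat_lit 3, nat_lit 4, nat_lit 6, nat_lit 4, nat_lit 0, nat_lit 1, nat_lit 0, nat_lit 1, nat_lit 4, nat_lit 7, nat_lit 4],
  [nat_lit 4, nat_lit 6, nat_lit 4, nat_lit 1, nat_lit 0, nat_lit 1, nat_lit 0, nat_lit 4, nat_lit 7, nat_lit 4, nat_lit 3],
  [nat_lit 3, nat_lit 0, nat_lit 6, nat_lit 4, nat_lit 7, nat_lit 3, nat_lit 1, nat_lit 0, nat_lit 1, nat_lit 4, nat_lit 7, nat_lit 0, nat_lit 2, nat_lit 7, nat_lit 1, nat_lit 4, nat_lit 6],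
  [nat_lit 2, nat_lit 4, nat_lit 6, nat_lit 4, nat_lit 7, nat_lit 3, nat_lit 1],
  [nat_lit 1, nat_lit 4, nat_lit 7, nat_lit 7, nat_lit 1, nat_lit 0, nat_lit 4, nat_lit 6, nat_lit 1, nat_lit 0, nat_lit 1, nat_lit 7, nat_lit 4, nat_lit 0, nat_lit 2, nat_lit 4]]

end H1.Oc
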